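import Mathlib

/-!
# Brute-force facts about `SL(2,5)` via quadruples over `ZMod 5`
-/

set_option autoImplicit false

namespace Cfsg.Agent.Helper56.SL25Q

abbrev Q5 := ZMod 5 × ZMod 5 × ZMod 5 × ZMod 5

def qmul (x y : Q5) : Q5 :=
  (x.1 * y.1 + x.2.1 * y.2.2.1, x.1 * y.2.1 + x.2.1 * y.2.2.2,
   x.2.2.1 * y.1 + x.2.2.2 * y.2.2.1, x.2.2.1 * y.2.1 + x.2.2.2 * y.2.2.2)

def qone : Q5 := (1, 0, 0, 1)

def qpow (x : Q5) : ℕ → Q5
  | 0 => qone
  | k + 1 => qmul (qpow x k) x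

def qdet (x : Q5) : ZMod 5 := x.1 * x.2.2.2 - x.2.1 * x.2.2.1

def qinv (x : Q5) : Q5 := (x.2.2.2, -x.2.1, -x.2.2.1, x.1)

def toMat (x : Q5) : Matrix (Fin 2) (Fin 2) (ZMod 5) := !![x.1, x.2.1; x.2.2.1, x.2.2.2]

def ofMat (A : Matrix (Fin 2) (Fin 2) (ZMod 5)) : Q5 := (A 0 0, A 0 1, A 1 0, A 1 1)

theorem toMat_ofMat (A : Matrix (Fin 2) (Fin 2) (ZMod 5)) : toMat (ofMat A) = A :=
  (Matrix.eta_fin_two A).symm

theorem ofMat_toMat (x : Q5) : ofMat (toMat x) = x := by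
  obtain ⟨a, b, c, d⟩ := x
  simp [ofMat, toMat]

theorem ofMat_injective : Function.Injective ofMat := by
  intro A B h
  rw [← toMat_ofMat A, ← toMat_ofMat B, h]

theorem toMat_qmul (x y : Q5) : toMat (qmul x y) = toMat x * toMat y := by
  unfold toMat qmul
  rw [Matrix.mul_fin_two]

theorem toMat_qone : toMat qone = 1 := by
  unfold toMat qone
  exact Matrix.one_fin_two.symm

theorem ofMat_mul (A B : Matrix (Fin 2) (Fin 2) (ZMod 5)) :
    ofMat (A * B) = qmul (ofMat A) (ofMat B) := by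
  apply_fun toMat using (fun x y h => by rw [← ofMat_toMat x, ← ofMat_toMat y, h])
  rw [toMat_ofMat, toMat_qmul, toMat_ofMat, toMat_ofMat]

theorem ofMat_one : ofMat 1 = qone := by
  rw [← toMat_qone, ofMat_toMat]

theorem ofMat_pow (A : Matrix (Fin 2) (Fin 2) (ZMod 5)) (k : ℕ) :
    ofMat (A ^ k) = qpow (ofMat A) k := by
  induction k with
  | zero => rw [pow_zero, ofMat_one]; rfl
  | succ k ih => rw [pow_succ, ofMat_mul, ih]; rfl

abbrev SL5 := Matrix.SpecialLinearGroup (Fin 2) (ZMod 5)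

def q (g : SL5) : Q5 := ofMat g.1

theorem qdet_q (g : SL5) : qdet (q g) = 1 := by
  have := g.2
  rw [Matrix.det_fin_two] at this
  exact this

theorem q_mul (g h : SL5) : q (g * h) = qmul (q g) (q h) := by
  unfold q
  rw [Matrix.SpecialLinearGroup.coe_mul, ofMat_mul]

theorem q_one : q 1 = qone := by
  unfold q
  rw [Matrix.SpecialLinearGroup.coe_one, ofMat_one]

theorem q_inv (g : SL5) : q g⁻¹ = qinv (q g) := by
  unfold q
  rw [Matrix.SpecialLinearGroup.coe_inv, Matrix.adjugate_fin_two]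
  simp [ofMat, qinv]

theorem q_pow (g : SL5) (k : ℕ) : q (g ^ k) = qpow (q g) k := by
  unfold q
  rw [Matrix.SpecialLinearGroup.coe_pow, ofMat_pow]

theorem q_injective : Function.Injective q := by
  intro g h hgh
  apply Subtype.ext
  exact ofMat_injective hgh

def mk (x : Q5) (h : qdet x = 1) : SL5 :=
  ⟨toMat x, by rw [Matrix.det_fin_two]; simpa [toMat, qdet] using h⟩

theorem q_mk (x : Q5) (h : qdet x = 1) : q (mk x h) = x := ofMat_toMat x

theorem eq_one_iff (g : SL5) : g = 1 ↔ q g = qone := by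
  rw [← q_one]
  exact q_injective.eq_iff.symm

def slEquiv : SL5 ≃ {x : Q5 // qdet x = 1} where
  toFun g := ⟨q g, qdet_q g⟩
  invFun x := mk x.1 x.2
  left_inv _ := q_injective (q_mk _ _)
  right_inv _ := Subtype.ext (q_mk _ _)

set_option maxRecDepth 100000 in
set_option synthInstance.maxSize 4096 in
theorem k_card : Fintype.card {x : Q5 // qdet x = 1} = 120 := by
  decide +kernel

theorem card_SL5 : Nat.card SL5 = 120 := by
  rw [Nat.card_congr slEquiv, Nat.card_eq_fintype_card]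
  exact k_card

/-! ### Generators -/

def qX : Q5 := (0, 4, 1, 4)
def qY : Q5 := (1, 1, 0, 1)
def qZ : Q5 := (4, 0, 0, 4)
def qW : Q5 := (0, 4, 1, 0)
def qT : Q5 := (2, 0, 0, 3)

def mX : SL5 := mk qX (by decide)
def mY : SL5 := mk qY (by decide)
def mZ : SL5 := mk qZ (by decide)

theorem mX3 : mX ^ 3 = 1 := by
  rw [eq_one_iff, q_pow, mX, q_mk]; decide

theorem mY5 : mY ^ 5 = 1 := by
  rw [eq_one_iff, q_pow, mY, q_mk]; decide

theorem mZ2 : mZ ^ 2 = 1 := by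
  rw [eq_one_iff, q_pow, mZ, q_mk]; decide

theorem mZX : mZ⁻¹ * mX * mZ * mX⁻¹ = 1 := by
  rw [eq_one_iff, q_mul, q_mul, q_mul, q_inv, q_inv, mX, mZ, q_mk, q_mk]; decide

theorem mZY : mZ⁻¹ * mY * mZ * mY⁻¹ = 1 := by
  rw [eq_one_iff, q_mul, q_mul, q_mul, q_inv, q_inv, mY, mZ, q_mk, q_mk]; decide

theorem mXY : (mX * mY) ^ 2 * mZ⁻¹ = 1 := by
  rw [eq_one_iff, q_mul, q_pow, q_mul, q_inv, mX, mY, mZ, q_mk, q_mk, q_mk]; decide

set_option maxRecDepth 100000 in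
set_option synthInstance.maxSize 4096 in
theorem k_bruhat : ∀ g : Q5, qdet g = 1 → ∃ i : Fin 5, ∃ a : Fin 4, ∃ j : Fin 5,
    g = qmul (qpow qY i.val) (qpow qT a.val) ∨
      g = qmul (qmul (qmul (qpow qY i.val) (qpow qT a.val)) qW) (qpow qY j.val) := by
  decide +kernel

theorem qW_eq : qW = qmul qX qY := by decide

theorem qT_eq : qT = qmul (qmul (qmul (qmul (qmul qW (qpow qY 2)) qW) (qpow qY 3)) qW) (qpow qY 2) := by
  decide

/-- `mX` and `mY` generate `SL(2,5)`. -/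
theorem closure_eq_top : Subgroup.closure ({mX, mY} : Set SL5) = ⊤ := by
  rw [eq_top_iff]
  intro g _
  set H := Subgroup.closure ({mX, mY} : Set SL5)
  have hX : mX ∈ H := Subgroup.subset_closure (by simp)
  have hY : mY ∈ H := Subgroup.subset_closure (by simp)
  have hW : mX * mY ∈ H := H.mul_mem hX hY
  have hT : mX * mY * mY ^ 2 * (mX * mY) * mY ^ 3 * (mX * mY) * mY ^ 2 ∈ H :=
    H.mul_mem (H.mul_mem (H.mul_mem (H.mul_mem (H.mul_mem hW (H.pow_mem hY 2)) hW)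
      (H.pow_mem hY 3)) hW) (H.pow_mem hY 2)
  have qW' : q (mX * mY) = qW := by rw [q_mul, mX, mY, q_mk, q_mk, qW_eq]
  have qY' : q mY = qY := q_mk _ _
  have qT' : q (mX * mY * mY ^ 2 * (mX * mY) * mY ^ 3 * (mX * mY) * mY ^ 2) = qT := by
    rw [q_mul, q_mul, q_mul, q_mul, q_mul, q_pow, q_pow, qW', qY', qT_eq]
  obtain ⟨i, a, j, h | h⟩ := k_bruhat (q g) (qdet_q g)
  · have : g = mY ^ i.val *
        (mX * mY * mY ^ 2 * (mX * mY) * mY ^ 3 * (mX * mY) * mY ^ 2) ^ a.val := by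
      apply q_injective
      rw [h, q_mul, q_pow, q_pow, qT', qY']
    rw [this]
    exact H.mul_mem (H.pow_mem hY _) (H.pow_mem hT _)
  · have : g = mY ^ i.val *
        (mX * mY * mY ^ 2 * (mX * mY) * mY ^ 3 * (mX * mY) * mY ^ 2) ^ a.val * (mX * mY) *
          mY ^ j.val := by
      apply q_injective
      rw [h, q_mul, q_mul, q_mul, q_pow, q_pow, q_pow, qT', qY', qW']
    rw [this]
    exact H.mul_mem (H.mul_mem (H.mul_mem (H.pow_mem hY _) (H.pow_mem hT _)) hW) (H.pow_mem hY _)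

end Cfsg.Agent.Helper56.SL25Q
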