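import Mathlib
import Cfsg.Agent.S3377

/-!
# The presentation `⟨x, y, z | x³ = y⁵ = z² = 1, z central, (xy)² = z⟩` has order at most `120`
-/

set_option autoImplicit false

namespace Cfsg.Agent.Helper56.SL25Pres

open Cfsg.Agent

/-- the relators -/
abbrev relsSL : Set (FreeGroup (Fin 3)) :=
  {FreeGroup.of (0 : Fin 3) ^ 3, FreeGroup.of (1 : Fin 3) ^ 5, FreeGroup.of (2 : Fin 3) ^ 2,
    (FreeGroup.of (2 : Fin 3))⁻¹ * FreeGroup.of 0 * FreeGroup.of 2 * (FreeGroup.of (0 : Fin 3))⁻¹,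
    (FreeGroup.of (2 : Fin 3))⁻¹ * FreeGroup.of 1 * FreeGroup.of 2 * (FreeGroup.of (1 : Fin 3))⁻¹,
    (FreeGroup.of (0 : Fin 3) * FreeGroup.of 1) ^ 2 * (FreeGroup.of (2 : Fin 3))⁻¹}

abbrev PSL : Type := PresentedGroup relsSL

theorem rels_hold {G : Type*} [Group G] (x y z : G) (hx : x ^ 3 = 1) (hy : y ^ 5 = 1)
    (hz : z ^ 2 = 1) (hzx : z⁻¹ * x * z * x⁻¹ = 1) (hzy : z⁻¹ * y * z * y⁻¹ = 1)
    (hxy : (x * y) ^ 2 * z⁻¹ = 1) : ∀ r ∈ relsSL, FreeGroup.lift ![x, y, z] r = 1 := by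
  intro r hr
  simp only [relsSL, Set.mem_insert_iff, Set.mem_singleton_iff] at hr
  rcases hr with rfl | rfl | rfl | rfl | rfl | rfl
  · simpa using hx
  · simpa using hy
  · simpa using hz
  · simpa using hzx
  · simpa using hzy
  · simpa using hxy

/-- the universal property -/
noncomputable def homOf {G : Type*} [Group G] (x y z : G) (hx : x ^ 3 = 1) (hy : y ^ 5 = 1)
    (hz : z ^ 2 = 1) (hzx : z⁻¹ * x * z * x⁻¹ = 1) (hzy : z⁻¹ * y * z * y⁻¹ = 1)
    (hxy : (x * y) ^ 2 * z⁻¹ = 1) : PSL →* G :=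
  PresentedGroup.toGroup (rels_hold x y z hx hy hz hzx hzy hxy)

theorem homOf_x {G : Type*} [Group G] (x y z : G) (hx : x ^ 3 = 1) (hy : y ^ 5 = 1)
    (hz : z ^ 2 = 1) (hzx : z⁻¹ * x * z * x⁻¹ = 1) (hzy : z⁻¹ * y * z * y⁻¹ = 1)
    (hxy : (x * y) ^ 2 * z⁻¹ = 1) :
    homOf x y z hx hy hz hzx hzy hxy (PresentedGroup.of 0) = x :=
  PresentedGroup.toGroup.of _

theorem homOf_y {G : Type*} [Group G] (x y z : G) (hx : x ^ 3 = 1) (hy : y ^ 5 = 1)
    (hz : z ^ 2 = 1) (hzx : z⁻¹ * x * z * x⁻¹ = 1) (hzy : z⁻¹ * y * z * y⁻¹ = 1)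
    (hxy : (x * y) ^ 2 * z⁻¹ = 1) :
    homOf x y z hx hy hz hzx hzy hxy (PresentedGroup.of 1) = y :=
  PresentedGroup.toGroup.of _

theorem homOf_z {G : Type*} [Group G] (x y z : G) (hx : x ^ 3 = 1) (hy : y ^ 5 = 1)
    (hz : z ^ 2 = 1) (hzx : z⁻¹ * x * z * x⁻¹ = 1) (hzy : z⁻¹ * y * z * y⁻¹ = 1)
    (hxy : (x * y) ^ 2 * z⁻¹ = 1) :
    homOf x y z hx hy hz hzx hzy hxy (PresentedGroup.of 2) = z :=
  PresentedGroup.toGroup.of _

noncomputable def gx : PSL := PresentedGroup.of 0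
noncomputable def gy : PSL := PresentedGroup.of 1
noncomputable def gz : PSL := PresentedGroup.of 2

theorem gx3 : gx ^ 3 = 1 := by
  have h : PresentedGroup.mk relsSL (FreeGroup.of (0 : Fin 3) ^ 3) = 1 :=
    PresentedGroup.one_of_mem (by simp [relsSL])
  rwa [map_pow] at h

theorem gy5 : gy ^ 5 = 1 := by
  have h : PresentedGroup.mk relsSL (FreeGroup.of (1 : Fin 3) ^ 5) = 1 :=
    PresentedGroup.one_of_mem (by simp [relsSL])
  rwa [map_pow] at h

theorem gz2 : gz ^ 2 = 1 := by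
  have h : PresentedGroup.mk relsSL (FreeGroup.of (2 : Fin 3) ^ 2) = 1 :=
    PresentedGroup.one_of_mem (by simp [relsSL])
  rwa [map_pow] at h

theorem gzx : gz⁻¹ * gx * gz * gx⁻¹ = 1 := by
  have h : PresentedGroup.mk relsSL ((FreeGroup.of (2 : Fin 3))⁻¹ * FreeGroup.of 0 *
      FreeGroup.of 2 * (FreeGroup.of (0 : Fin 3))⁻¹) = 1 :=
    PresentedGroup.one_of_mem (by simp [relsSL])
  rwa [map_mul, map_mul, map_mul, map_inv, map_inv] at h

theorem gzy : gz⁻¹ * gy * gz * gy⁻¹ = 1 := by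
  have h : PresentedGroup.mk relsSL ((FreeGroup.of (2 : Fin 3))⁻¹ * FreeGroup.of 1 *
      FreeGroup.of 2 * (FreeGroup.of (1 : Fin 3))⁻¹) = 1 :=
    PresentedGroup.one_of_mem (by simp [relsSL])
  rwa [map_mul, map_mul, map_mul, map_inv, map_inv] at h

theorem gxy : (gx * gy) ^ 2 * gz⁻¹ = 1 := by
  have h : PresentedGroup.mk relsSL ((FreeGroup.of (0 : Fin 3) * FreeGroup.of 1) ^ 2 *
      (FreeGroup.of (2 : Fin 3))⁻¹) = 1 :=
    PresentedGroup.one_of_mem (by simp [relsSL])
  rwa [map_mul, map_pow, map_mul, map_inv] at h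

theorem comm_zx : gz * gx = gx * gz := by
  have h := gzx
  have : gz⁻¹ * gx * gz * gx⁻¹ * gx = gx := by rw [h, one_mul]
  rw [inv_mul_cancel_right] at this
  calc gz * gx = gz * (gz⁻¹ * gx * gz) := by rw [this]
    _ = gx * gz := by group

theorem comm_zy : gz * gy = gy * gz := by
  have h := gzy
  have : gz⁻¹ * gy * gz * gy⁻¹ * gy = gy := by rw [h, one_mul]
  rw [inv_mul_cancel_right] at this
  calc gz * gy = gz * (gz⁻¹ * gy * gz) := by rw [this]
    _ = gy * gz := by group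

theorem gz_central : gz ∈ Subgroup.center PSL := by
  rw [Subgroup.mem_center_iff]
  intro g
  have : g ∈ Subgroup.centralizer ({gz} : Set PSL) := by
    apply PresentedGroup.generated_by
    intro j
    rw [Subgroup.mem_centralizer_iff]
    intro h hh
    rw [Set.mem_singleton_iff] at hh
    subst hh
    fin_cases j
    · exact comm_zx
    · exact comm_zy
    · rfl
  rw [Subgroup.mem_centralizer_iff] at this
  exact (this gz rfl).symm

/-- the central subgroup generated by `z` -/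
noncomputable abbrev Zs : Subgroup PSL := Subgroup.zpowers gz

instance Zs_normal : Zs.Normal := by
  constructor
  intro n hn g
  have hc : n ∈ Subgroup.center PSL := by
    have hle : Zs ≤ Subgroup.center PSL := by
      rw [Subgroup.zpowers_le]
      exact gz_central
    exact hle hn
  rw [Subgroup.mem_center_iff] at hc
  rw [hc g, mul_inv_cancel_right]
  exact hn

abbrev P5 : Type := Cfsg.Agent.S3377.P

theorem finite_P5 : Finite P5 := Cfsg.Agent.S3377.finite_P

theorem card_P5 : Nat.card P5 = 60 := by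
  obtain ⟨e⟩ := Cfsg.Agent.S3377.result
  rw [Nat.card_congr e.toEquiv, Cfsg.Agent.S3377.card_A5]

theorem rels5_hold {G : Type*} [Group G] (x y : G) (hx : x ^ 3 = 1) (hy : y ^ 5 = 1)
    (hxy : (x * y) ^ 2 = 1) : ∀ r ∈ Cfsg.Agent.S3377.rels, FreeGroup.lift ![x, y] r = 1 := by
  intro r hr
  simp only [Cfsg.Agent.S3377.rels, Set.mem_insert_iff, Set.mem_singleton_iff] at hr
  rcases hr with rfl | rfl | rfl
  · simpa using hx
  · simpa using hy
  · simpa using hxy

/-- universal property of the `A₅` presentation -/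
noncomputable def hom5 {G : Type*} [Group G] (x y : G) (hx : x ^ 3 = 1) (hy : y ^ 5 = 1)
    (hxy : (x * y) ^ 2 = 1) : P5 →* G :=
  PresentedGroup.toGroup (rels5_hold x y hx hy hxy)

theorem hom5_a {G : Type*} [Group G] (x y : G) (hx : x ^ 3 = 1) (hy : y ^ 5 = 1)
    (hxy : (x * y) ^ 2 = 1) : hom5 x y hx hy hxy (PresentedGroup.of 0) = x :=
  PresentedGroup.toGroup.of _

theorem hom5_b {G : Type*} [Group G] (x y : G) (hx : x ^ 3 = 1) (hy : y ^ 5 = 1)
    (hxy : (x * y) ^ 2 = 1) : hom5 x y hx hy hxy (PresentedGroup.of 1) = y :=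
  PresentedGroup.toGroup.of _

set_option maxRecDepth 100000 in
theorem pow30_A5 : ∀ σ : alternatingGroup (Fin 5), σ ^ 30 = 1 := by decide +kernel

/-- every element of the `A₅`-presented group has order dividing `30` -/
theorem pow30_P5 (p : P5) : p ^ 30 = 1 := by
  obtain ⟨e⟩ := Cfsg.Agent.S3377.result
  have key : ∀ σ : alternatingGroup (Fin 5), σ ^ 30 = 1 := pow30_A5
  apply e.injective
  rw [map_pow, map_one]
  exact key _

/-- the quotient by `⟨z⟩` is a quotient of the `A₅`-presented group -/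
noncomputable def toQuot : P5 →* PSL ⧸ Zs :=
  hom5 (QuotientGroup.mk' Zs gx) (QuotientGroup.mk' Zs gy)
    (by rw [← map_pow, gx3, map_one]) (by rw [← map_pow, gy5, map_one])
    (by
      rw [← map_mul, ← map_pow]
      have h : (gx * gy) ^ 2 = gz := by
        have := gxy
        rwa [mul_inv_eq_one] at this
      rw [h]
      exact (QuotientGroup.eq_one_iff gz).mpr (Subgroup.mem_zpowers gz))

theorem toQuot_surjective : Function.Surjective toQuot := by
  rw [← MonoidHom.range_eq_top, eq_top_iff]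
  intro q _
  obtain ⟨g, rfl⟩ := QuotientGroup.mk_surjective q
  have : g ∈ (toQuot.range).comap (QuotientGroup.mk' Zs) := by
    apply PresentedGroup.generated_by
    intro j
    rw [Subgroup.mem_comap]
    fin_cases j
    · exact ⟨PresentedGroup.of 0, hom5_a _ _ _ _ _⟩
    · exact ⟨PresentedGroup.of 1, hom5_b _ _ _ _ _⟩
    · have : QuotientGroup.mk' Zs (PresentedGroup.of (2 : Fin 3)) = 1 :=
        (QuotientGroup.eq_one_iff _).mpr (Subgroup.mem_zpowers gz)
      show QuotientGroup.mk' Zs (PresentedGroup.of (2 : Fin 3)) ∈ _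
      rw [this]
      exact Subgroup.one_mem _
  exact this

theorem finite_quot : Finite (PSL ⧸ Zs) := by
  have := finite_P5
  exact Finite.of_surjective toQuot toQuot_surjective

theorem card_quot_le : Nat.card (PSL ⧸ Zs) ≤ 60 := by
  have := finite_P5
  have h := Nat.card_le_card_of_surjective toQuot toQuot_surjective
  rwa [card_P5] at h

theorem orderOf_gz_dvd : orderOf gz ∣ 2 := orderOf_dvd_of_pow_eq_one gz2

theorem finite_PSL : Finite PSL := by
  have := finite_quot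
  have : Finite Zs := by
    apply Nat.finite_of_card_ne_zero
    rw [Nat.card_zpowers]
    exact (Nat.pos_of_dvd_of_pos orderOf_gz_dvd (by norm_num)).ne'
  exact Finite.of_equiv _ (Subgroup.groupEquivQuotientProdSubgroup (s := Zs)).symm

theorem card_PSL_le : Nat.card PSL ≤ 120 := by
  rw [Subgroup.card_eq_card_quotient_mul_card_subgroup Zs, Nat.card_zpowers]
  have h1 := card_quot_le
  have h2 : orderOf gz ≤ 2 := Nat.le_of_dvd (by norm_num) orderOf_gz_dvd
  calc Nat.card (PSL ⧸ Zs) * orderOf gz ≤ 60 * 2 := Nat.mul_le_mul h1 h2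
    _ = 120 := by norm_num

end Cfsg.Agent.Helper56.SL25Pres
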