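import Mathlib
import Cfsg.Agent.Helper56.SL25Pres
import Cfsg.Agent.Helper56.SL25Q

/-!
# The presented group `⟨x, y, z | x³ = y⁵ = z² = 1, z central, (xy)² = z⟩` is `SL(2,5)`
-/

set_option autoImplicit false

namespace Cfsg.Agent.Helper56.SL25Pres

open Cfsg.Agent.Helper56.SL25Q

noncomputable def toSL : PSL →* SL5 := homOf mX mY mZ mX3 mY5 mZ2 mZX mZY mXY

theorem toSL_surjective : Function.Surjective toSL := by
  rw [← MonoidHom.range_eq_top, eq_top_iff, ← closure_eq_top, Subgroup.closure_le]
  intro g hg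
  simp only [Set.mem_insert_iff, Set.mem_singleton_iff] at hg
  rcases hg with rfl | rfl
  · exact ⟨PresentedGroup.of 0, homOf_x _ _ _ _ _ _ _ _ _⟩
  · exact ⟨PresentedGroup.of 1, homOf_y _ _ _ _ _ _ _ _ _⟩

theorem card_PSL : Nat.card PSL = 120 := by
  have := finite_PSL
  have h1 := card_PSL_le
  have h2 := Nat.card_le_card_of_surjective toSL toSL_surjective
  rw [card_SL5] at h2
  omega

theorem toSL_bijective : Function.Bijective toSL := by
  have := finite_PSL
  exact (Nat.bijective_iff_surjective_and_card toSL).2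
    ⟨toSL_surjective, by rw [card_PSL, card_SL5]⟩

noncomputable def isoSL : PSL ≃* SL5 := MulEquiv.ofBijective toSL toSL_bijective

end Cfsg.Agent.Helper56.SL25Pres
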