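import Mathlib
import Cfsg.Agent.S0493
import Cfsg.Agent.Helper9.Order60
import Cfsg.Agent.Helper56.SL25Iso

/-!
# Non-solvable groups of order `120` with quaternion Sylow `2`-subgroups
-/

set_option autoImplicit false

namespace Cfsg.Agent.Helper56.Order120

open Cfsg.Agent

universe u

theorem exists_normal_of_not_simple {H : Type*} [Group H] [Nontrivial H]
    (h : ¬ IsSimpleGroup H) : ∃ N : Subgroup H, N.Normal ∧ N ≠ ⊥ ∧ N ≠ ⊤ := by
  by_contra hcon
  apply h
  refine ⟨fun N hN => ?_⟩
  by_contra h2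
  rw [not_or] at h2
  exact hcon ⟨N, hN, h2.1, h2.2⟩

theorem solvable_of_normal {H : Type*} [Group H] (N : Subgroup H) [N.Normal]
    (h1 : Group.IsSolvable N) (h2 : Group.IsSolvable (H ⧸ N)) : Group.IsSolvable H := by
  have := h1
  have := h2
  exact Group.isSolvable_of_ker_le_range N.subtype (QuotientGroup.mk' N) (by simp)

theorem card_facts {H : Type*} [Group H] [Finite H] (N : Subgroup H) (hb : N ≠ ⊥) (ht : N ≠ ⊤) :
    Nat.card N * Nat.card (H ⧸ N) = Nat.card H ∧ 1 < Nat.card N ∧ 1 < Nat.card (H ⧸ N) := by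
  have h1 : Nat.card N * Nat.card (H ⧸ N) = Nat.card H := by
    rw [← Subgroup.index_eq_card]; exact N.card_mul_index
  have h2 : Nat.card N ≠ 1 := fun h => hb (Subgroup.card_eq_one.mp h)
  have h3 : Nat.card (H ⧸ N) ≠ 1 := fun h => ht (Subgroup.index_eq_one.mp (by
    rw [Subgroup.index_eq_card]; exact h))
  have h4 : 0 < Nat.card N := Nat.card_pos
  have h5 : 0 < Nat.card (H ⧸ N) := Nat.card_pos
  exact ⟨h1, by omega, by omega⟩

theorem solvable_of_simple_lt_60 {H : Type*} [Group H] [Finite H] [IsSimpleGroup H]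
    (h : Nat.card H < 60) : Group.IsSolvable H := by
  by_cases hc : IsCyclic H
  · exact Group.isSolvable_of_comm (fun a b => hc.isMulCommutative.is_comm.comm a b)
  · have := Cfsg.Agent.S0493.result hc (by omega)
    omega

/-- Groups of order less than `60` are solvable. -/
theorem solvable_of_card_lt_60 : ∀ (n : ℕ) (H : Type u) [Group H] [Finite H],
    Nat.card H = n → n < 60 → Group.IsSolvable H := by
  intro n
  induction n using Nat.strong_induction_on with
  | _ n ih =>
    intro H _ _ hn hlt
    rcases subsingleton_or_nontrivial H with hs | hnt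
    · infer_instance
    by_cases hsimp : IsSimpleGroup H
    · exact solvable_of_simple_lt_60 (by omega)
    · obtain ⟨N, hN, hbot, htop⟩ := exists_normal_of_not_simple hsimp
      obtain ⟨h1, h2, h3⟩ := card_facts N hbot htop
      have hlt1 : Nat.card N < n := by nlinarith
      have hlt2 : Nat.card (H ⧸ N) < n := by nlinarith
      exact solvable_of_normal N (ih _ hlt1 N rfl (by omega)) (ih _ hlt2 (H ⧸ N) rfl (by omega))

/-- A non-solvable group of order `60` is simple. -/
theorem simple_of_card_60 {H : Type u} [Group H] [Finite H] (h : Nat.card H = 60)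
    (hns : ¬ Group.IsSolvable H) : IsSimpleGroup H := by
  have hnt : Nontrivial H := by
    rw [← Finite.one_lt_card_iff_nontrivial]; omega
  by_contra hsimp
  obtain ⟨N, hN, hbot, htop⟩ := exists_normal_of_not_simple hsimp
  obtain ⟨h1, h2, h3⟩ := card_facts N hbot htop
  have hlt1 : Nat.card N < 60 := by nlinarith
  have hlt2 : Nat.card (H ⧸ N) < 60 := by nlinarith
  exact hns (solvable_of_normal N (solvable_of_card_lt_60 _ N rfl hlt1)
    (solvable_of_card_lt_60 _ (H ⧸ N) rfl hlt2))

/-- There is no simple group of order `120`. -/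
theorem not_simple_of_card_120 {G : Type*} [Group G] [Finite G] [IsSimpleGroup G]
    (h : Nat.card G = 120) : False := by
  classical
  have hG : ¬ IsMulCommutative G :=
    Helper17.not_comm_of_simple_of_not_prime (by rw [h]; norm_num)
  have : Fact (Nat.Prime 5) := ⟨by norm_num⟩
  have hcard : Nat.card G = 5 ^ 1 * 24 := by rw [h]; norm_num
  have hdvd : Nat.card (Sylow 5 G) ∣ 24 :=
    Helper17.card_sylow_dvd_of_card_eq hcard (by norm_num)
  have hmod : Nat.card (Sylow 5 G) ≡ 1 [MOD 5] := card_sylow_modEq_one 5 G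
  have hne : Nat.card (Sylow 5 G) ≠ 1 :=
    Helper17.card_sylow_ne_one_of_simple hcard (by norm_num) (by norm_num) (by norm_num)
  have h6 : Nat.card (Sylow 5 G) = 6 := by
    have hle : Nat.card (Sylow 5 G) ≤ 24 := Nat.le_of_dvd (by norm_num) hdvd
    have hmod' : Nat.card (Sylow 5 G) % 5 = 1 := hmod
    generalize Nat.card (Sylow 5 G) = k at *
    interval_cases k <;> simp_all
  obtain ⟨P⟩ : Nonempty (Sylow 5 G) := inferInstance
  set N := Subgroup.normalizer ((P : Subgroup G) : Set G) with hNdef
  have hidx : N.index = 6 := by rw [← h6, P.card_eq_index_normalizer]; rfl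
  have hNtop : N ≠ ⊤ := by
    intro htop
    rw [htop, Subgroup.index_top] at hidx
    omega
  obtain ⟨f, hf⟩ := Helper17.exists_embedding_alternating hG N hNtop
  have h2le : 2 ≤ N.index := by omega
  have : Nontrivial (Fin N.index) := Fin.nontrivial_iff_two_le.mpr h2le
  have hA : Nat.card (alternatingGroup (Fin N.index)) = 360 := by
    rw [nat_card_alternatingGroup, Nat.card_eq_fintype_card, Fintype.card_fin, hidx]
    decide
  have hsimpA : IsSimpleGroup (alternatingGroup (Fin N.index)) :=
    alternatingGroup.isSimpleGroup (by rw [Nat.card_eq_fintype_card, Fintype.card_fin]; omega)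
  have hAnc : ¬ IsMulCommutative (alternatingGroup (Fin N.index)) :=
    Helper17.not_comm_of_simple_of_not_prime (by rw [hA]; norm_num)
  have hK : Nat.card f.range = 120 := by
    rw [← h]
    exact (Nat.card_congr (MonoidHom.ofInjective hf).toEquiv).symm
  have hKidx : f.range.index = 3 := by
    have := f.range.card_mul_index
    rw [hK, hA] at this
    omega
  have hKtop : f.range ≠ ⊤ := by
    intro htop
    rw [htop, Subgroup.index_top] at hKidx
    omega
  have := Helper17.two_mul_card_dvd_factorial_index hAnc f.range hKtop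
  rw [hKidx, hA] at this
  norm_num at this


theorem card_sq_eq_one_Q8 : Fintype.card {u : QuaternionGroup 2 // u ^ 2 = 1} = 2 := by
  decide +kernel

theorem pow4_Q8 : ∀ u : QuaternionGroup 2, u ^ 4 = 1 := by decide +kernel

/-- A subgroup of order at least `60` of a group of order `120` with quaternion Sylow
`2`-subgroups contains an element of order `4`. -/
theorem q8_kill {G : Type*} [Group G] [Finite G] (hG : Nat.card G = 120) (P : Sylow 2 G)
    (f : (P : Subgroup G) ≃* QuaternionGroup 2) (H : Subgroup G) (hH : 60 ≤ Nat.card H)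
    (h30 : ∀ g ∈ H, g ^ 30 = 1) : False := by
  classical
  have hP : Nat.card (P : Subgroup G) = 8 := by
    rw [Nat.card_congr f.toEquiv, Nat.card_eq_fintype_card, QuaternionGroup.card]
  have hHi := H.card_mul_index
  have hPi := (P : Subgroup G).card_mul_index
  have hSi := (H ⊓ (P : Subgroup G)).card_mul_index
  have hle := Subgroup.index_inf_le (H := H) (K := (P : Subgroup G))
  rw [hG] at hHi hPi hSi
  rw [hP] at hPi
  have hPidx : (P : Subgroup G).index = 15 := by omega
  have hHidx : H.index ≤ 2 := by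
    by_contra hcon
    push Not at hcon
    have : 60 * 3 ≤ Nat.card H * H.index := Nat.mul_le_mul hH hcon
    omega
  have hSidx : (H ⊓ (P : Subgroup G)).index ≤ 30 := by
    calc (H ⊓ (P : Subgroup G)).index ≤ H.index * (P : Subgroup G).index := hle
      _ ≤ 2 * 15 := by rw [hPidx]; exact Nat.mul_le_mul_right 15 hHidx
  have hS4 : 4 ≤ Nat.card (H ⊓ (P : Subgroup G) : Subgroup G) := by
    by_contra hcon
    push Not at hcon
    have : Nat.card (H ⊓ (P : Subgroup G) : Subgroup G) * (H ⊓ (P : Subgroup G)).index ≤ 3 * 30 :=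
      Nat.mul_le_mul (by omega) hSidx
    omega
  -- an element of `H ⊓ P` with `s ^ 2 ≠ 1`
  have hex : ∃ s ∈ H ⊓ (P : Subgroup G), s ^ 2 ≠ 1 := by
    by_contra hcon
    push Not at hcon
    let g : (H ⊓ (P : Subgroup G) : Subgroup G) → {u : QuaternionGroup 2 // u ^ 2 = 1} :=
      fun s => ⟨f ⟨s.1, s.2.2⟩, by
        rw [← map_pow]
        have : (⟨s.1, s.2.2⟩ : (P : Subgroup G)) ^ 2 = 1 := by
          apply Subtype.ext
          simpa using hcon s.1 s.2
        rw [this, map_one]⟩
    have hg : Function.Injective g := by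
      intro s t hst
      have h1 : f ⟨s.1, s.2.2⟩ = f ⟨t.1, t.2.2⟩ := congrArg Subtype.val hst
      have h2 := f.injective h1
      have h3 : s.1 = t.1 := congrArg (fun z : (P : Subgroup G) => z.1) h2
      exact Subtype.ext h3
    have := Nat.card_le_card_of_injective g hg
    rw [Nat.card_eq_fintype_card (α := {u : QuaternionGroup 2 // u ^ 2 = 1}),
      card_sq_eq_one_Q8] at this
    omega
  obtain ⟨s, hs, hs2⟩ := hex
  have hs4 : s ^ 4 = 1 := by
    have h1 : f (⟨s, hs.2⟩ ^ 4) = 1 := by rw [map_pow]; exact pow4_Q8 _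
    have h2 : (⟨s, hs.2⟩ : (P : Subgroup G)) ^ 4 = 1 := by
      apply f.injective; rw [h1, map_one]
    have := congrArg Subtype.val h2
    simpa using this
  have h30' := h30 s hs.1
  have : s ^ 30 = s ^ 2 := by
    rw [show 30 = 4 * 7 + 2 by norm_num, pow_add, pow_mul, hs4, one_pow, one_mul]
  rw [this] at h30'
  exact hs2 h30'


/-- The structure of a non-solvable group of order `120` with quaternion Sylow `2`-subgroups:
a normal subgroup of order `2` with simple quotient of order `60`. -/
theorem exists_center_quot {G : Type u} [Group G] [Finite G] (hG : Nat.card G = 120)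
    (hns : ¬ Group.IsSolvable G) (P : Sylow 2 G) (f : (P : Subgroup G) ≃* QuaternionGroup 2) :
    ∃ (Z : Subgroup G) (_ : Z.Normal), Nat.card Z = 2 ∧ IsSimpleGroup (G ⧸ Z) ∧
      Nat.card (G ⧸ Z) = 60 := by
  have hnt : Nontrivial G := by
    rw [← Finite.one_lt_card_iff_nontrivial]; omega
  have hnsimp : ¬ IsSimpleGroup G := fun h => not_simple_of_card_120 hG
  obtain ⟨N, hN, hbot, htop⟩ := exists_normal_of_not_simple hnsimp
  obtain ⟨h1, h2, h3⟩ := card_facts N hbot htop
  rw [hG] at h1
  by_cases hNs : Group.IsSolvable N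
  · have hQns : ¬ Group.IsSolvable (G ⧸ N) := fun h => hns (solvable_of_normal N hNs h)
    have hQ60 : 60 ≤ Nat.card (G ⧸ N) := by
      by_contra hcon
      exact hQns (solvable_of_card_lt_60 _ (G ⧸ N) rfl (by omega))
    have hN2 : Nat.card N = 2 := by nlinarith
    have hq : Nat.card (G ⧸ N) = 60 := by rw [hN2] at h1; omega
    exact ⟨N, hN, hN2, simple_of_card_60 hq hQns, hq⟩
  · exfalso
    have hN60 : 60 ≤ Nat.card N := by
      by_contra hcon
      exact hNs (solvable_of_card_lt_60 _ N rfl (by omega))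
    have hq2 : Nat.card (G ⧸ N) = 2 := by nlinarith
    have hN60' : Nat.card N = 60 := by rw [hq2] at h1; omega
    have hsimpN : IsSimpleGroup N := simple_of_card_60 hN60' hNs
    obtain ⟨e⟩ := Helper9.nonempty_mulEquiv_alternatingGroup_five hN60'
    refine q8_kill hG P f N hN60 ?_
    intro g hg
    have h30 : (⟨g, hg⟩ : N) ^ 30 = 1 := by
      apply e.injective
      rw [map_pow, map_one]
      exact SL25Pres.pow30_A5 _
    have := congrArg Subtype.val h30
    simpa using this


open SL25Pres in
/-- A non-solvable group of order `120` with quaternion Sylow `2`-subgroups is isomorphic to the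
presented group `PSL`. -/
theorem iso_PSL {G : Type u} [Group G] [Finite G] (hG : Nat.card G = 120)
    (hns : ¬ Group.IsSolvable G) (P : Sylow 2 G) (f : (P : Subgroup G) ≃* QuaternionGroup 2) :
    Nonempty (G ≃* PSL) := by
  classical
  obtain ⟨Z, hZn, hZ2, hsimp, h60⟩ := exists_center_quot hG hns P f
  -- the involution `z`
  obtain ⟨⟨z, hzZ⟩, hz1, hzuniq⟩ := (Nat.card_eq_two_iff' (1 : Z)).mp hZ2
  have hz1' : z ≠ 1 := fun h => hz1 (Subtype.ext h)
  have hZmem : ∀ w ∈ Z, w = 1 ∨ w = z := by
    intro w hw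
    by_cases h : w = 1
    · exact Or.inl h
    · right
      have := hzuniq ⟨w, hw⟩ (fun h' => h (congrArg Subtype.val h'))
      exact congrArg Subtype.val this
  have hzc : ∀ g : G, g * z = z * g := by
    intro g
    have hmem : g * z * g⁻¹ ∈ Z := hZn.conj_mem z hzZ g
    rcases hZmem _ hmem with h | h
    · exfalso
      apply hz1'
      have : z = g⁻¹ * (g * z * g⁻¹) * g := by group
      rw [this, h]; group
    · calc g * z = g * z * g⁻¹ * g := by group
        _ = z * g := by rw [h]
  have hz2 : z ^ 2 = 1 := by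
    have := pow_card_eq_one' (G := Z) (x := ⟨z, hzZ⟩)
    rw [hZ2] at this
    have := congrArg Subtype.val this
    simpa using this
  have hmkz : (QuotientGroup.mk' Z) z = 1 := (QuotientGroup.eq_one_iff z).mpr hzZ
  -- the quotient is `A₅`
  obtain ⟨e⟩ := Helper9.nonempty_mulEquiv_alternatingGroup_five h60
  obtain ⟨e5⟩ := Cfsg.Agent.S3377.result
  let ψ : P5 ≃* (G ⧸ Z) := e5.trans e.symm
  have ha3 : ψ (PresentedGroup.of 0) ^ 3 = 1 := by
    rw [← map_pow]
    have : (PresentedGroup.of 0 : P5) ^ 3 = 1 := by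
      have := Cfsg.Agent.S3377.a3
      simpa [pow_succ, Cfsg.Agent.S3377.a] using this
    rw [this, map_one]
  have hb5 : ψ (PresentedGroup.of 1) ^ 5 = 1 := by
    rw [← map_pow]
    have : (PresentedGroup.of 1 : P5) ^ 5 = 1 := by
      have := Cfsg.Agent.S3377.b5
      simpa [pow_succ, Cfsg.Agent.S3377.b] using this
    rw [this, map_one]
  have hab2 : (ψ (PresentedGroup.of 0) * ψ (PresentedGroup.of 1)) ^ 2 = 1 := by
    rw [← map_mul, ← map_pow]
    have : ((PresentedGroup.of 0 : P5) * PresentedGroup.of 1) ^ 2 = 1 := by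
      have := Cfsg.Agent.S3377.abab
      simpa [pow_succ, Cfsg.Agent.S3377.a, Cfsg.Agent.S3377.b, mul_assoc] using this
    rw [this, map_one]
  -- lifts
  have lift : ∀ (q : G ⧸ Z) (n : ℕ), Odd n → q ^ n = 1 →
      ∃ x : G, x ^ n = 1 ∧ (QuotientGroup.mk' Z) x = q := by
    intro q n hn hq
    obtain ⟨x0, rfl⟩ := QuotientGroup.mk'_surjective Z q
    have hmem : x0 ^ n ∈ Z := by
      rw [← QuotientGroup.eq_one_iff, ← hq]; rfl
    rcases hZmem _ hmem with h | h
    · exact ⟨x0, h, rfl⟩
    · refine ⟨x0 * z, ?_, by rw [map_mul, hmkz, mul_one]⟩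
      have hcomm : Commute x0 z := hzc x0
      rw [hcomm.mul_pow, h]
      obtain ⟨k, rfl⟩ := hn
      rw [pow_succ, pow_mul, hz2, one_pow, one_mul, ← sq, hz2]
  obtain ⟨x, hx3, hxm⟩ := lift _ 3 (by decide) ha3
  obtain ⟨y, hy5, hym⟩ := lift _ 5 (by decide) hb5
  have hxyZ : (x * y) ^ 2 ∈ Z := by
    rw [← QuotientGroup.eq_one_iff]
    show (QuotientGroup.mk' Z) ((x * y) ^ 2) = 1
    rw [map_pow, map_mul, hxm, hym, hab2]
  rcases hZmem _ hxyZ with hxy | hxy
  · -- the split case contradicts the Sylow hypothesis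
    exfalso
    let θ : P5 →* G := hom5 x y hx3 hy5 hxy
    have hθψ : (QuotientGroup.mk' Z).comp θ = ψ.toMonoidHom := by
      apply PresentedGroup.ext
      intro j
      fin_cases j
      · show (QuotientGroup.mk' Z) (θ (PresentedGroup.of 0)) = ψ (PresentedGroup.of 0)
        rw [hom5_a, hxm]
      · show (QuotientGroup.mk' Z) (θ (PresentedGroup.of 1)) = ψ (PresentedGroup.of 1)
        rw [hom5_b, hym]
    refine q8_kill hG P f θ.range ?_ ?_
    · have hsurj : Function.Surjective (fun h : θ.range => (QuotientGroup.mk' Z) h.1) := by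
        intro q
        obtain ⟨p, rfl⟩ := ψ.surjective q
        refine ⟨⟨θ p, p, rfl⟩, ?_⟩
        show ((QuotientGroup.mk' Z).comp θ) p = ψ p
        rw [hθψ]; rfl
      have := Nat.card_le_card_of_surjective _ hsurj
      rwa [h60] at this
    · rintro _ ⟨p, rfl⟩
      rw [← map_pow, pow30_P5, map_one]
  · -- the non-split case
    have hzx : z⁻¹ * x * z * x⁻¹ = 1 := by
      rw [mul_assoc z⁻¹, hzc x]; group
    have hzy : z⁻¹ * y * z * y⁻¹ = 1 := by
      rw [mul_assoc z⁻¹, hzc y]; group
    have hxyz : (x * y) ^ 2 * z⁻¹ = 1 := by rw [hxy, mul_inv_cancel]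
    let Ψ : PSL →* G := homOf x y z hx3 hy5 hz2 hzx hzy hxyz
    have hxR : x ∈ Ψ.range := ⟨PresentedGroup.of 0, homOf_x _ _ _ _ _ _ _ _ _⟩
    have hyR : y ∈ Ψ.range := ⟨PresentedGroup.of 1, homOf_y _ _ _ _ _ _ _ _ _⟩
    have hzR : z ∈ Ψ.range := ⟨PresentedGroup.of 2, homOf_z _ _ _ _ _ _ _ _ _⟩
    have hZR : Z ≤ Ψ.range := by
      intro w hw
      rcases hZmem w hw with rfl | rfl
      · exact Subgroup.one_mem _
      · exact hzR
    have hmap : ∀ p : P5, ψ p ∈ Ψ.range.map (QuotientGroup.mk' Z) := by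
      intro p
      have : p ∈ (Ψ.range.map (QuotientGroup.mk' Z)).comap ψ.toMonoidHom := by
        apply PresentedGroup.generated_by
        intro j
        rw [Subgroup.mem_comap]
        fin_cases j
        · exact ⟨x, hxR, hxm⟩
        · exact ⟨y, hyR, hym⟩
      exact this
    have hsurj : Function.Surjective Ψ := by
      rw [← MonoidHom.range_eq_top, eq_top_iff]
      intro g _
      obtain ⟨p, hp⟩ := ψ.surjective ((QuotientGroup.mk' Z) g)
      obtain ⟨r, hr, hrg⟩ := hmap p
      rw [hp] at hrg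
      have hmem : r⁻¹ * g ∈ Z := by
        rw [← QuotientGroup.eq_one_iff]
        show (QuotientGroup.mk' Z) (r⁻¹ * g) = 1
        rw [map_mul, map_inv, hrg, inv_mul_cancel]
      have : g = r * (r⁻¹ * g) := by group
      rw [this]
      exact Subgroup.mul_mem _ hr (hZR hmem)
    have := finite_PSL
    have hbij : Function.Bijective Ψ :=
      (Nat.bijective_iff_surjective_and_card Ψ).2 ⟨hsurj, by rw [card_PSL, hG]⟩
    exact ⟨(MulEquiv.ofBijective Ψ hbij).symm⟩

end Cfsg.Agent.Helper56.Order120
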