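import Mathlib

/-!
# A simple non-abelian subgroup of index 2 is the commutator subgroup
-/

set_option autoImplicit false

namespace Cfsg.Agent.Helper56

open scoped commutatorElement

theorem commutator_eq_of_simple_index_two {G : Type*} [Group G] (T : Subgroup G)
    (hT : IsSimpleGroup T) (hnc : ¬ IsMulCommutative T) (hidx : T.index = 2) :
    commutator G = T := by
  have hn : T.Normal := Subgroup.normal_of_index_eq_two hidx
  -- the quotient has order 2, hence is commutative
  have hq : IsMulCommutative (G ⧸ T) := by
    have hc : Nat.card (G ⧸ T) = 2 := by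
      rw [← Subgroup.index_eq_card]; exact hidx
    have : Fact (Nat.Prime 2) := ⟨Nat.prime_two⟩
    have : IsCyclic (G ⧸ T) := isCyclic_of_prime_card hc
    exact ⟨⟨fun a b => IsCyclic.commGroup.mul_comm a b⟩⟩
  have hle : commutator G ≤ T := Subgroup.Normal.quotient_commutative_iff_commutator_le.mp hq
  have hcn : (commutator G).Normal := by
    unfold commutator; infer_instance
  have hsn : ((commutator G).subgroupOf T).Normal := Subgroup.Normal.subgroupOf hcn T
  rcases hT.eq_bot_or_eq_top_of_normal ((commutator G).subgroupOf T) hsn with h | h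
  · exfalso
    apply hnc
    have hbot : commutator G = ⊥ := by
      rw [Subgroup.subgroupOf_eq_bot] at h
      rw [← inf_of_le_left hle]
      exact disjoint_iff.mp h
    refine ⟨⟨fun a b => ?_⟩⟩
    have hab : ⁅(a : G), (b : G)⁆ ∈ commutator G :=
      Subgroup.commutator_mem_commutator (Subgroup.mem_top _) (Subgroup.mem_top _)
    rw [hbot, Subgroup.mem_bot, commutatorElement_eq_one_iff_mul_comm] at hab
    exact Subtype.ext hab
  · rw [Subgroup.subgroupOf_eq_top] at h
    exact le_antisymm hle h

theorem not_commutative_of_simple_card {T : Type*} [Group T] (hT : IsSimpleGroup T) {n : ℕ}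
    (hcard : Nat.card T = n) (hn : ¬ n.Prime) : ¬ IsMulCommutative T := by
  intro hc
  let _ : CommGroup T := { (inferInstance : Group T) with mul_comm := fun a b => hc.is_comm.comm a b }
  have := IsSimpleGroup.prime_card (α := T)
  rw [hcard] at this
  exact hn this

/-- a simple subgroup of non-prime order `n` in a group of order `2 * n` is the commutator subgroup -/
theorem commutator_package {G : Type*} [Group G] (T : Subgroup G) (hT : IsSimpleGroup T) (n : ℕ)
    (hcard : Nat.card T = n) (hn : ¬ n.Prime) (hn0 : n ≠ 0) (hG : Nat.card G = 2 * n) :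
    (commutator G).index = 2 ∧ IsSimpleGroup (commutator G) ∧ ¬ IsMulCommutative (commutator G) ∧
      Nat.card (commutator G) = n := by
  have hidx : T.index = 2 := by
    have h := T.card_mul_index
    rw [hcard, hG, mul_comm 2 n] at h
    exact Nat.eq_of_mul_eq_mul_left (Nat.pos_of_ne_zero hn0) h
  have hnc := not_commutative_of_simple_card hT hcard hn
  have hc := commutator_eq_of_simple_index_two T hT hnc hidx
  rw [hc]
  exact ⟨hidx, hT, hnc, hcard⟩

end Cfsg.Agent.Helper56
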