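import Cfsg.Agent.Helper56.TiLin

/-!
# The Tits group `TG` inside `²F₄(2)` is simple
-/

set_option autoImplicit false

namespace Cfsg.Agent.Helper56.Tits

open Cfsg Cfsg.Lie Cfsg.Agent.Helper56 Cfsg.Agent.Helper56.BitMat Cfsg.Agent.Helper56.PermW

theorem simple_iff : IsSimpleGroup TG ↔ IsSimpleGroup T0 := MulEquiv.isSimpleGroup_congr equivTG

theorem simple_TG : IsSimpleGroup TG := simple_iff.mpr simple_T0

/-- the Tits group as a subgroup of `²F₄(2)` -/
def TS : Subgroup ↥(twistedF4 (ZMod 2) 1) := TG.subgroupOf (twistedF4 (ZMod 2) 1)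

/-- `TS` is isomorphic to `TG` -/
noncomputable def equivTS : TS ≃* TG := Subgroup.subgroupOfEquivOfLe TG_le

theorem simple_iff' : IsSimpleGroup TS ↔ IsSimpleGroup TG := MulEquiv.isSimpleGroup_congr equivTS

theorem simple_TS : IsSimpleGroup TS := simple_iff'.mpr simple_TG

theorem card_TS : Nat.card TS = 2 ^ 11 * 3 ^ 3 * 5 ^ 2 * 13 := by
  rw [Nat.card_congr equivTS.toEquiv, card_TG]
  norm_num

end Cfsg.Agent.Helper56.Tits
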