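import Mathlib

/-!
# Showing that `MulAut T` is a 2-group via a chain of invariant subgroups

`AutGood H`: every automorphism of `T` has a 2-power power fixing `H` pointwise.
`AutInv H`: `H` is invariant under all automorphisms.
* `autGood_of_cyclic`: an invariant cyclic 2-subgroup is good;
* `autGood_step`: if `H` is good and `K` is invariant with "index at most 2 over `H`", then `K` is good;
* `isPGroup_mulAut_of_autGood_top`.
-/

set_option autoImplicit false

namespace Cfsg.Agent.Helper56

variable {T : Type*} [Group T]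

/-- every automorphism has a 2-power power fixing `H` pointwise -/
def AutGood (H : Subgroup T) : Prop := ∀ α : MulAut T, ∃ k : ℕ, ∀ x ∈ H, (α ^ (2 ^ k)) x = x

/-- `H` is invariant under all automorphisms -/
def AutInv (H : Subgroup T) : Prop := ∀ α : MulAut T, ∀ x ∈ H, α x ∈ H

theorem autInv_closure {S : Set T} (hS : ∀ α : MulAut T, ∀ x ∈ S, α x ∈ S) :
    AutInv (Subgroup.closure S) := by
  intro α x hx
  induction hx using Subgroup.closure_induction with
  | mem y hy => exact Subgroup.subset_closure (hS α y hy)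
  | one => rw [map_one]; exact Subgroup.one_mem _
  | mul y z _ _ ihy ihz => rw [map_mul]; exact Subgroup.mul_mem _ ihy ihz
  | inv y _ ihy => rw [map_inv]; exact Subgroup.inv_mem _ ihy

theorem autInv_centralizer {H : Subgroup T} (hH : AutInv H) :
    AutInv (Subgroup.centralizer (H : Set T)) := by
  intro α x hx
  rw [Subgroup.mem_centralizer_iff] at hx ⊢
  intro y hy
  have h1 : α⁻¹ y ∈ H := hH α⁻¹ y hy
  have h2 := hx (α⁻¹ y) h1
  have h3 := congrArg α h2
  rw [map_mul, map_mul] at h3
  have h4 : α (α⁻¹ y) = y := by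
    rw [← MulAut.mul_apply, mul_inv_cancel, MulAut.one_apply]
  rwa [h4] at h3

theorem isPGroup_mulAut_of_autGood_top (h : AutGood (⊤ : Subgroup T)) : IsPGroup 2 (MulAut T) := by
  intro α
  obtain ⟨k, hk⟩ := h α
  refine ⟨k, ?_⟩
  ext x
  rw [MulAut.one_apply]
  exact hk x (Subgroup.mem_top x)

theorem autGood_step {N : ℕ} (hexp : ∀ x : T, x ^ (2 ^ N) = 1) {H K : Subgroup T}
    (hH : AutInv H) (hK : AutInv K)
    (hidx : ∀ x ∈ K, ∀ y ∈ K, x ∉ H → y ∉ H → x⁻¹ * y ∈ H) (hg : AutGood H) : AutGood K := by
  intro α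
  obtain ⟨k, hk⟩ := hg α
  refine ⟨k + N, ?_⟩
  intro x hx
  set β := α ^ (2 ^ k) with hβ
  have hpow : α ^ (2 ^ (k + N)) = β ^ (2 ^ N) := by
    rw [hβ, ← pow_mul, pow_add]
  rw [hpow]
  by_cases hxH : x ∈ H
  · have hfix : ∀ j : ℕ, (β ^ j) x = x := by
      intro j
      induction j with
      | zero => rw [pow_zero, MulAut.one_apply]
      | succ j ih => rw [pow_succ, MulAut.mul_apply, hk x hxH, ih]
    exact hfix _
  · have hβx : β x ∈ K := hK β x hx
    have hβxH : β x ∉ H := by
      intro hcon
      have := hH β⁻¹ _ hcon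
      rw [← MulAut.mul_apply, inv_mul_cancel, MulAut.one_apply] at this
      exact hxH this
    have hu : x⁻¹ * β x ∈ H := hidx x hx (β x) hβx hxH hβxH
    set u := x⁻¹ * β x with hu_def
    have hβu : β u = u := hk u hu
    have hβx' : β x = x * u := by rw [hu_def]; group
    have hiter : ∀ j : ℕ, (β ^ j) x = x * u ^ j := by
      intro j
      induction j with
      | zero => rw [pow_zero, MulAut.one_apply, pow_zero, mul_one]
      | succ j ih =>
        rw [pow_succ', MulAut.mul_apply, ih, map_mul, map_pow, hβu, hβx', pow_succ', mul_assoc]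
    rw [hiter, hexp u, mul_one]

/-- restriction of an automorphism to an invariant subgroup -/
def autRes {C : Subgroup T} (hC : AutInv C) (α : MulAut T) : MulAut C where
  toFun x := ⟨α x, hC α x x.2⟩
  invFun x := ⟨α⁻¹ x, hC α⁻¹ x x.2⟩
  left_inv x := by
    apply Subtype.ext
    show α⁻¹ (α x) = x
    rw [← MulAut.mul_apply, inv_mul_cancel, MulAut.one_apply]
  right_inv x := by
    apply Subtype.ext
    show α (α⁻¹ x) = x
    rw [← MulAut.mul_apply, mul_inv_cancel, MulAut.one_apply]
  map_mul' x y := by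
    apply Subtype.ext
    show α (x * y : T) = α x * α y
    rw [map_mul]

theorem autRes_pow {C : Subgroup T} (hC : AutInv C) (α : MulAut T) (j : ℕ) (x : C) :
    (((autRes hC α) ^ j) x : T) = (α ^ j) x := by
  induction j generalizing x with
  | zero => rw [pow_zero, pow_zero, MulAut.one_apply, MulAut.one_apply]
  | succ j ih =>
    rw [pow_succ, pow_succ, MulAut.mul_apply, MulAut.mul_apply, ih]
    rfl

theorem autGood_of_cyclic {C : Subgroup T} [Finite C] (hC : AutInv C) (hcyc : IsCyclic C)
    (h2 : IsPGroup 2 C) : AutGood C := by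
  have hP : IsPGroup 2 (MulAut C) := by
    obtain ⟨e, he⟩ := h2.exists_card_eq
    have hcard : Nat.card (MulAut C) = Nat.totient (2 ^ e) := by
      rw [IsCyclic.card_mulAut, he]
    rcases Nat.eq_zero_or_pos e with h0 | hpos
    · rw [h0, pow_zero, Nat.totient_one] at hcard
      exact IsPGroup.of_card (n := 0) (by rw [hcard, pow_zero])
    · rw [Nat.totient_prime_pow Nat.prime_two hpos] at hcard
      exact IsPGroup.of_card (n := e - 1) (by rw [hcard]; norm_num)
  intro α
  obtain ⟨k, hk⟩ := hP (autRes hC α)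
  refine ⟨k, ?_⟩
  intro x hx
  have := autRes_pow hC α (2 ^ k) ⟨x, hx⟩
  rw [hk, MulAut.one_apply] at this
  exact this.symm

end Cfsg.Agent.Helper56
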