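import Cfsg.Agent.Helper56.BitMat

/-!
# Matrix groups over `ZMod 2` acting on a finite coded set of vectors
-/

set_option autoImplicit false

namespace Cfsg.Agent.Helper56.BitMat

variable {a b N : ℕ}

/-- the point coded by the `k`-th entry of `omega` -/
def pt (omega : List ℕ) (k : Fin N) : Fin a ⊕ Fin b → ZMod 2 := vecOf (omega.getD k.val 0)

theorem pt_injective (omega : List ℕ) (hlen : omega.length = N) (hincr : omega.Pairwise (· < ·))
    (hlt : ∀ x ∈ omega, x < 2 ^ (a + b)) :
    Function.Injective (pt (a := a) (b := b) (N := N) omega) := by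
  intro k k' h
  have hk : k.val < omega.length := by rw [hlen]; exact k.isLt
  have hk' : k'.val < omega.length := by rw [hlen]; exact k'.isLt
  unfold pt at h
  rw [List.getD_eq_getElem _ _ hk, List.getD_eq_getElem _ _ hk'] at h
  have h2 := vecOf_injective (hlt _ (List.getElem_mem hk)) (hlt _ (List.getElem_mem hk')) h
  have hnd : omega.Nodup := hincr.imp (fun h => Nat.ne_of_lt h)
  exact Fin.ext ((List.Nodup.getElem_inj_iff hnd).mp h2)

/-- the subgroup of `GL` permuting the coded points -/
def Act (omega : List ℕ) : Subgroup (GL (Fin a ⊕ Fin b) (ZMod 2)) where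
  carrier := {g | ∃ π : Equiv.Perm (Fin N), ∀ k,
    (g : Matrix (Fin a ⊕ Fin b) (Fin a ⊕ Fin b) (ZMod 2)).mulVec (pt omega k) = pt omega (π k)}
  one_mem' := ⟨1, fun k => by simp⟩
  mul_mem' := by
    rintro g h ⟨π, hπ⟩ ⟨ρ, hρ⟩
    refine ⟨π * ρ, fun k => ?_⟩
    rw [Units.val_mul, ← Matrix.mulVec_mulVec, hρ, hπ]
    rfl
  inv_mem' := by
    rintro g ⟨π, hπ⟩
    refine ⟨π⁻¹, fun k => ?_⟩
    have h := hπ (π⁻¹ k)
    have e : π (π⁻¹ k) = k := Equiv.apply_symm_apply π k
    rw [e] at h
    rw [← h, Matrix.mulVec_mulVec, ← Units.val_mul, inv_mul_cancel, Units.val_one, Matrix.one_mulVec]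

theorem mem_Act {omega : List ℕ} {g : GL (Fin a ⊕ Fin b) (ZMod 2)} :
    g ∈ Act (N := N) omega ↔ ∃ π : Equiv.Perm (Fin N), ∀ k,
      (g : Matrix (Fin a ⊕ Fin b) (Fin a ⊕ Fin b) (ZMod 2)).mulVec (pt omega k) = pt omega (π k) :=
  Iff.rfl

/-- the permutation induced on the points -/
noncomputable def actPerm (omega : List ℕ) (g : Act (a := a) (b := b) (N := N) omega) :
    Equiv.Perm (Fin N) := Classical.choose g.property

theorem actPerm_spec (omega : List ℕ) (g : Act (a := a) (b := b) (N := N) omega) (k : Fin N) :
    (g.val : Matrix (Fin a ⊕ Fin b) (Fin a ⊕ Fin b) (ZMod 2)).mulVec (pt omega k) =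
      pt omega (actPerm omega g k) := Classical.choose_spec g.property k

theorem actPerm_unique {omega : List ℕ} (hinj : Function.Injective (pt (a := a) (b := b) (N := N) omega))
    (g : Act (a := a) (b := b) (N := N) omega) (π : Equiv.Perm (Fin N))
    (h : ∀ k, (g.val : Matrix (Fin a ⊕ Fin b) (Fin a ⊕ Fin b) (ZMod 2)).mulVec (pt omega k) =
      pt omega (π k)) : actPerm omega g = π := by
  ext k
  have h1 := actPerm_spec omega g k
  rw [h k] at h1
  exact congrArg Fin.val (hinj h1).symm

/-- the action as a homomorphism -/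
noncomputable def actHom {omega : List ℕ}
    (hinj : Function.Injective (pt (a := a) (b := b) (N := N) omega)) :
    Act (a := a) (b := b) (N := N) omega →* Equiv.Perm (Fin N) where
  toFun := actPerm omega
  map_one' := actPerm_unique hinj 1 1 (fun k => by simp)
  map_mul' := fun g h => actPerm_unique hinj (g * h) (actPerm omega g * actPerm omega h) (fun k => by
    rw [Subgroup.coe_mul, Units.val_mul, ← Matrix.mulVec_mulVec, actPerm_spec, actPerm_spec]
    rfl)

theorem actHom_apply {omega : List ℕ}
    (hinj : Function.Injective (pt (a := a) (b := b) (N := N) omega))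
    (g : Act (a := a) (b := b) (N := N) omega) : actHom hinj g = actPerm omega g := rfl

theorem actHom_injective {omega : List ℕ}
    (hinj : Function.Injective (pt (a := a) (b := b) (N := N) omega))
    (hspan : ∀ j : Fin a ⊕ Fin b, (Pi.single j 1 : Fin a ⊕ Fin b → ZMod 2) ∈
      Submodule.span (ZMod 2) (Set.range (pt (a := a) (b := b) (N := N) omega))) :
    Function.Injective (actHom hinj) := by
  rw [injective_iff_map_eq_one]
  intro g hg
  have hfix : ∀ k : Fin N, (g.val : Matrix (Fin a ⊕ Fin b) (Fin a ⊕ Fin b) (ZMod 2)).mulVec (pt omega k) =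
      pt omega k := by
    intro k
    have := actPerm_spec omega g k
    rw [← actHom_apply hinj, hg] at this
    exact this
  set M : Matrix (Fin a ⊕ Fin b) (Fin a ⊕ Fin b) (ZMod 2) := g.val.val with hM
  have hsub : Submodule.span (ZMod 2) (Set.range (pt (a := a) (b := b) (N := N) omega)) ≤
      LinearMap.eqLocus (Matrix.mulVecLin M) LinearMap.id := by
    rw [Submodule.span_le]
    rintro v ⟨k, rfl⟩
    show Matrix.mulVecLin M (pt omega k) = LinearMap.id (pt omega k)
    rw [Matrix.mulVecLin_apply, LinearMap.id_apply]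
    exact hfix k
  have hcol : ∀ j, M.mulVec (Pi.single j 1) = Pi.single j 1 := by
    intro j
    have := hsub (hspan j)
    rw [LinearMap.mem_eqLocus, Matrix.mulVecLin_apply, LinearMap.id_apply] at this
    exact this
  have hM1 : M = 1 := by
    ext i j
    have := congrFun (hcol j) i
    rw [Matrix.mulVec_single_one] at this
    rw [Matrix.one_apply]
    simp only [Matrix.col_apply, Pi.single_apply] at this
    exact this
  apply Subtype.ext
  apply Units.ext
  rw [Subgroup.coe_one, Units.val_one]
  exact hM1

/-- xor of the coded points with indices in `l` -/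
def xorFold (omega : List ℕ) (l : List ℕ) : ℕ := l.foldl (fun acc k => acc ^^^ omega.getD k 0) 0

theorem vecOf_xorFold_mem (omega : List ℕ) (l : List ℕ) (hl : ∀ k ∈ l, k < N) :
    vecOf (a := a) (b := b) (xorFold omega l) ∈
      Submodule.span (ZMod 2) (Set.range (pt (a := a) (b := b) (N := N) omega)) := by
  unfold xorFold
  have key : ∀ (l : List ℕ) (acc : ℕ), (∀ k ∈ l, k < N) →
      vecOf (a := a) (b := b) acc ∈
        Submodule.span (ZMod 2) (Set.range (pt (a := a) (b := b) (N := N) omega)) →
      vecOf (a := a) (b := b) (l.foldl (fun acc k => acc ^^^ omega.getD k 0) acc) ∈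
        Submodule.span (ZMod 2) (Set.range (pt (a := a) (b := b) (N := N) omega)) := by
    intro l
    induction l with
    | nil => intro acc _ h; exact h
    | cons k rest ih =>
      intro acc hk h
      rw [List.foldl_cons]
      apply ih
      · intro k' hk'; exact hk k' (List.mem_cons_of_mem _ hk')
      · rw [vecOf_xor]
        apply Submodule.add_mem _ h
        apply Submodule.subset_span
        exact ⟨⟨k, hk k (List.mem_cons_self)⟩, rfl⟩
  apply key l 0 hl
  rw [vecOf_zero]
  exact Submodule.zero_mem _

/-- composition of coded matrices -/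
def mulCols (A B : List ℕ) : List ℕ := B.map (applyCols A)

/-- product of a list of coded matrices -/
def prodCols (n : ℕ) : List (List ℕ) → List ℕ
  | [] => idCols n
  | A :: rest => mulCols A (prodCols n rest)

theorem prod_matOf (Ls : List (List ℕ)) (h : ∀ A ∈ Ls, A.length = a + b) :
    (Ls.map (fun A => matOf (a := a) (b := b) A)).prod = matOf (prodCols (a + b) Ls) := by
  induction Ls with
  | nil => simp only [List.map_nil, List.prod_nil, prodCols]; exact matOf_idCols.symm
  | cons A rest ih =>
    rw [List.map_cons, List.prod_cons, ih (fun A' hA' => h A' (List.mem_cons_of_mem _ hA')), prodCols,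
      mulCols, matOf_mul A _ (h A List.mem_cons_self)]

end Cfsg.Agent.Helper56.BitMat
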