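import Mathlib

/-!
# Bit-coded vectors and matrices over `ZMod 2` on the index type `Fin a ⊕ Fin b`
-/

set_option autoImplicit false

namespace Cfsg.Agent.Helper56.BitMat

/-- position of an index -/
def pos {a b : ℕ} : Fin a ⊕ Fin b → ℕ
  | Sum.inl i => i.val
  | Sum.inr s => a + s.val

theorem pos_lt {a b : ℕ} (i : Fin a ⊕ Fin b) : pos i < a + b := by
  cases i with
  | inl i => simp only [pos]; omega
  | inr s => simp only [pos]; omega

theorem pos_injective {a b : ℕ} : Function.Injective (pos : Fin a ⊕ Fin b → ℕ) := by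
  intro i j h
  cases i with
  | inl i =>
    cases j with
    | inl j => simp only [pos] at h; exact congrArg Sum.inl (Fin.ext h)
    | inr t => simp only [pos] at h; have := i.isLt; omega
  | inr s =>
    cases j with
    | inl j => simp only [pos] at h; have := j.isLt; omega
    | inr t => simp only [pos] at h; exact congrArg Sum.inr (Fin.ext (by omega))

/-- a bit as an element of `ZMod 2` -/
def bitZ (c k : ℕ) : ZMod 2 := if c.testBit k = true then 1 else 0

theorem bitZ_xor (x y k : ℕ) : bitZ (x ^^^ y) k = bitZ x k + bitZ y k := by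
  unfold bitZ
  rw [Nat.testBit_xor]
  cases x.testBit k <;> cases y.testBit k <;> decide

theorem bitZ_zero (k : ℕ) : bitZ 0 k = 0 := by
  unfold bitZ; simp

theorem bitZ_eq_iff (x y k : ℕ) : bitZ x k = bitZ y k ↔ x.testBit k = y.testBit k := by
  unfold bitZ
  cases x.testBit k <;> cases y.testBit k <;> decide

theorem bitZ_two_pow (j k : ℕ) : bitZ (2 ^ j) k = if j = k then 1 else 0 := by
  unfold bitZ
  rw [Nat.testBit_two_pow]
  by_cases h : j = k <;> simp [h]

/-- the vector coded by `c` -/
def vecOf {a b : ℕ} (c : ℕ) : Fin a ⊕ Fin b → ZMod 2 := fun i => bitZ c (pos i)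

/-- the matrix with the coded columns `cols` -/
def matOf {a b : ℕ} (cols : List ℕ) : Matrix (Fin a ⊕ Fin b) (Fin a ⊕ Fin b) (ZMod 2) :=
  Matrix.of fun i j => bitZ (cols.getD (pos j) 0) (pos i)

/-- xor of the columns selected by the bits `k, k+1, ...` of `c` -/
def applyAux : List ℕ → ℕ → ℕ → ℕ → ℕ
  | [], _, _, acc => acc
  | col :: rest, c, k, acc => applyAux rest c (k + 1) (if c.testBit k = true then acc ^^^ col else acc)

/-- the coded matrix applied to the coded vector -/
def applyCols (cols : List ℕ) (c : ℕ) : ℕ := applyAux cols c 0 0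

theorem bitZ_applyAux (p : ℕ) : ∀ (cols : List ℕ) (c k acc : ℕ),
    bitZ (applyAux cols c k acc) p =
      bitZ acc p + ∑ t ∈ Finset.range cols.length, bitZ (cols.getD t 0) p * bitZ c (k + t)
  | [], c, k, acc => by simp [applyAux]
  | col :: rest, c, k, acc => by
    rw [applyAux, bitZ_applyAux p rest c (k + 1), List.length_cons, Finset.sum_range_succ']
    simp only [List.getD_cons_succ, List.getD_cons_zero, add_zero]
    have e : ∀ t, k + 1 + t = k + (t + 1) := fun t => by omega
    simp only [e]
    by_cases h : c.testBit k = true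
    · rw [if_pos h, bitZ_xor]
      have : bitZ c k = 1 := by unfold bitZ; rw [if_pos h]
      rw [this, mul_one]
      ring
    · rw [if_neg h]
      have : bitZ c k = 0 := by unfold bitZ; rw [if_neg h]
      rw [this, mul_zero, add_zero]

theorem sum_pos {a b : ℕ} (f : ℕ → ZMod 2) :
    ∑ j : Fin a ⊕ Fin b, f (pos j) = ∑ t ∈ Finset.range (a + b), f t := by
  rw [Fintype.sum_sum_type, Finset.sum_range_add]
  congr 1
  · exact Fin.sum_univ_eq_sum_range (fun t => f t) a
  · exact Fin.sum_univ_eq_sum_range (fun t => f (a + t)) b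

theorem matOf_mulVec {a b : ℕ} (cols : List ℕ) (hl : cols.length = a + b) (c : ℕ) :
    (matOf (a := a) (b := b) cols).mulVec (vecOf c) = vecOf (applyCols cols c) := by
  funext i
  unfold applyCols
  simp only [Matrix.mulVec, dotProduct, matOf, Matrix.of_apply, vecOf]
  rw [bitZ_applyAux, bitZ_zero, zero_add, hl]
  simp only [zero_add]
  exact sum_pos (a := a) (b := b) (fun t => bitZ (cols.getD t 0) (pos i) * bitZ c t)

theorem applyCols_zero : ∀ (cols : List ℕ), applyCols cols 0 = 0 := by
  intro cols
  unfold applyCols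
  have : ∀ (cols : List ℕ) (k : ℕ), applyAux cols 0 k 0 = 0 := by
    intro cols
    induction cols with
    | nil => intro k; rfl
    | cons col rest ih => intro k; rw [applyAux]; simp only [Nat.zero_testBit, Bool.false_eq_true, if_false]; exact ih (k + 1)
  exact this cols 0

theorem matOf_mul {a b : ℕ} (A B : List ℕ) (hA : A.length = a + b) :
    matOf (a := a) (b := b) A * matOf B = matOf (B.map (applyCols A)) := by
  ext i j
  have h1 : (matOf (a := a) (b := b) A * matOf (a := a) (b := b) B) i j =
      ((matOf (a := a) (b := b) A).mulVec (vecOf (B.getD (pos j) 0))) i := by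
    simp only [Matrix.mul_apply, Matrix.mulVec, dotProduct, matOf, Matrix.of_apply, vecOf]
  rw [h1, matOf_mulVec A hA]
  simp only [matOf, Matrix.of_apply, vecOf]
  congr 1
  by_cases hj : pos j < B.length
  · rw [List.getD_eq_getElem _ _ hj, List.getD_eq_getElem _ _ (by rw [List.length_map]; exact hj),
      List.getElem_map]
  · rw [List.getD_eq_default _ _ (by omega), List.getD_eq_default _ _ (by rw [List.length_map]; omega),
      applyCols_zero]

/-- the coded identity matrix -/
def idCols (n : ℕ) : List ℕ := (List.range n).map (fun j => 2 ^ j)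

theorem matOf_idCols {a b : ℕ} : matOf (a := a) (b := b) (idCols (a + b)) = 1 := by
  ext i j
  simp only [matOf, Matrix.of_apply, idCols]
  have hj := pos_lt j
  rw [List.getD_eq_getElem _ _ (by rw [List.length_map, List.length_range]; exact hj), List.getElem_map,
    List.getElem_range, bitZ_two_pow, Matrix.one_apply]
  by_cases h : i = j
  · subst h; simp
  · rw [if_neg h, if_neg]
    intro h'
    exact h (pos_injective h'.symm)

theorem vecOf_xor {a b : ℕ} (x y : ℕ) : vecOf (a := a) (b := b) (x ^^^ y) = vecOf x + vecOf y := by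
  funext i
  simp only [vecOf, Pi.add_apply, bitZ_xor]

theorem vecOf_zero {a b : ℕ} : vecOf (a := a) (b := b) 0 = 0 := by
  funext i
  simp only [vecOf, bitZ_zero, Pi.zero_apply]

theorem vecOf_two_pow {a b : ℕ} (j : Fin a ⊕ Fin b) : vecOf (a := a) (b := b) (2 ^ pos j) = Pi.single j 1 := by
  funext i
  simp only [vecOf, bitZ_two_pow, Pi.single_apply]
  by_cases h : i = j
  · subst h; simp
  · rw [if_neg h, if_neg]
    intro h'
    exact h (pos_injective h'.symm)

theorem vecOf_injective {a b : ℕ} {x y : ℕ} (hx : x < 2 ^ (a + b)) (hy : y < 2 ^ (a + b))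
    (h : vecOf (a := a) (b := b) x = vecOf y) : x = y := by
  apply Nat.eq_of_testBit_eq
  intro k
  by_cases hk : k < a + b
  · have : ∃ i : Fin a ⊕ Fin b, pos i = k := by
      by_cases hka : k < a
      · exact ⟨Sum.inl ⟨k, hka⟩, rfl⟩
      · exact ⟨Sum.inr ⟨k - a, by omega⟩, by simp only [pos]; omega⟩
    obtain ⟨i, rfl⟩ := this
    have := congrFun h i
    simp only [vecOf] at this
    exact (bitZ_eq_iff _ _ _).mp this
  · have h2 : 2 ^ (a + b) ≤ 2 ^ k := Nat.pow_le_pow_right (by norm_num) (by omega)
    rw [Nat.testBit_lt_two_pow (lt_of_lt_of_le hx h2), Nat.testBit_lt_two_pow (lt_of_lt_of_le hy h2)]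

end Cfsg.Agent.Helper56.BitMat
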