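import Mathlib

/-!
# Carmichael's presentation of the alternating group: the abstract order bound

`CarRel m x` says that `x 0, …, x (m-1)` satisfy Carmichael's relations.  We prove that the subgroup
generated by them is finite of order at most `(m+2)!/2`, by coset enumeration over the subgroup
generated by the first `m-1` of them.
-/

set_option autoImplicit false

namespace Cfsg.Agent.Helper56.Carmichael

variable {K : Type*} [Group K]

/-- Carmichael's relations for `x 0, …, x (m-1)`. -/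
structure CarRel (m : ℕ) (x : ℕ → K) : Prop where
  r0 : 0 < m → x 0 ^ 3 = 1
  r1 : ∀ i, 1 ≤ i → i < m → x i ^ 2 = 1
  r2 : ∀ i, i + 1 < m → (x i * x (i + 1)) ^ 3 = 1
  r3 : ∀ i j, i + 1 < j → j < m → (x i * x j) ^ 2 = 1

theorem CarRel.mono {m m' : ℕ} {x : ℕ → K} (h : CarRel m' x) (hm : m ≤ m') : CarRel m x where
  r0 := fun h0 => h.r0 (lt_of_lt_of_le h0 hm)
  r1 := fun i h1 hi => h.r1 i h1 (lt_of_lt_of_le hi hm)
  r2 := fun i hi => h.r2 i (lt_of_lt_of_le hi hm)
  r3 := fun i j hij hj => h.r3 i j hij (lt_of_lt_of_le hj hm)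

/-- The subgroup generated by the first `m` elements. -/
def Hm (x : ℕ → K) (m : ℕ) : Subgroup K := Subgroup.closure (x '' Set.Iio m)

theorem x_mem_Hm (x : ℕ → K) {i m : ℕ} (h : i < m) : x i ∈ Hm x m :=
  Subgroup.subset_closure ⟨i, h, rfl⟩

/-! ### Generic consequences of relations -/

theorem inv_of_sq {s : K} (h : s ^ 2 = 1) : s⁻¹ = s :=
  inv_eq_of_mul_eq_one_left (by rwa [← sq])

theorem comm_of {s t : K} (hs : s ^ 2 = 1) (ht : t ^ 2 = 1) (hst : (s * t) ^ 2 = 1) :
    s * t = t * s := by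
  have h := inv_of_sq hst
  rw [mul_inv_rev, inv_of_sq hs, inv_of_sq ht] at h
  exact h.symm

theorem braid_of {s t : K} (hs : s ^ 2 = 1) (ht : t ^ 2 = 1) (hst : (s * t) ^ 3 = 1) :
    s * t * s = t * s * t := by
  have h : s * t * s * (t * s * t) = 1 := by
    rw [← hst]; simp only [pow_succ, pow_zero, one_mul, mul_assoc]
  have h2 := eq_inv_of_mul_eq_one_left h
  rw [mul_inv_rev, mul_inv_rev, inv_of_sq hs, inv_of_sq ht, ← mul_assoc] at h2
  exact h2

theorem conj_inv_of {a s : K} (hs : s ^ 2 = 1) (has : (a * s) ^ 2 = 1) :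
    s * a = a⁻¹ * s := by
  have h := inv_of_sq has
  rw [mul_inv_rev, inv_of_sq hs] at h
  -- h : s * a⁻¹ = a * s
  have : a⁻¹ * (a * s) * a = a⁻¹ * (s * a⁻¹) * a := by rw [h]
  simp only [mul_assoc, inv_mul_cancel, mul_one, inv_mul_cancel_left] at this
  exact this

theorem conj_inv_of' {a s : K} (hs : s ^ 2 = 1) (has : (a * s) ^ 2 = 1) :
    s * a⁻¹ = a * s := by
  have h := inv_of_sq has
  rw [mul_inv_rev, inv_of_sq hs] at h
  exact h

theorem s1a_of {a s : K} (hs : s ^ 2 = 1) (h : (a * s) ^ 3 = 1) :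
    s * a * s = a⁻¹ * s * a⁻¹ := by
  have h1 : a * s * a * (s * a * s) = 1 := by
    rw [← h]; simp only [pow_succ, pow_zero, one_mul, mul_assoc]
  have h2 := eq_inv_of_mul_eq_one_right h1
  rw [mul_inv_rev, mul_inv_rev, inv_of_sq hs, ← mul_assoc] at h2
  exact h2

theorem s1a_of' {a s : K} (hs : s ^ 2 = 1) (h : (a * s) ^ 3 = 1) :
    s * a⁻¹ * s = a * s * a := by
  have h1 := s1a_of hs h
  have h2 := congrArg (·⁻¹) h1
  simp only [mul_inv_rev, inv_inv, inv_of_sq hs, ← mul_assoc] at h2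
  exact h2


/-! ### Specific consequences -/

section rel

variable {x : ℕ → K} {m : ℕ} (hR : CarRel (m + 1) x)
include hR

theorem sq_x {i : ℕ} (h1 : 1 ≤ i) (hm : i ≤ m) : x i ^ 2 = 1 := hR.r1 i h1 (by omega)

theorem x_mul_self {i : ℕ} (h1 : 1 ≤ i) (hm : i ≤ m) : x i * x i = 1 := by
  rw [← sq]; exact sq_x hR h1 hm

theorem comm_x {i j : ℕ} (h1 : 1 ≤ i) (hij : i + 2 ≤ j) (hm : j ≤ m) : x i * x j = x j * x i :=
  comm_of (sq_x hR h1 (by omega)) (sq_x hR (by omega) hm) (hR.r3 i j (by omega) (by omega))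

theorem braid_x {i : ℕ} (h1 : 1 ≤ i) (hm : i + 1 ≤ m) :
    x i * x (i + 1) * x i = x (i + 1) * x i * x (i + 1) :=
  braid_of (sq_x hR h1 (by omega)) (sq_x hR (by omega) hm) (hR.r2 i (by omega))

theorem x_a {j : ℕ} (h2 : 2 ≤ j) (hm : j ≤ m) : x j * x 0 = (x 0)⁻¹ * x j :=
  conj_inv_of (sq_x hR (by omega) hm) (hR.r3 0 j (by omega) (by omega))

theorem x_a' {j : ℕ} (h2 : 2 ≤ j) (hm : j ≤ m) : x j * (x 0)⁻¹ = x 0 * x j :=
  conj_inv_of' (sq_x hR (by omega) hm) (hR.r3 0 j (by omega) (by omega))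

theorem s1_a (hm : 1 ≤ m) : x 1 * x 0 * x 1 = (x 0)⁻¹ * x 1 * (x 0)⁻¹ :=
  s1a_of (sq_x hR le_rfl hm) (hR.r2 0 (by omega))

theorem s1_a' (hm : 1 ≤ m) : x 1 * (x 0)⁻¹ * x 1 = x 0 * x 1 * x 0 :=
  s1a_of' (sq_x hR le_rfl hm) (hR.r2 0 (by omega))

theorem a_sq : x 0 * x 0 = (x 0)⁻¹ := by
  have h := hR.r0 (by omega)
  apply eq_inv_of_mul_eq_one_left
  rw [← h]; simp only [pow_succ, pow_zero, one_mul]

end rel

/-- `w x j k = x j * x (j+1) * ⋯ * x (j+k-1)`. -/
def w (x : ℕ → K) : ℕ → ℕ → K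
  | _, 0 => 1
  | j, k + 1 => x j * w x (j + 1) k

@[simp] theorem w_zero (x : ℕ → K) (j : ℕ) : w x j 0 = 1 := rfl

theorem w_succ (x : ℕ → K) (j k : ℕ) : w x j (k + 1) = x j * w x (j + 1) k := rfl

theorem w_add (x : ℕ → K) (j k l : ℕ) : w x j (k + l) = w x j k * w x (j + k) l := by
  induction k generalizing j with
  | zero => simp
  | succ k ih =>
    rw [show k + 1 + l = (k + l) + 1 by omega, w_succ, w_succ, ih, mul_assoc]
    congr 3
    omega

section rel2

variable {x : ℕ → K} {m : ℕ} (hR : CarRel (m + 1) x)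
include hR

/-- `x i` commutes with a product of generators of larger index. -/
theorem comm_w {i j k : ℕ} (h1 : 1 ≤ i) (hij : i + 2 ≤ j) (hm : j + k ≤ m + 1) :
    x i * w x j k = w x j k * x i := by
  induction k generalizing j with
  | zero => simp
  | succ k ih =>
    rw [w_succ, ← mul_assoc, comm_x hR h1 hij (by omega), mul_assoc, ih (by omega) (by omega),
      mul_assoc]

/-- `x i` commutes with a product of generators of smaller index. -/
theorem comm_w' {i j k : ℕ} (h1 : 1 ≤ j) (hij : j + k + 1 ≤ i) (hm : i ≤ m) :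
    x i * w x j k = w x j k * x i := by
  induction k generalizing j with
  | zero => simp
  | succ k ih =>
    rw [w_succ, ← mul_assoc, ← comm_x hR h1 (by omega) hm, mul_assoc, ih (by omega) (by omega),
      mul_assoc]

/-- `x 0` and its inverse are moved through a product of generators of index `≥ 2`. -/
theorem a_w {j k : ℕ} (h2 : 2 ≤ j) (hm : j + k ≤ m + 1) (e : K) (he : e = x 0 ∨ e = (x 0)⁻¹) :
    ∃ e', (e' = x 0 ∨ e' = (x 0)⁻¹) ∧ e * w x j k = w x j k * e' := by
  induction k generalizing j e with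
  | zero => exact ⟨e, he, by simp⟩
  | succ k ih =>
    rcases he with rfl | rfl
    · obtain ⟨e', he', h⟩ := ih (j := j + 1) (by omega) (by omega) (x 0)⁻¹ (Or.inr rfl)
      refine ⟨e', he', ?_⟩
      rw [w_succ, ← mul_assoc, ← x_a' hR h2 (by omega), mul_assoc, h, mul_assoc]
    · obtain ⟨e', he', h⟩ := ih (j := j + 1) (by omega) (by omega) (x 0) (Or.inl rfl)
      refine ⟨e', he', ?_⟩
      rw [w_succ, ← mul_assoc, ← x_a hR h2 (by omega), mul_assoc, h, mul_assoc]

end rel2


section rel3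

variable {x : ℕ → K} {m : ℕ} (hR : CarRel (m + 1) x)
include hR

theorem case_d {j c l : ℕ} (h1 : 1 ≤ j) (hm : j + c + 1 + l = m) :
    x (j + c + 1) * w x j (c + (2 + l)) = w x j (c + (2 + l)) * x (j + c) := by
  rw [w_add x j c (2 + l), w_add x (j + c) 2 l]
  have hB : w x (j + c) 2 = x (j + c) * x (j + c + 1) := by
    simp [w_succ]
  rw [hB]
  have e1 : x (j + c + 1) * w x j c = w x j c * x (j + c + 1) :=
    comm_w' hR h1 (by omega) (by omega)
  have e2 : x (j + c + 1) * (x (j + c) * x (j + c + 1)) =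
      x (j + c) * x (j + c + 1) * x (j + c) := by
    rw [← mul_assoc, braid_x hR (by omega) (by omega)]
  have e3 : x (j + c) * w x (j + c + 2) l = w x (j + c + 2) l * x (j + c) :=
    comm_w hR (by omega) (by omega) (by omega)
  calc x (j + c + 1) * (w x j c * (x (j + c) * x (j + c + 1) * w x (j + c + 2) l))
      = (x (j + c + 1) * w x j c) * (x (j + c) * x (j + c + 1)) * w x (j + c + 2) l := by
        simp only [mul_assoc]
    _ = w x j c * (x (j + c + 1) * (x (j + c) * x (j + c + 1))) * w x (j + c + 2) l := by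
        rw [e1]; simp only [mul_assoc]
    _ = w x j c * (x (j + c) * x (j + c + 1)) * (x (j + c) * w x (j + c + 2) l) := by
        rw [e2]; simp only [mul_assoc]
    _ = w x j c * (x (j + c) * x (j + c + 1) * w x (j + c + 2) l) * x (j + c) := by
        rw [e3]; simp only [mul_assoc]

/-- Action of an involution generator on the ordinary coset representatives. -/
theorem lemA {i k : ℕ} (h1 : 1 ≤ i) (hi : i ≤ m) (hk : k ≤ m) :
    ∃ k', k' ≤ m ∧ ∃ h ∈ Hm x m, x i * w x (m + 1 - k) k = w x (m + 1 - k') k' * h := by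
  rcases lt_trichotomy (k + i) m with hlt | heq | hgt
  · -- commuting case
    refine ⟨k, hk, x i, x_mem_Hm x (by omega), ?_⟩
    exact comm_w hR h1 (by omega) (by omega)
  · refine ⟨k + 1, by omega, 1, Subgroup.one_mem _, ?_⟩
    rw [mul_one, w_succ]
    have e1 : m + 1 - (k + 1) = i := by omega
    have e2 : m + 1 - k = i + 1 := by omega
    rw [e1, e2]
  · by_cases h2 : k + i = m + 1
    · obtain ⟨k0, rfl⟩ : ∃ k0, k = k0 + 1 := ⟨k - 1, by omega⟩
      refine ⟨k0, by omega, 1, Subgroup.one_mem _, ?_⟩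
      have e1 : m + 1 - (k0 + 1) = i := by omega
      have e2 : m + 1 - k0 = i + 1 := by omega
      rw [mul_one, e1, e2, w_succ, ← mul_assoc, x_mul_self hR h1 hi, one_mul]
    · -- braid case
      refine ⟨k, hk, x (i - 1), x_mem_Hm x (by omega), ?_⟩
      have key := case_d hR (j := m + 1 - k) (c := i + k - m - 2) (l := m - i) (by omega) (by omega)
      have e1 : m + 1 - k + (i + k - m - 2) + 1 = i := by omega
      have e2 : i + k - m - 2 + (2 + (m - i)) = k := by omega
      have e3 : m + 1 - k + (i + k - m - 2) = i - 1 := by omega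
      rw [e1, e2, e3] at key
      exact key

/-- Action of an involution generator of index `≥ 2` on the two special representatives. -/
theorem lemB {i : ℕ} (h2 : 2 ≤ i) (hi : i ≤ m) (e : K) (he : e = x 0 ∨ e = (x 0)⁻¹) :
    x i * (e * w x 1 m) = e⁻¹ * w x 1 m * x (i - 1) := by
  have key := case_d hR (j := 1) (c := i - 2) (l := m - i) le_rfl (by omega)
  have e1 : 1 + (i - 2) + 1 = i := by omega
  have e2 : i - 2 + (2 + (m - i)) = m := by omega
  have e3 : 1 + (i - 2) = i - 1 := by omega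
  rw [e1, e2, e3] at key
  rcases he with rfl | rfl
  · rw [← mul_assoc, x_a hR h2 hi, mul_assoc, key, mul_assoc]
  · rw [← mul_assoc, x_a' hR h2 hi, mul_assoc, key, inv_inv, mul_assoc]

/-- Action of `x 1` on the two special representatives. -/
theorem lemC (hm : 1 ≤ m) (e : K) (he : e = x 0 ∨ e = (x 0)⁻¹) :
    ∃ e', (e' = x 0 ∨ e' = (x 0)⁻¹) ∧ x 1 * (e * w x 1 m) = e⁻¹ * w x 1 m * e' := by
  obtain ⟨m0, rfl⟩ : ∃ m0, m = m0 + 1 := ⟨m - 1, by omega⟩
  rw [w_succ]
  rcases he with rfl | rfl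
  · obtain ⟨e', he', h⟩ := a_w hR (j := 2) (k := m0) le_rfl (by omega) (x 0)⁻¹ (Or.inr rfl)
    refine ⟨e', he', ?_⟩
    calc x 1 * (x 0 * (x 1 * w x (1 + 1) m0))
        = (x 1 * x 0 * x 1) * w x 2 m0 := by simp only [mul_assoc]
      _ = (x 0)⁻¹ * x 1 * ((x 0)⁻¹ * w x 2 m0) := by rw [s1_a hR hm]; simp only [mul_assoc]
      _ = (x 0)⁻¹ * (x 1 * w x (1 + 1) m0) * e' := by rw [h]; simp only [mul_assoc]
  · obtain ⟨e', he', h⟩ := a_w hR (j := 2) (k := m0) le_rfl (by omega) (x 0) (Or.inl rfl)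
    refine ⟨e', he', ?_⟩
    calc x 1 * ((x 0)⁻¹ * (x 1 * w x (1 + 1) m0))
        = (x 1 * (x 0)⁻¹ * x 1) * w x 2 m0 := by simp only [mul_assoc]
      _ = x 0 * x 1 * (x 0 * w x 2 m0) := by rw [s1_a' hR hm]; simp only [mul_assoc]
      _ = (x 0)⁻¹⁻¹ * (x 1 * w x (1 + 1) m0) * e' := by rw [h, inv_inv]; simp only [mul_assoc]

end rel3


/-- Coset representatives of `Hm x m` in `Hm x (m+1)`. -/
def rep (x : ℕ → K) (m k : ℕ) : K :=
  if k ≤ m then w x (m + 1 - k) k else if k = m + 1 then x 0 * w x 1 m else (x 0)⁻¹ * w x 1 m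

/-- Membership in the union of the cosets `rep k * Hm x m`. -/
def InD (x : ℕ → K) (m : ℕ) (g : K) : Prop :=
  ∃ k, k < m + 3 ∧ ∃ h ∈ Hm x m, g = rep x m k * h

theorem rep_le (x : ℕ → K) {m k : ℕ} (h : k ≤ m) : rep x m k = w x (m + 1 - k) k := by
  unfold rep; rw [if_pos h]

theorem rep_a (x : ℕ → K) (m : ℕ) : rep x m (m + 1) = x 0 * w x 1 m := by
  unfold rep; rw [if_neg (by omega), if_pos rfl]

theorem rep_a' (x : ℕ → K) (m : ℕ) : rep x m (m + 2) = (x 0)⁻¹ * w x 1 m := by
  unfold rep; rw [if_neg (by omega), if_neg (by omega)]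

theorem inD_one (x : ℕ → K) (m : ℕ) : InD x m 1 :=
  ⟨0, by omega, 1, Subgroup.one_mem _, by rw [rep_le x (Nat.zero_le m)]; simp⟩

section rel4

variable {x : ℕ → K} {m : ℕ} (hR : CarRel (m + 1) x)
include hR

omit hR in
theorem e_mem (hm : 0 < m) {e : K} (he : e = x 0 ∨ e = (x 0)⁻¹) : e ∈ Hm x m := by
  rcases he with rfl | rfl
  · exact x_mem_Hm x hm
  · exact Subgroup.inv_mem _ (x_mem_Hm x hm)

theorem gen_mul {i : ℕ} (hi : i ≤ m) {g : K} (hg : InD x m g) : InD x m (x i * g) := by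
  obtain ⟨k, hk, h, hh, rfl⟩ := hg
  have H := Hm x m
  rcases Nat.lt_or_ge m k with hkm | hkm
  · -- special representatives
    rcases (by omega : k = m + 1 ∨ k = m + 2) with rfl | rfl
    · rw [rep_a]
      rcases (by omega : i = 0 ∨ i = 1 ∨ 2 ≤ i) with rfl | rfl | h2
      · refine ⟨m + 2, by omega, h, hh, ?_⟩
        rw [rep_a', ← mul_assoc, ← mul_assoc, a_sq hR]
      · obtain ⟨e', he', hc⟩ := lemC hR hi (x 0) (Or.inl rfl)
        refine ⟨m + 2, by omega, e' * h, Subgroup.mul_mem _ (e_mem (by omega) he') hh, ?_⟩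
        rw [rep_a', ← mul_assoc, hc, mul_assoc]
      · refine ⟨m + 2, by omega, x (i - 1) * h,
          Subgroup.mul_mem _ (x_mem_Hm x (by omega)) hh, ?_⟩
        rw [rep_a', ← mul_assoc, lemB hR h2 hi (x 0) (Or.inl rfl), mul_assoc]
    · rw [rep_a']
      rcases (by omega : i = 0 ∨ i = 1 ∨ 2 ≤ i) with rfl | rfl | h2
      · refine ⟨m, by omega, h, hh, ?_⟩
        rw [rep_le x le_rfl, ← mul_assoc, mul_inv_cancel_left]
        congr 2
        omega
      · obtain ⟨e', he', hc⟩ := lemC hR hi (x 0)⁻¹ (Or.inr rfl)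
        refine ⟨m + 1, by omega, e' * h, Subgroup.mul_mem _ (e_mem (by omega) he') hh, ?_⟩
        rw [rep_a, ← mul_assoc, hc, inv_inv, mul_assoc]
      · refine ⟨m + 1, by omega, x (i - 1) * h,
          Subgroup.mul_mem _ (x_mem_Hm x (by omega)) hh, ?_⟩
        rw [rep_a, ← mul_assoc, lemB hR h2 hi (x 0)⁻¹ (Or.inr rfl), inv_inv, mul_assoc]
  · -- ordinary representatives
    rw [rep_le x hkm]
    rcases Nat.eq_zero_or_pos i with rfl | h1
    · rcases Nat.lt_or_ge k m with hlt | hge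
      · obtain ⟨e', he', hc⟩ := a_w hR (j := m + 1 - k) (k := k) (by omega) (by omega) (x 0)
          (Or.inl rfl)
        refine ⟨k, by omega, e' * h, Subgroup.mul_mem _ (e_mem (by omega) he') hh, ?_⟩
        rw [rep_le x hkm, ← mul_assoc, hc, mul_assoc]
      · obtain rfl : k = m := by omega
        refine ⟨k + 1, by omega, h, hh, ?_⟩
        rw [rep_a, ← mul_assoc]
        congr 3
        omega
    · obtain ⟨k', hk', h', hh', hc⟩ := lemA hR h1 hi hkm
      refine ⟨k', by omega, h' * h, Subgroup.mul_mem _ hh' hh, ?_⟩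
      rw [rep_le x hk', ← mul_assoc, hc, mul_assoc]

theorem gen_inv_mul {i : ℕ} (hi : i ≤ m) {g : K} (hg : InD x m g) : InD x m ((x i)⁻¹ * g) := by
  rcases Nat.eq_zero_or_pos i with rfl | h1
  · rw [← a_sq hR, mul_assoc]
    exact gen_mul hR hi (gen_mul hR hi hg)
  · rw [inv_of_sq (sq_x hR h1 hi)]
    exact gen_mul hR hi hg

theorem inD_of_mem {g : K} (hg : g ∈ Hm x (m + 1)) : InD x m g := by
  unfold Hm at hg
  induction hg using Subgroup.closure_induction_left with
  | one => exact inD_one x m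
  | mul_left y hy z _ ih =>
    obtain ⟨i, hi, rfl⟩ := hy
    exact gen_mul hR (Nat.lt_succ_iff.mp hi) ih
  | inv_mul_cancel y hy z _ ih =>
    obtain ⟨i, hi, rfl⟩ := hy
    exact gen_inv_mul hR (Nat.lt_succ_iff.mp hi) ih

theorem step_bound (hfin : (Hm x m : Set K).Finite) :
    (Hm x (m + 1) : Set K).Finite ∧ Nat.card (Hm x (m + 1)) ≤ (m + 3) * Nat.card (Hm x m) := by
  classical
  let F : Finset K := hfin.toFinset
  let T : Finset K := (Finset.range (m + 3)).biUnion (fun k => F.image (fun h => rep x m k * h))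
  have hsub : (Hm x (m + 1) : Set K) ⊆ ↑T := by
    intro g hg
    obtain ⟨k, hk, h, hh, rfl⟩ := inD_of_mem hR hg
    simp only [T, Finset.coe_biUnion, Finset.coe_range, Set.mem_Iio, Finset.coe_image,
      Set.mem_iUnion, Set.mem_image, Finset.mem_coe, exists_prop]
    exact ⟨k, hk, h, by simpa [F] using hh, rfl⟩
  have hT : T.card ≤ (m + 3) * F.card := by
    calc T.card ≤ ∑ k ∈ Finset.range (m + 3), (F.image (fun h => rep x m k * h)).card :=
          Finset.card_biUnion_le
      _ ≤ ∑ _k ∈ Finset.range (m + 3), F.card :=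
          Finset.sum_le_sum (fun k _ => Finset.card_image_le)
      _ = (m + 3) * F.card := by simp
  have hF : Nat.card (Hm x m) = F.card := by
    have := Nat.card_coe_set_eq (Hm x m : Set K)
    rw [Set.ncard_eq_toFinset_card _ hfin] at this
    exact this
  refine ⟨T.finite_toSet.subset hsub, ?_⟩
  have h1 : Nat.card (Hm x (m + 1)) = (Hm x (m + 1) : Set K).ncard :=
    Nat.card_coe_set_eq (Hm x (m + 1) : Set K)
  rw [h1, hF]
  calc (Hm x (m + 1) : Set K).ncard ≤ (T : Set K).ncard :=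
        Set.ncard_le_ncard hsub T.finite_toSet
    _ = T.card := Set.ncard_coe_finset T
    _ ≤ (m + 3) * F.card := hT

end rel4

/-- **Order bound**: elements satisfying Carmichael's relations generate a group of order
at most `(m+2)!/2`. -/
theorem card_bound (x : ℕ → K) : ∀ m, CarRel m x →
    (Hm x m : Set K).Finite ∧ Nat.card (Hm x m) * 2 ≤ (m + 2).factorial := by
  intro m
  induction m with
  | zero =>
    intro _
    have h0 : Hm x 0 = ⊥ := by
      unfold Hm
      have : x '' Set.Iio 0 = ∅ := by ext; simp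
      rw [this, Subgroup.closure_empty]
    rw [h0]
    refine ⟨by simp, ?_⟩
    rw [Subgroup.card_bot]
    decide
  | succ m ih =>
    intro hR
    obtain ⟨hfin, hcard⟩ := ih (hR.mono (Nat.le_succ m))
    obtain ⟨hfin', hcard'⟩ := step_bound hR hfin
    refine ⟨hfin', ?_⟩
    rw [show m + 1 + 2 = (m + 2) + 1 by omega, Nat.factorial_succ]
    calc Nat.card (Hm x (m + 1)) * 2 ≤ (m + 3) * Nat.card (Hm x m) * 2 :=
          Nat.mul_le_mul_right 2 hcard'
      _ = (m + 2 + 1) * (Nat.card (Hm x m) * 2) := by ring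
      _ ≤ (m + 2 + 1) * (m + 2).factorial := Nat.mul_le_mul_left _ hcard

end Cfsg.Agent.Helper56.Carmichael
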