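import Mathlib
import Cfsg.Agent.Helper56.CarmichaelA

/-!
# Carmichael's presentation of the alternating group: the permutation side

The permutations `y k 0 = (0 1 2)`, `y k i = (0 1)(i+1 i+2)` of `Fin (k+2)` satisfy Carmichael's
relations, are even, and generate a group of order at least `(k+2)!/2`.
-/

set_option autoImplicit false

namespace Cfsg.Agent.Helper56.Carmichael

open Equiv

section generic

variable {α : Type*} [DecidableEq α]

theorem G0 {a b c : α} (h : [a, b, c].Nodup) :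
    (swap a b * swap b c) ^ 3 = 1 := by
  ext x
  simp only [pow_succ, pow_zero, one_mul, Perm.mul_apply, Perm.one_apply, swap_apply_def]
  grind

theorem G1 {a b c d : α} (h : [a, b, c, d].Nodup) :
    (swap a b * swap c d) ^ 2 = 1 := by
  ext x
  simp only [pow_succ, pow_zero, one_mul, Perm.mul_apply, Perm.one_apply, swap_apply_def]
  grind

theorem G2a {a b c d : α} (h : [a, b, c, d].Nodup) :
    (swap a b * swap b c * (swap a b * swap c d)) ^ 3 = 1 := by
  ext x
  simp only [pow_succ, pow_zero, one_mul, Perm.mul_apply, Perm.one_apply, swap_apply_def]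
  grind

theorem G2b {a b c d e : α} (h : [a, b, c, d, e].Nodup) :
    (swap a b * swap c d * (swap a b * swap d e)) ^ 3 = 1 := by
  ext x
  simp only [pow_succ, pow_zero, one_mul, Perm.mul_apply, Perm.one_apply, swap_apply_def]
  grind

theorem G3a {a b c d e : α} (h : [a, b, c, d, e].Nodup) :
    (swap a b * swap b c * (swap a b * swap d e)) ^ 2 = 1 := by
  ext x
  simp only [pow_succ, pow_zero, one_mul, Perm.mul_apply, Perm.one_apply, swap_apply_def]
  grind

theorem G3b {a b c d e f : α} (h : [a, b, c, d, e, f].Nodup) :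
    (swap a b * swap c d * (swap a b * swap e f)) ^ 2 = 1 := by
  ext x
  simp only [pow_succ, pow_zero, one_mul, Perm.mul_apply, Perm.one_apply, swap_apply_def]
  grind

end generic

/-- The point `p` of `Fin (k+2)`. -/
def pt (k p : ℕ) : Fin (k + 2) := ⟨p % (k + 2), Nat.mod_lt _ (Nat.succ_pos _)⟩

theorem pt_inj {k p q : ℕ} (hp : p < k + 2) (hq : q < k + 2) (h : pt k p = pt k q) : p = q := by
  have := congrArg Fin.val h
  simpa [pt, Nat.mod_eq_of_lt hp, Nat.mod_eq_of_lt hq] using this

theorem pt_ne {k p q : ℕ} (hp : p < k + 2) (hq : q < k + 2) (h : p ≠ q) : pt k p ≠ pt k q :=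
  fun e => h (pt_inj hp hq e)

theorem nodup_pt {k : ℕ} (l : List ℕ) (hl : l.Nodup) (hlt : ∀ p ∈ l, p < k + 2) :
    (l.map (pt k)).Nodup :=
  List.Nodup.map_on (fun p hp q hq h => pt_inj (hlt p hp) (hlt q hq) h) hl

/-- Carmichael's generators as permutations. -/
def y (k i : ℕ) : Perm (Fin (k + 2)) :=
  if i = 0 then swap (pt k 0) (pt k 1) * swap (pt k 1) (pt k 2)
  else swap (pt k 0) (pt k 1) * swap (pt k (i + 1)) (pt k (i + 2))

theorem y_zero (k : ℕ) : y k 0 = swap (pt k 0) (pt k 1) * swap (pt k 1) (pt k 2) := by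
  unfold y; rw [if_pos rfl]

theorem y_pos (k : ℕ) {i : ℕ} (h : 1 ≤ i) :
    y k i = swap (pt k 0) (pt k 1) * swap (pt k (i + 1)) (pt k (i + 2)) := by
  unfold y; rw [if_neg (by omega)]

theorem carRel_y (k : ℕ) : CarRel k (y k) where
  r0 := by
    intro hk
    rw [y_zero]
    exact G0 (nodup_pt [0, 1, 2] (by simp) (by simp; omega))
  r1 := by
    intro i h1 hi
    rw [y_pos k h1]
    exact G1 (nodup_pt [0, 1, i + 1, i + 2] (by simp; omega) (by simp; omega))
  r2 := by
    intro i hi
    rcases Nat.eq_zero_or_pos i with rfl | h1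
    · rw [y_zero, y_pos k (le_refl 1)]
      exact G2a (nodup_pt [0, 1, 2, 3] (by simp) (by simp; omega))
    · rw [y_pos k h1, y_pos k (by omega : 1 ≤ i + 1)]
      exact G2b (nodup_pt [0, 1, i + 1, i + 2, i + 3] (by simp; omega) (by simp; omega))
  r3 := by
    intro i j hij hj
    rcases Nat.eq_zero_or_pos i with rfl | h1
    · rw [y_zero, y_pos k (by omega : 1 ≤ j)]
      exact G3a (nodup_pt [0, 1, 2, j + 1, j + 2] (by simp; omega) (by simp; omega))
    · rw [y_pos k h1, y_pos k (by omega : 1 ≤ j)]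
      exact G3b (nodup_pt [0, 1, i + 1, i + 2, j + 1, j + 2] (by simp; omega) (by simp; omega))

theorem y_mem_alt {k i : ℕ} (hi : i < k) : y k i ∈ alternatingGroup (Fin (k + 2)) := by
  rw [Perm.mem_alternatingGroup]
  rcases Nat.eq_zero_or_pos i with rfl | h1
  · rw [y_zero, Perm.sign_mul, Perm.sign_swap (pt_ne (by omega) (by omega) (by omega)),
      Perm.sign_swap (pt_ne (by omega) (by omega) (by omega))]
    rfl
  · rw [y_pos k h1, Perm.sign_mul, Perm.sign_swap (pt_ne (by omega) (by omega) (by omega)),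
      Perm.sign_swap (pt_ne (by omega) (by omega) (by omega))]
    rfl


/-! ### Evaluation of the generators -/

theorem y_apply_top {k i : ℕ} (h1 : 1 ≤ i) (hi : i < k) : y k i (pt k (i + 2)) = pt k (i + 1) := by
  have n1 : pt k (i + 1) ≠ pt k 0 := pt_ne (by omega) (by omega) (by omega)
  have n2 : pt k (i + 1) ≠ pt k 1 := pt_ne (by omega) (by omega) (by omega)
  rw [y_pos k h1, Perm.mul_apply, swap_apply_right, swap_apply_of_ne_of_ne n1 n2]

theorem y0_apply_two {k : ℕ} (_hk : 0 < k) : y k 0 (pt k 2) = pt k 0 := by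
  rw [y_zero, Perm.mul_apply, swap_apply_right, swap_apply_right]

theorem y0_apply_zero {k : ℕ} (hk : 0 < k) : y k 0 (pt k 0) = pt k 1 := by
  have n1 : pt k 0 ≠ pt k 1 := pt_ne (by omega) (by omega) (by omega)
  have n2 : pt k 0 ≠ pt k 2 := pt_ne (by omega) (by omega) (by omega)
  rw [y_zero, Perm.mul_apply, swap_apply_of_ne_of_ne n1 n2, swap_apply_left]

theorem y_fix {k i m : ℕ} (hi : i < m) (hm : m < k) : y k i (pt k (m + 2)) = pt k (m + 2) := by
  have n0 : pt k (m + 2) ≠ pt k 0 := pt_ne (by omega) (by omega) (by omega)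
  have n1 : pt k (m + 2) ≠ pt k 1 := pt_ne (by omega) (by omega) (by omega)
  rcases Nat.eq_zero_or_pos i with rfl | h1
  · have n2 : pt k (m + 2) ≠ pt k 2 := pt_ne (by omega) (by omega) (by omega)
    rw [y_zero, Perm.mul_apply, swap_apply_of_ne_of_ne n1 n2, swap_apply_of_ne_of_ne n0 n1]
  · have n2 : pt k (m + 2) ≠ pt k (i + 1) := pt_ne (by omega) (by omega) (by omega)
    have n3 : pt k (m + 2) ≠ pt k (i + 2) := pt_ne (by omega) (by omega) (by omega)
    rw [y_pos k h1, Perm.mul_apply, swap_apply_of_ne_of_ne n2 n3, swap_apply_of_ne_of_ne n0 n1]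

/-- Elements of `Hm (y k) m` fix the point `m+2`. -/
theorem Hm_fix {k m : ℕ} (hm : m < k) {g : Perm (Fin (k + 2))} (hg : g ∈ Hm (y k) m) :
    g (pt k (m + 2)) = pt k (m + 2) := by
  have hle : Hm (y k) m ≤ MulAction.stabilizer (Perm (Fin (k + 2))) (pt k (m + 2)) := by
    unfold Hm
    rw [Subgroup.closure_le]
    rintro _ ⟨i, hi, rfl⟩
    exact y_fix hi hm
  exact hle hg

theorem Hm_mono {K : Type*} [Group K] (x : ℕ → K) {m m' : ℕ} (h : m ≤ m') : Hm x m ≤ Hm x m' :=
  Subgroup.closure_mono (Set.image_mono (fun _ hi => lt_of_lt_of_le hi h))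

/-- `Hm (y k) (m+1)` moves the point `m+2` to any point `p ≤ m+2`. -/
theorem exists_moving {k m : ℕ} (hm : m < k) {p : ℕ} (hp : p ≤ m + 2) :
    ∃ t ∈ Hm (y k) (m + 1), t (pt k (m + 2)) = pt k p := by
  have h2 : ∀ d, d ≤ m → ∃ t ∈ Hm (y k) (m + 1), t (pt k (m + 2)) = pt k (m + 2 - d) := by
    intro d
    induction d with
    | zero => intro _; exact ⟨1, Subgroup.one_mem _, rfl⟩
    | succ d ih =>
      intro hd
      obtain ⟨t, ht, hpt⟩ := ih (by omega)
      refine ⟨y k (m - d) * t, Subgroup.mul_mem _ (x_mem_Hm (y k) (by omega)) ht, ?_⟩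
      rw [Perm.mul_apply, hpt]
      have e1 : m + 2 - d = (m - d) + 2 := by omega
      have e2 : m + 2 - (d + 1) = (m - d) + 1 := by omega
      rw [e1, e2]
      exact y_apply_top (by omega) (by omega)
  obtain ⟨t2, ht2, hpt2⟩ := h2 m le_rfl
  have e : m + 2 - m = 2 := by omega
  rw [e] at hpt2
  have hy0 : y k 0 ∈ Hm (y k) (m + 1) := x_mem_Hm (y k) (by omega)
  rcases (by omega : p = 0 ∨ p = 1 ∨ 2 ≤ p) with rfl | rfl | hp2
  · refine ⟨y k 0 * t2, Subgroup.mul_mem _ hy0 ht2, ?_⟩
    rw [Perm.mul_apply, hpt2, y0_apply_two (by omega)]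
  · refine ⟨y k 0 * (y k 0 * t2), Subgroup.mul_mem _ hy0 (Subgroup.mul_mem _ hy0 ht2), ?_⟩
    rw [Perm.mul_apply, Perm.mul_apply, hpt2, y0_apply_two (by omega), y0_apply_zero (by omega)]
  · obtain ⟨t, ht, hpt⟩ := h2 (m + 2 - p) (by omega)
    refine ⟨t, ht, ?_⟩
    rw [hpt]
    congr 1
    omega

theorem step_lower {k m : ℕ} (hm : m < k) :
    (m + 3) * Nat.card (Hm (y k) m) ≤ Nat.card (Hm (y k) (m + 1)) := by
  classical
  choose t ht htp using fun p : Fin (m + 3) =>
    exists_moving hm (p := p.val) (by have := p.isLt; omega)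
  let f : Fin (m + 3) × Hm (y k) m → Hm (y k) (m + 1) := fun a =>
    ⟨t a.1 * a.2.1, Subgroup.mul_mem _ (ht a.1) (Hm_mono (y k) (Nat.le_succ m) a.2.2)⟩
  have hf : Function.Injective f := by
    rintro ⟨p, h⟩ ⟨q, h'⟩ hEq
    have hval : t p * h.1 = t q * h'.1 := congrArg Subtype.val hEq
    have hpq : p = q := by
      have h1 := congrArg (fun g : Perm (Fin (k + 2)) => g (pt k (m + 2))) hval
      simp only [Perm.mul_apply, Hm_fix hm h.2, Hm_fix hm h'.2, htp] at h1
      have := pt_inj (by have := p.isLt; omega) (by have := q.isLt; omega) h1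
      exact Fin.ext this
    subst hpq
    have : h.1 = h'.1 := mul_left_cancel hval
    rw [Subtype.ext this]
  have := Nat.card_le_card_of_injective f hf
  rwa [Nat.card_prod, Nat.card_fin] at this

/-- **Lower bound** for the order of the group generated by Carmichael's permutations. -/
theorem lower_bound (k : ℕ) : ∀ m, m ≤ k → (m + 2).factorial ≤ Nat.card (Hm (y k) m) * 2 := by
  intro m
  induction m with
  | zero =>
    intro _
    have h0 : Hm (y k) 0 = ⊥ := by
      unfold Hm
      have : y k '' Set.Iio 0 = ∅ := by ext; simp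
      rw [this, Subgroup.closure_empty]
    rw [h0, Subgroup.card_bot]
    decide
  | succ m ih =>
    intro hm
    have h1 := ih (by omega)
    have h2 := step_lower (k := k) (m := m) (by omega)
    rw [show m + 1 + 2 = (m + 2) + 1 by omega, Nat.factorial_succ]
    calc (m + 2 + 1) * (m + 2).factorial ≤ (m + 2 + 1) * (Nat.card (Hm (y k) m) * 2) :=
          Nat.mul_le_mul_left _ h1
      _ = (m + 3) * Nat.card (Hm (y k) m) * 2 := by ring
      _ ≤ Nat.card (Hm (y k) (m + 1)) * 2 := Nat.mul_le_mul_right 2 h2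

end Cfsg.Agent.Helper56.Carmichael
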