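import Mathlib

/-!
# Conjugacy classes of subgroups: generic lemmas
-/

set_option autoImplicit false

open scoped Pointwise

namespace Cfsg.Agent.Helper56.ConjClass

theorem mem_conj_smul {G : Type*} [Group G] (g z : G) (L : Subgroup G) :
    z ∈ MulAut.conj g • L ↔ g⁻¹ * z * g ∈ L := by
  rw [Subgroup.mem_smul_pointwise_iff_exists]
  constructor
  · rintro ⟨s, hs, rfl⟩
    rw [MulAut.smul_def, MulAut.conj_apply]
    have : g⁻¹ * (g * s * g⁻¹) * g = s := by group
    rw [this]; exact hs
  · intro h
    refine ⟨g⁻¹ * z * g, h, ?_⟩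
    rw [MulAut.smul_def, MulAut.conj_apply]
    group

theorem map_conj_smul {G G' : Type*} [Group G] [Group G'] (E : G ≃* G') (g : G)
    (L : Subgroup G) :
    (MulAut.conj g • L).map E.toMonoidHom = MulAut.conj (E g) • L.map E.toMonoidHom := by
  ext z
  constructor
  · rintro ⟨w, hw, rfl⟩
    have hw' : g⁻¹ * w * g ∈ L := (mem_conj_smul g w L).1 hw
    apply (mem_conj_smul (E g) _ _).2
    refine ⟨g⁻¹ * w * g, hw', ?_⟩
    show E (g⁻¹ * w * g) = (E g)⁻¹ * E w * E g
    rw [map_mul, map_mul, map_inv]
  · intro hz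
    obtain ⟨w, hw, hwz⟩ := (mem_conj_smul (E g) z _).1 hz
    refine ⟨g * w * g⁻¹, ?_, ?_⟩
    · apply (mem_conj_smul g _ L).2
      have : g⁻¹ * (g * w * g⁻¹) * g = w := by group
      rw [this]; exact hw
    · have h2 : E w = (E g)⁻¹ * z * E g := hwz
      show E (g * w * g⁻¹) = z
      rw [map_mul, map_mul, map_inv, h2]
      group

/-- A non-normal subgroup of prime index `p` has exactly `p` conjugates. -/
theorem card_class {G : Type*} [Group G] [Finite G] (M : Subgroup G) (p : ℕ) (hp : p.Prime)
    (hidx : M.index = p) (hn : ¬ M.Normal) :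
    (Set.range (fun g : G => MulAut.conj g • M)).ncard = p := by
  let _i : MulAction G (Subgroup G) :=
    MulAction.compHom (Subgroup G) (MulAut.conj : G →* MulAut G)
  have hsmul : ∀ (g : G) (L : Subgroup G), g • L = MulAut.conj g • L := fun _ _ => rfl
  have horb : MulAction.orbit G M = Set.range (fun g : G => MulAut.conj g • M) := rfl
  rw [← horb, ← MulAction.index_stabilizer]
  have hle : M ≤ MulAction.stabilizer G M := by
    intro m hm
    rw [MulAction.mem_stabilizer_iff, hsmul]
    exact Subgroup.conj_smul_eq_self_of_mem hm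
  have hdvd : (MulAction.stabilizer G M).index ∣ p := by
    rw [← hidx]; exact Subgroup.index_dvd_of_le hle
  rcases (Nat.dvd_prime hp).1 hdvd with h1 | h1
  · exfalso
    apply hn
    apply Subgroup.Normal.of_conjugate_fixed
    intro g
    have : g ∈ MulAction.stabilizer G M := by
      rw [Subgroup.index_eq_one.mp h1]; exact Subgroup.mem_top g
    rw [MulAction.mem_stabilizer_iff, hsmul] at this
    exact this
  · exact h1

/-- the conjugate of a subgroup isomorphic to `A` is isomorphic to `A` -/
theorem iso_conj_smul {G A : Type*} [Group G] [Group A] (g : G) (L : Subgroup G)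
    (h : Nonempty (L ≃* A)) : Nonempty ((MulAut.conj g • L : Subgroup G) ≃* A) := by
  obtain ⟨i⟩ := h
  exact ⟨(Subgroup.equivSMul (MulAut.conj g) L).symm.trans i⟩

theorem conj_smul_smul {G : Type*} [Group G] (g h : G) (L : Subgroup G) :
    MulAut.conj g • MulAut.conj h • L = MulAut.conj (g * h) • L := by
  rw [map_mul, mul_smul]

theorem conj_inv_smul_smul {G : Type*} [Group G] (g : G) (L : Subgroup G) :
    MulAut.conj g⁻¹ • MulAut.conj g • L = L := by
  rw [map_inv, inv_smul_smul]

/-- If the subgroups isomorphic to `A` form exactly two classes, those of two non-normal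
subgroups of prime index `p`, then there are `2 * p` of them. -/
theorem card_two_classes {G A : Type*} [Group G] [Finite G] [Group A] (H K : Subgroup G) (p : ℕ)
    (hp : p.Prime) (hH : H.index = p) (hK : K.index = p) (hHn : ¬ H.Normal) (hKn : ¬ K.Normal)
    (iH : Nonempty (H ≃* A)) (iK : Nonempty (K ≃* A))
    (hne : ∀ g : G, MulAut.conj g • H ≠ K)
    (hall : ∀ L : Subgroup G, Nonempty (L ≃* A) →
      ∃ g : G, MulAut.conj g • L = H ∨ MulAut.conj g • L = K) :
    Nat.card {L : Subgroup G // Nonempty (L ≃* A)} = 2 * p := by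
  have hset : {L : Subgroup G | Nonempty (L ≃* A)} =
      Set.range (fun g : G => MulAut.conj g • H) ∪ Set.range (fun g : G => MulAut.conj g • K) := by
    ext L
    constructor
    · intro hL
      obtain ⟨g, hg | hg⟩ := hall L hL
      · left
        refine ⟨g⁻¹, ?_⟩
        show MulAut.conj g⁻¹ • H = L
        rw [← hg, conj_inv_smul_smul]
      · right
        refine ⟨g⁻¹, ?_⟩
        show MulAut.conj g⁻¹ • K = L
        rw [← hg, conj_inv_smul_smul]
    · rintro (⟨g, rfl⟩ | ⟨g, rfl⟩)
      · exact iso_conj_smul g H iH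
      · exact iso_conj_smul g K iK
  have hdisj : Disjoint (Set.range (fun g : G => MulAut.conj g • H))
      (Set.range (fun g : G => MulAut.conj g • K)) := by
    rw [Set.disjoint_left]
    rintro L ⟨g, rfl⟩ ⟨h, hh⟩
    apply hne (h⁻¹ * g)
    have hh' : MulAut.conj h • K = MulAut.conj g • H := hh
    rw [← conj_smul_smul, ← hh', conj_inv_smul_smul]
  have hfin : Finite (Subgroup G) := inferInstance
  show Nat.card ↥{L : Subgroup G | Nonempty (L ≃* A)} = 2 * p
  rw [Nat.card_coe_set_eq, hset, Set.ncard_union_eq hdisj (Set.toFinite _) (Set.toFinite _),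
    card_class H p hp hH hHn, card_class K p hp hK hKn, two_mul]

/-- "the subgroups isomorphic to `A` are `n` in number and form two classes" -/
def TwoClasses (G A : Type*) [Group G] [Group A] (n : ℕ) : Prop :=
  Nat.card {H : Subgroup G // Nonempty (H ≃* A)} = n ∧
    ∃ H K : Subgroup G, Nonempty (H ≃* A) ∧ Nonempty (K ≃* A) ∧
      (∀ g : G, MulAut.conj g • H ≠ K) ∧
      ∀ L : Subgroup G, Nonempty (L ≃* A) → ∃ g : G, MulAut.conj g • L = H ∨ MulAut.conj g • L = K

theorem TwoClasses.congr {G G' A : Type*} [Group G] [Group G'] [Group A] {n : ℕ} (E : G ≃* G')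
    (h : TwoClasses G A n) : TwoClasses G' A n := by
  obtain ⟨hcard, H, K, iH, iK, hne, hall⟩ := h
  have hiso : ∀ L : Subgroup G, Nonempty (L ≃* A) ↔ Nonempty (L.map E.toMonoidHom ≃* A) := by
    intro L
    constructor
    · rintro ⟨i⟩
      exact ⟨(E.subgroupMap L).symm.trans i⟩
    · rintro ⟨i⟩
      exact ⟨(E.subgroupMap L).trans i⟩
  refine ⟨?_, H.map E.toMonoidHom, K.map E.toMonoidHom, (hiso H).1 iH, (hiso K).1 iK, ?_, ?_⟩
  · rw [← hcard]
    apply Nat.card_congr
    exact (Equiv.subtypeEquiv E.mapSubgroup.toEquiv (fun L => hiso L)).symm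
  · intro g' heq
    obtain ⟨g, rfl⟩ := E.surjective g'
    rw [← map_conj_smul] at heq
    exact hne g (Subgroup.map_injective E.injective heq)
  · intro L' hL'
    have hmap : (L'.comap E.toMonoidHom).map E.toMonoidHom = L' :=
      Subgroup.map_comap_eq_self_of_surjective E.surjective L'
    have hL : Nonempty (L'.comap E.toMonoidHom ≃* A) := by
      rw [hiso, hmap]; exact hL'
    obtain ⟨g, hg | hg⟩ := hall _ hL
    · refine ⟨E g, Or.inl ?_⟩
      rw [← hmap, ← map_conj_smul, hg]
    · refine ⟨E g, Or.inr ?_⟩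
      rw [← hmap, ← map_conj_smul, hg]

end Cfsg.Agent.Helper56.ConjClass
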