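import Cfsg.Agent.Helper92.Fi23T.Abs
import Cfsg.Agent.Helper92.Fi23T.Abs2
import Cfsg.Agent.Helper28.Fi22C.Main
import Cfsg.Agent.Helper28.DoubleCover
import Cfsg.Prelude.Def_Sporadic
import Cfsg.Prelude.Def_Classical

set_option autoImplicit false
set_option maxRecDepth 1000000

/-!
# `Fi22` as a 3-transposition group (concrete part for S0471)

`G` is the presented group `Fi22`, `K = ⟨a, c, …, i, (abcdeh)^5⟩` of index 3510 and rank 3; its central
involution is the node `a`.  The glue is `Cfsg.Agent.Helper92.Fi23T.Abs`, `Abs2` (helper92); the tables and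
the faithful permutation representation are helper28's.  The only computation is `[a, (abcdeh)^5] = 1`.
-/

namespace Cfsg.Agent.Helper56.Fi22T

open Cfsg.Agent.Helper28 Cfsg.Spor Cfsg.Agent.Helper92.Fi23T

/-- the presented group `Fi22` -/
abbrev GG : Type := PresentedGroup Fi22b.R

/-- the subgroup `⟨a, c, …, i, (abcdeh)^5⟩` -/
abbrev K0 : Subgroup GG := HH Fi22b.R Fi22b.Y

/-- a generator of `Fi22` -/
noncomputable def gx (x : Fi22.Gen) : GG := PresentedGroup.mk Fi22b.R (FreeGroup.of x)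

/-! ## Coxeter relations -/

theorem cox_rel (x y : Fi22.Gen) : (gx x * gx y) ^ coxLabel Fi22.edges x y = 1 := by
  have hx : x ∈ coxNodes Fi22.edges := by cases x <;> decide
  have hy : y ∈ coxNodes Fi22.edges := by cases y <;> decide
  have hmem : (FreeGroup.of x * FreeGroup.of y) ^ coxLabel Fi22.edges x y ∈ Fi22b.R :=
    Or.inl ⟨x, hx, y, hy, rfl⟩
  have h := (PresentedGroup.mk_eq_one_iff (rels := Fi22b.R)).mpr (Subgroup.subset_normalClosure hmem)
  rw [map_pow, map_mul] at h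
  exact h

theorem gx_sq (x : Fi22.Gen) : gx x * gx x = 1 := by
  have h := cox_rel x x
  have e : coxLabel Fi22.edges x x = 1 := by simp [coxLabel]
  rw [e, pow_one] at h
  exact h

theorem braid_conj' {Γ : Type*} [Group Γ] (x y : Γ) (hx : x * x = 1) (hy : y * y = 1) (h : (x * y) ^ 3 = 1) :
    (x * y) * x * (x * y)⁻¹ = y := by
  have hxi : x⁻¹ = x := inv_eq_of_mul_eq_one_right hx
  have hyi : y⁻¹ = y := inv_eq_of_mul_eq_one_right hy
  have h3 : x * y * x * y * x * y = 1 := by
    have e : (x * y) ^ 3 = x * y * x * y * x * y := by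
      rw [pow_succ, pow_succ, pow_one]; group
    rw [← e]; exact h
  have h4 : x * y * x = y * x * y := by
    have e : x * y * x = (x * y * x * y * x * y) * (y⁻¹ * x⁻¹ * y⁻¹) := by group
    rw [e, h3, one_mul, hxi, hyi]
  rw [mul_inv_rev, hxi, hyi]
  calc x * y * x * (y * x) = (x * y * x) * y * x := by group
    _ = (y * x * y) * y * x := by rw [h4]
    _ = y * x * (y * y) * x := by group
    _ = y * (x * x) := by rw [hy]; group
    _ = y := by rw [hx, mul_one]

theorem comm_of_sq {Γ : Type*} [Group Γ] (x y : Γ) (hx : x * x = 1) (hy : y * y = 1) (h : (x * y) ^ 2 = 1) :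
    y * x = x * y := by
  have hxi : x⁻¹ = x := inv_eq_of_mul_eq_one_right hx
  have hyi : y⁻¹ = y := inv_eq_of_mul_eq_one_right hy
  have h2 : x * y * (x * y) = 1 := by rw [← pow_two]; exact h
  calc y * x = y⁻¹ * x⁻¹ := by rw [hxi, hyi]
    _ = (x * y)⁻¹ := by group
    _ = x * y := inv_eq_of_mul_eq_one_right h2

theorem conj_of_edge (x y : Fi22.Gen) (h : coxLabel Fi22.edges x y = 3) : IsConj (gx x) (gx y) := by
  rw [isConj_iff]
  have h3 := cox_rel x y
  rw [h] at h3
  exact ⟨gx x * gx y, braid_conj' (gx x) (gx y) (gx_sq x) (gx_sq y) h3⟩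

theorem conj_a_b : IsConj (gx .a) (gx .b) := conj_of_edge .a .b (by decide)

theorem conj_a_c : IsConj (gx .a) (gx .c) := conj_a_b.trans (conj_of_edge .b .c (by decide))

theorem rel_a_c : (gx .a * gx .c) ^ 2 = 1 := by
  have h := cox_rel .a .c
  have e : coxLabel Fi22.edges .a .c = 2 := by decide
  rw [e] at h
  exact h

theorem rel_a_b : (gx .a * gx .b) ^ 3 = 1 := by
  have h := cox_rel .a .b
  have e : coxLabel Fi22.edges .a .b = 3 := by decide
  rw [e] at h
  exact h

/-! ## The subgroup `K0` -/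

theorem gen_mem (x : Fi22.Gen) (hx : FreeGroup.of x ∈ Fi22b.Ylist) : gx x ∈ K0 :=
  Subgroup.mem_map_of_mem _ (Subgroup.subset_closure hx)

theorem a_mem : gx .a ∈ K0 := gen_mem .a (by simp [Fi22b.Ylist])
theorem c_mem : gx .c ∈ K0 := gen_mem .c (by simp [Fi22b.Ylist])
theorem d_mem : gx .d ∈ K0 := gen_mem .d (by simp [Fi22b.Ylist])
theorem e_mem : gx .e ∈ K0 := gen_mem .e (by simp [Fi22b.Ylist])
theorem f_mem : gx .f ∈ K0 := gen_mem .f (by simp [Fi22b.Ylist])
theorem g_mem : gx .g ∈ K0 := gen_mem .g (by simp [Fi22b.Ylist])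
theorem h_mem : gx .h ∈ K0 := gen_mem .h (by simp [Fi22b.Ylist])
theorem i_mem : gx .i ∈ K0 := gen_mem .i (by simp [Fi22b.Ylist])

theorem b_not_mem : gx .b ∉ K0 := by
  intro hb
  have htop : HH Fi22b.R Fi22b.Y = ⊤ := by
    rw [eq_top_iff, ← PresentedGroup.closure_range_of Fi22b.R, Subgroup.closure_le]
    rintro _ ⟨x, rfl⟩
    cases x
    exacts [a_mem, hb, c_mem, d_mem, e_mem, f_mem, g_mem, h_mem, i_mem]
  have h1 := Fi22b.main_index
  rw [htop, Subgroup.index_top] at h1
  omega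

theorem b_ne_one : gx .b ≠ 1 := fun h => b_not_mem (h ▸ K0.one_mem)

theorem a_ne_one : gx .a ≠ 1 := by
  intro h
  obtain ⟨c, hc⟩ := isConj_iff.mp conj_a_b
  apply b_ne_one
  rw [← hc, h, mul_one, mul_inv_cancel]

theorem a_ne_b : gx .b ≠ gx .a := fun h => b_not_mem (h ▸ a_mem)

/-! ## `a` commutes with `(abcdeh)^5` -/

/-- the word `(abcdeh)^5` -/
def Ww : FreeGroup Fi22.Gen := (Fi22.a * Fi22.b * Fi22.c * Fi22.d * Fi22.e * Fi22.h) ^ 5

/-- the word `a (abcdeh)^5 a (hedcba)^5` in letter codes (`2k` for the generator `k`) -/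
def wc : List Nat := [0, 0, 2, 4, 6, 8, 14, 0, 2, 4, 6, 8, 14, 0, 2, 4, 6, 8, 14, 0, 2, 4, 6, 8, 14, 0, 2, 4, 6, 8, 14,
  0, 14, 8, 6, 4, 2, 0, 14, 8, 6, 4, 2, 0, 14, 8, 6, 4, 2, 0, 14, 8, 6, 4, 2, 0, 14, 8, 6, 4, 2, 0]

/-- the same word in the free group -/
def Wc : FreeGroup Fi22.Gen :=
  Fi22.a * (Fi22.a * Fi22.b * Fi22.c * Fi22.d * Fi22.e * Fi22.h) ^ 5 * Fi22.a *
    (Fi22.h * Fi22.e * Fi22.d * Fi22.c * Fi22.b * Fi22.a) ^ 5

theorem hevc : ev Fi22b.gen 9 wc = Wc := by decide +kernel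

theorem hletc : ∀ l ∈ wc, l < Fi22b.ptabs.L := by decide +kernel

theorem hrelc : relOk Fi22b.ptabs wc 0 Fi22b.ptabs.n = true := by decide +kernel

theorem wc_one : PresentedGroup.mk Fi22b.R Wc = 1 := by
  apply Fi22C.card_inj.2
  rw [rhoG_mk, map_one, ← hevc]
  exact rhoF_ev_eq_one Fi22b.gen Fi22b.idx 9 Fi22b.ptabs Fi22b.inv_ok Fi22b.layout.hL Fi22b.layout.hig
    wc hletc hrelc

/-- the element `(abcdeh)^5` -/
noncomputable def ww : GG := PresentedGroup.mk Fi22b.R Ww

theorem ww_mem : ww ∈ K0 :=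
  Subgroup.mem_map_of_mem _ (Subgroup.subset_closure (by simp [Fi22b.Ylist, Ww]))

theorem ww_inv : ww⁻¹ = (gx .h * gx .e * gx .d * gx .c * gx .b * gx .a) ^ 5 := by
  have hi : ∀ x, (gx x)⁻¹ = gx x := fun x => inv_eq_of_mul_eq_one_right (gx_sq x)
  have e : ww = (gx .a * gx .b * gx .c * gx .d * gx .e * gx .h) ^ 5 := by
    unfold ww Ww gx
    simp only [map_pow, map_mul]
  rw [e, ← inv_pow]
  congr 1
  simp only [mul_inv_rev, hi, mul_assoc]

theorem a_comm_ww : ww * gx .a = gx .a * ww := by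
  have h := wc_one
  unfold Wc at h
  simp only [map_mul, map_pow] at h
  have h' : gx .a * ww * gx .a * ww⁻¹ = 1 := by
    rw [ww_inv]
    unfold ww Ww gx
    simp only [map_pow, map_mul]
    exact h
  have hai : (gx .a)⁻¹ = gx .a := inv_eq_of_mul_eq_one_right (gx_sq .a)
  calc ww * gx .a = (gx .a)⁻¹ * (gx .a * ww * gx .a * ww⁻¹) * ww := by group
    _ = gx .a * ww := by rw [h', mul_one, hai]

theorem a_central : ∀ k ∈ K0, k * gx .a = gx .a * k := by
  have hle : K0 ≤ Subgroup.centralizer ({gx .a} : Set GG) := by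
    unfold K0 HH
    rw [Subgroup.map_le_iff_le_comap, Subgroup.closure_le]
    intro y hy
    have hy' : y ∈ Fi22b.Ylist := hy
    rw [SetLike.mem_coe, Subgroup.mem_comap, mem_cent_iff]
    have node : ∀ x : Fi22.Gen, coxLabel Fi22.edges .a x = 2 ∨ x = .a → gx x * gx .a = gx .a * gx x := by
      intro x hx
      rcases hx with hx | rfl
      · have h := cox_rel .a x
        rw [hx] at h
        exact comm_of_sq (gx .a) (gx x) (gx_sq .a) (gx_sq x) h
      · rfl
    simp only [Fi22b.Ylist, List.mem_cons, List.not_mem_nil, or_false] at hy'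
    rcases hy' with rfl | rfl | rfl | rfl | rfl | rfl | rfl | rfl | rfl
    · exact node .a (Or.inr rfl)
    · exact node .c (Or.inl (by decide))
    · exact node .d (Or.inl (by decide))
    · exact node .e (Or.inl (by decide))
    · exact node .f (Or.inl (by decide))
    · exact node .g (Or.inl (by decide))
    · exact node .h (Or.inl (by decide))
    · exact node .i (Or.inl (by decide))
    · exact a_comm_ww
  intro k hk
  exact (mem_cent_iff (gx .a) k).mp (hle hk)

/-! ## Assembly -/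

theorem finG : Finite GG := Fi22C.upper.1

theorem center_G : Subgroup.center GG = ⊥ := by
  have := finG
  exact center_eq_bot_of_simple Fi22C.simple (by rw [Fi22C.card_inj.1]; norm_num)

theorem finQ : Finite (GG ⧸ K0) := by
  have := finG
  infer_instance

theorem K0_maximal : ∀ M : Subgroup GG, K0 ≤ M → M = K0 ∨ M = ⊤ := by
  have := finQ
  obtain ⟨hidx, qOf, h1, h2⟩ := Fi22b.main_orbits
  intro M hM
  exact maximal_of_three_orbits K0 693 2816 (qOf 7) (qOf 1)
    (by rw [h1 7 (by decide)]; exact Fi22b.orb_cnt_7)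
    (by rw [h1 1 (by decide)]; exact Fi22b.orb_cnt_1)
    hidx (by norm_num) (by norm_num) (by norm_num) (by norm_num) (by norm_num) M hM

theorem cent_a : Subgroup.centralizer ({gx .a} : Set GG) = K0 :=
  centralizer_eq_of_maximal K0 K0_maximal center_G (gx .a) a_ne_one a_central

theorem c_ne_a : gx .c ≠ gx .a := by
  intro h
  -- then `b` would commute with ... use the permutation representation instead
  have h1 := congrArg (fun g => rhoG Fi22b.R Fi22b.idx 9 Fi22b.ptabs Fi22b.inv_ok Fi22b.layout.hL Fi22C.hrels g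
    ⟨1, by decide⟩) h
  simp only [gx, rhoG_mk, rhoF, FreeGroup.lift_apply_of] at h1
  have h2 := congrArg Fin.val h1
  rw [permL_apply _ _ _ _ _ (by decide), permL_apply _ _ _ _ _ (by decide)] at h2
  revert h2
  decide +kernel

theorem three_transp : ∀ d ∈ conjugatesOf (gx .a), ∀ e ∈ conjugatesOf (gx .a),
    (d * e) ^ 2 = 1 ∨ (d * e) ^ 3 = 1 := by
  have := finQ
  obtain ⟨hidx, qOf, h1, h2⟩ := Fi22b.main_orbits
  obtain ⟨cc, hcc⟩ := isConj_iff.mp conj_a_c
  obtain ⟨cb, hcb⟩ := isConj_iff.mp conj_a_b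
  refine three_transp_main K0 693 2816 (qOf 7) (qOf 1)
    (by rw [h1 7 (by decide)]; exact Fi22b.orb_cnt_7)
    (by rw [h1 1 (by decide)]; exact Fi22b.orb_cnt_1)
    hidx (by norm_num) (by norm_num) (by norm_num) (gx .a) a_central (gx_sq .a)
    cc cb ?_ ?_ ?_ ?_
  · rw [hcc]; exact c_ne_a
  · rw [hcb]; exact a_ne_b
  · rw [hcc]; exact rel_a_c
  · rw [hcb]; exact rel_a_b

theorem order_two : ∀ d ∈ conjugatesOf (gx .a), orderOf d = 2 := by
  intro d hd
  obtain ⟨g, rfl⟩ := (mem_conjOf_iff (gx .a) d).mp hd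
  apply orderOf_eq_prime
  · rw [conj_pow, pow_two, gx_sq, mul_one, mul_inv_cancel]
  · intro h
    apply a_ne_one
    calc gx .a = g⁻¹ * (g * gx .a * g⁻¹) * g := by group
      _ = 1 := by rw [h]; group

theorem card_class : Nat.card (conjugatesOf (gx .a)) = 3510 := by
  rw [card_conjugatesOf_eq_index, cent_a]
  exact Fi22b.main_index

theorem cover_class {U : Type*} [Group U] (hU : Cfsg.IsNonsplitDoubleCover ↥K0 U) :
    ∀ d ∈ conjugatesOf (gx .a), Cfsg.IsNonsplitDoubleCover (Subgroup.centralizer ({d} : Set GG)) U := by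
  intro d hd
  obtain ⟨g, rfl⟩ := (mem_conjOf_iff (gx .a) d).mp hd
  have : Finite GG := finG
  have : Finite K0 := inferInstance
  exact nonsplit_congr ((centConjEquiv (gx .a) g).trans (MulEquiv.subgroupCongr cent_a)) hU

theorem main {U : Type*} [Group U] (hU : Cfsg.IsNonsplitDoubleCover ↥K0 U) :
    ∃ D : Set GG, Cfsg.IsThreeTranspositionClass D ∧ Nat.card D = 3510 ∧
      ∀ d ∈ D, Cfsg.IsNonsplitDoubleCover (Subgroup.centralizer ({d} : Set GG)) U := by
  refine ⟨conjugatesOf (gx .a), ⟨⟨order_two, three_transp⟩, ⟨gx .a, mem_conjugatesOf_self, rfl⟩, ?_⟩,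
    card_class, cover_class hU⟩
  exact closure_conjugatesOf_eq_top Fi22C.simple (gx .a) a_ne_one

end Cfsg.Agent.Helper56.Fi22T
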