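import Mathlib

/-!
# Brute-force facts about `2 × 2` matrices over `ZMod 3`

Matrices are encoded as quadruples so that `decide +kernel` is cheap.
Main fact `sd16_key`: if `X` has order `8`, and an invertible `H` outside `⟨X⟩` normalizes `⟨X⟩`,
then `H X = X³ H` and some `H Xⁱ` is an involution.
-/

set_option autoImplicit false

namespace Cfsg.Agent.Helper56.GL23

abbrev Q3 := ZMod 3 × ZMod 3 × ZMod 3 × ZMod 3

def qmul (x y : Q3) : Q3 :=
  (x.1 * y.1 + x.2.1 * y.2.2.1, x.1 * y.2.1 + x.2.1 * y.2.2.2,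
   x.2.2.1 * y.1 + x.2.2.2 * y.2.2.1, x.2.2.1 * y.2.1 + x.2.2.2 * y.2.2.2)

def qone : Q3 := (1, 0, 0, 1)

def qpow (x : Q3) : ℕ → Q3
  | 0 => qone
  | k + 1 => qmul (qpow x k) x

def toMat (x : Q3) : Matrix (Fin 2) (Fin 2) (ZMod 3) := !![x.1, x.2.1; x.2.2.1, x.2.2.2]

def ofMat (A : Matrix (Fin 2) (Fin 2) (ZMod 3)) : Q3 := (A 0 0, A 0 1, A 1 0, A 1 1)

theorem toMat_ofMat (A : Matrix (Fin 2) (Fin 2) (ZMod 3)) : toMat (ofMat A) = A :=
  (Matrix.eta_fin_two A).symm

theorem ofMat_toMat (x : Q3) : ofMat (toMat x) = x := by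
  obtain ⟨a, b, c, d⟩ := x
  simp [ofMat, toMat]

theorem ofMat_injective : Function.Injective ofMat := by
  intro A B h
  rw [← toMat_ofMat A, ← toMat_ofMat B, h]

theorem toMat_qmul (x y : Q3) : toMat (qmul x y) = toMat x * toMat y := by
  unfold toMat qmul
  rw [Matrix.mul_fin_two]

theorem toMat_qone : toMat qone = 1 := by
  unfold toMat qone
  exact Matrix.one_fin_two.symm

theorem ofMat_mul (A B : Matrix (Fin 2) (Fin 2) (ZMod 3)) : ofMat (A * B) = qmul (ofMat A) (ofMat B) := by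
  apply_fun toMat using (fun x y h => by rw [← ofMat_toMat x, ← ofMat_toMat y, h])
  rw [toMat_ofMat, toMat_qmul, toMat_ofMat, toMat_ofMat]

theorem ofMat_one : ofMat 1 = qone := by
  rw [← toMat_qone, ofMat_toMat]

theorem ofMat_pow (A : Matrix (Fin 2) (Fin 2) (ZMod 3)) (k : ℕ) : ofMat (A ^ k) = qpow (ofMat A) k := by
  induction k with
  | zero => rw [pow_zero, ofMat_one]; rfl
  | succ k ih => rw [pow_succ, ofMat_mul, ih]; rfl


set_option maxRecDepth 100000 in
set_option synthInstance.maxSize 2048 in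
theorem sd16_key : ∀ X : Q3, qpow X 8 = qone → qpow X 4 ≠ qone → ∀ H : Q3,
    (∃ H' : Q3, qmul H H' = qone) → (∃ k : Fin 8, qmul H X = qmul (qpow X k) H) →
    (∀ i : Fin 8, H ≠ qpow X i) →
    qmul H X = qmul (qpow X 3) H ∧
      ∃ i : Fin 8, qmul (qmul H (qpow X i)) (qmul H (qpow X i)) = qone := by
  decide +kernel

end Cfsg.Agent.Helper56.GL23
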