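import Cfsg.Agent.Helper56.J2Data

set_option autoImplicit false
set_option maxRecDepth 1000000

namespace Cfsg.Agent.Helper56.J2

open Cfsg.Agent.Helper56 Cfsg.Agent.Helper56.PermN

def orb63 : List ℕ := [37, 38, 39, 40, 41, 42, 43, 44, 45, 46, 47, 48, 49, 50, 51, 52, 53, 54, 55, 56, 57, 58, 59, 60, 61, 62, 63, 64, 65, 66, 67, 68, 69, 70, 71, 72, 73, 74, 75, 76, 77, 78, 79, 80, 81, 82, 83, 84, 85, 86, 87, 88, 89, 90, 91, 92, 93, 94, 95, 96, 97, 98, 99]

def w63 : List (List ℕ) := [[], [], [], [], [], [], [], [], [], [], [], [], [], [], [], [], [], [], [], [], [], [], [], [], [], [], [], [], [], [], [], [], [], [], [], [], [], [], [3, 3], [4, 6, 2], [4, 0], [7, 0, 2], [3, 0], [0, 3], [2, 6], [6, 4, 0], [6, 0], [1, 5, 0], [6, 3, 0], [4, 1], [6, 5], [3, 6], [2, 7], [7, 4, 0], [6, 5, 0], [2, 1], [3, 1, 0], [0, 5, 0], [0, 7], [7, 2], [3, 2], [0, 2], [6, 4], [7, 4], [7, 3], [6], [5, 6, 0], [5, 7], [1, 3, 0], [1, 0], [0, 4],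 [7, 7, 0], [7, 7], [2], [6, 3], [0, 6], [4, 7, 2], [3, 1], [0], [2, 0], [5, 6], [1], [7, 0, 4], [0, 5], [5], [7, 0], [6, 2], [7], [4, 7, 3], [5, 4], [5, 0], [3, 3, 0], [5, 7, 4], [1, 3], [2, 5], [1, 2], [5, 1], [7, 3, 1], [4], [3]]

theorem chk63 : imgCheck cs 8 37 orb63 w63 = true := by decide +kernel

def xw : List ℕ := [9, 8, 9, 8, 9, 9, 8, 9, 8, 9]

theorem id_a2 : eqWords 100 cs [8, 8] [] = true := by decide +kernel

theorem id_ab7 : eqWords 100 cs [8, 9, 8, 9, 8, 9, 8, 9, 8, 9, 8, 9, 8, 9] [] = true := by decide +kernel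

theorem id_x : eqWords 100 cs [10] xw = true := by decide +kernel

theorem id_x5 : eqWords 100 cs [10, 10, 10, 10, 10] [] = true := by decide +kernel

theorem id_y1 : eqWords 100 cs [11, 8] [8, 10] = true := by decide +kernel

theorem id_y2 : eqWords 100 cs [12, 9, 8] [9, 8, 10] = true := by decide +kernel

theorem id_b : eqWords 100 cs [9] [11, 12] = true := by decide +kernel

end Cfsg.Agent.Helper56.J2
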