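import Cfsg.Agent.Helper56.J2Data

set_option autoImplicit false
set_option maxRecDepth 1000000

namespace Cfsg.Agent.Helper56.J2

open Cfsg.Agent.Helper56 Cfsg.Agent.Helper56.PermN

def orb0 : List ℕ := [0, 1, 2, 3, 4, 5, 6, 7, 8, 9, 10, 11, 12, 13, 14, 15, 16, 17, 18, 19, 20, 21, 22, 23, 24, 25, 26, 27, 28, 29, 30, 31, 32, 33, 34, 35, 36, 37, 38, 39, 40, 41, 42, 43, 44, 45, 46, 47, 48, 49, 50, 51, 52, 53, 54, 55, 56, 57, 58, 59, 60, 61, 62, 63, 64, 65, 66, 67, 68, 69, 70, 71, 72, 73, 74, 75, 76, 77, 78, 79, 80, 81, 82, 83, 84, 85, 86, 87, 88, 89, 90, 91, 92, 93, 94, 95, 96, 97, 98, 99]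

def uw0 : List (List ℕ) := [[], [6, 4, 8], [8, 9], [6, 8], [5, 5, 8], [6, 3, 8], [1, 8], [0, 4, 8], [8, 3, 0, 8], [5, 0, 8], [2, 6, 1, 8], [8, 3, 8], [3, 0, 8], [6, 0, 8], [2, 8], [0, 5, 8], [4, 0, 8], [3, 8], [1, 0, 8], [6, 2, 8], [8], [2, 5, 8], [3, 1, 8], [8, 9, 8], [7, 4, 8], [7, 3, 8], [0, 8], [8, 2, 8], [5, 8], [4, 8], [7, 2, 8], [7, 8, 9], [8, 5, 9], [6, 1, 8], [0, 3, 8], [3, 3, 8], [0, 6, 8], [8, 6, 0, 8], [8, 0, 8], [9, 0, 9], [1, 9, 8], [8, 1, 8], [2, 1, 9], [3, 3, 9], [2, 7, 9], [8, 0, 9], [0, 8, 0, 8], [5, 9], [5, 5, 9], [6, 2, 9], [3, 5, 9], [9, 4, 9], [8, 6, 9], [3, 9, 0, 8], [9, 0, 8], [4, 5, 9], [8, 1, 9], [9, 6, 8], [4, 9], [6, 0, 9], [8, 6, 8], [1, 0, 9], [6, 9, 8], [7, 9, 8], [7, 9, 1,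 8], [7, 9], [0, 5, 9], [9, 4, 8], [0, 3, 9], [2, 0, 9], [0, 9, 8], [8, 4, 9], [1, 3, 9], [1, 9], [3, 9], [6, 3, 9], [9, 2, 8], [0, 9], [3, 2, 9], [0, 2, 9], [5, 7, 9], [3, 6, 9], [4, 9, 0, 8], [4, 0, 9], [4, 1, 9], [2, 5, 9], [8, 4, 8], [0, 4, 9], [7, 9, 0, 8], [5, 9, 8], [8, 3, 9], [2, 6, 9], [9, 9], [6, 9], [8, 1, 0, 8], [9], [2, 9], [7, 0, 9], [9, 8], [9, 1, 8]]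

def cert0 : List (List (List ℕ)) := [
  [[], [4, 7, 6, 0, 2], [], [], [6, 0, 7, 4, 4, 0, 2, 1, 0], [4, 7, 6, 2, 4, 1, 0], [], [5, 7, 2, 4, 1, 2, 1, 0], [], [5, 6, 2, 4, 3, 3, 1, 0], [7, 2, 5, 6, 4, 4], [], [], [], [], [3, 4, 7, 1, 2, 4], [4, 0, 6, 4, 4, 3], [], [], [4, 1, 6, 4, 0, 2], [], [3, 4, 6, 3, 4, 1], [0, 7, 6, 3, 1, 0], [], [7, 0, 6, 4, 4, 1, 2, 1, 0], [4, 7, 6, 4, 4, 2, 0], [], [], [5, 7, 0, 2, 4, 1, 2, 1], [], [5, 7, 0, 2, 4, 3, 3], [7, 3, 4, 3], [], [7, 2, 5, 6, 4, 4, 2], [7, 1, 6, 1, 2, 4, 1, 0], [4, 7, 6, 2, 4, 2, 1], [5, 7, 3, 4, 3, 3, 1, 0], [], [], [0, 7, 6, 4, 4, 1, 2], [6, 4, 4, 6, 0, 2, 4, 0, 2], [], [6, 4, 6, 2, 4, 3], [7, 2, 5, 6, 4, 4, 1, 2, 1], [7, 4, 7, 4, 4, 3, 0], [], [0, 7, 6, 2,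 4, 2, 1], [], [7, 2, 6, 1, 2, 4, 0, 2, 1, 0], [7, 0, 2, 4, 2], [5, 7, 4, 4, 3, 0], [4, 7, 6, 3, 0], [], [4, 6, 2, 4, 1, 2, 1], [6, 4, 0, 2, 1, 0], [0, 7, 6, 4, 4, 1], [], [3, 4, 6, 4, 4, 3, 3, 1, 0], [], [3, 4, 7, 0, 2, 4, 3, 0], [], [6, 0, 7, 4, 1, 0], [1, 6, 0, 2], [4, 1, 6, 1, 2, 4, 3, 1, 0], [7, 6, 3, 1, 0], [2, 6, 0, 7, 4, 2, 1], [0, 6, 0, 2, 4, 1, 2, 0], [2, 0, 6, 4, 4, 2, 0], [7, 6, 0, 2, 4, 1, 2], [2, 5, 6, 3, 3, 1, 0], [2, 6, 0, 7, 0, 2, 4, 1, 2], [], [5, 4, 6, 1, 2, 4, 2, 1, 0], [], [], [4, 0, 6, 4, 4, 3, 3, 1], [0, 6, 0, 2, 4, 3, 3, 1], [], [6, 4, 4, 6, 4, 4, 1, 2, 1, 0], [7, 4, 7, 4, 3, 3], [7, 0, 6, 4, 4, 2, 1], [7, 4, 7, 0, 2, 4, 0, 2, 1, 0], [0, 7, 6, 2, 4, 0, 2, 1], [6, 2, 4, 3, 1, 0], [4,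 0, 6, 3, 0], [7, 2, 5, 6, 2, 4, 1, 2], [], [6, 0, 7, 4, 4, 0, 2, 1], [2, 5, 6, 1, 2, 4, 3, 3, 1], [0, 6, 4, 4, 2], [], [0, 6, 4, 6, 1, 2, 4, 1, 2], [6], [], [], [], [1, 6, 2, 4, 2, 1, 0], [7, 7, 4], [], [6, 4, 7, 1, 2, 4, 3, 3]],
  [[], [0, 6, 1, 0], [7, 7, 3, 4], [], [4, 6, 2], [4, 7, 6, 0, 2, 4, 3, 1, 0], [], [6, 4, 7, 4, 1, 2, 0], [4, 4, 1, 2, 0], [7, 2, 5, 6, 0, 2, 4, 1, 2, 1, 0], [6, 4, 7, 1, 2, 4, 1], [6, 4, 6, 4, 4, 3, 3, 1, 0], [7, 4, 7, 1, 2, 4], [0, 7, 6, 2, 4, 0, 2, 1, 0], [], [2, 6, 0, 7, 4, 1, 2, 1, 0], [2, 6, 0, 7, 3, 3, 1, 0], [6, 4, 7, 0, 2, 4, 2], [6, 4, 6, 4, 1, 2, 0], [7, 6, 0, 2, 4, 2, 1], [], [3, 4, 6, 3, 4, 1], [6, 4, 6, 4, 0, 2, 0], [7, 1, 6, 0, 2, 4, 1, 2, 1, 0], [5, 6, 0, 2, 4, 3,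 3, 1, 0], [7, 0, 6, 4, 0, 2], [], [1, 6, 4, 4, 3], [4, 0, 6, 2, 0], [], [4, 1, 6, 4, 3], [7, 6, 4, 4, 2, 1, 0], [6, 0, 7, 4, 4, 0, 2], [0, 6, 4, 6, 4, 1], [6, 1, 2, 4, 3], [3, 0, 6, 0, 2, 4, 2], [5, 7, 4, 1, 0], [6, 0, 7, 2, 4, 3, 3, 0], [7, 2, 5, 6, 3, 0], [7, 0, 6, 0, 2, 4, 1, 2], [6, 3, 4, 1, 2, 1, 0], [5, 6, 3, 4, 0, 2, 1, 0], [3, 4, 7, 2, 1], [4, 7, 4, 4, 3, 0], [7, 2, 5, 6, 4, 4, 3, 1], [0, 6, 0, 2, 4], [7, 7, 2, 4, 3, 3, 1, 0], [4, 4, 6, 4, 1, 2, 1, 0], [2, 0, 6, 2, 4, 3, 1, 0], [1, 2, 4, 0, 2], [2, 0, 6, 1, 2, 4, 3, 1, 0], [3, 4, 6, 1, 2, 4, 1, 0], [7, 4, 4], [4, 6, 0, 2, 4, 3], [0, 2, 4, 0, 2, 1, 0], [7, 0, 6, 1, 2, 4, 3, 1, 0], [7, 2, 6, 4, 4, 1, 2, 1, 0], [4, 4, 0, 2, 0], [], [7, 2, 5, 6, 0, 2,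 4, 3, 3, 1], [2, 6, 3, 4], [6, 4, 7, 4, 1], [4, 4, 6, 4, 4, 0, 2, 1], [2, 6, 3, 4], [3, 4, 6, 1, 2, 4, 2, 0], [6], [4, 1, 6, 0, 2, 4, 1, 2], [2, 6, 0, 7, 2, 1, 0], [3, 0, 6, 1, 2, 4, 2, 0], [7, 4, 7, 4, 2, 1, 0], [6, 4, 6, 2, 4, 0], [6, 4, 7, 4, 4, 0, 2, 0], [7, 1, 2, 4, 3, 1, 0], [6, 4, 7, 2, 4], [7, 6, 3, 3], [1, 2, 4, 0], [4, 4, 6, 3, 3, 0], [], [4, 1, 6, 4, 3, 0], [7, 6, 3, 3], [7, 2, 5, 6, 2, 4, 2, 0], [0, 6, 4, 6, 4, 0, 2, 0], [6, 4, 6, 3, 4, 0, 2, 1], [7, 7, 3, 4, 3, 0], [7, 2, 6, 4, 4, 0, 2], [6, 4, 6, 0, 2, 4, 3, 3], [2, 6, 3, 0], [5, 7, 6, 0, 2, 4, 2], [6, 0, 7, 2, 4, 3, 3, 0], [4, 0, 6, 2, 4, 2], [0, 7, 2, 4, 3, 3, 1, 0], [5, 4, 6, 3, 4, 0, 2], [], [0, 7, 6, 0, 2, 1], [7, 2, 6, 0], [], [4, 4, 6,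 0, 2, 4, 3, 3, 0], [3, 0, 6, 0, 2, 4, 0, 2, 1, 0], [2, 0, 6, 4, 3, 3, 0], [5, 7, 6, 1, 2, 4, 1, 2, 0]]]

theorem chk0 : levelCheckN 100 cs 8 10 0 orb0 uw0 cert0 = true := by decide +kernel

def step0 : List (List ℕ) := [[9, 8, 9, 8, 9, 8, 9, 9, 8, 9, 8], [9, 8, 9, 9, 8, 9, 8, 9, 8, 9, 9]]

theorem schk0 : stepCheck 100 cs 6 8 10 step0 = true := by decide +kernel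

end Cfsg.Agent.Helper56.J2
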