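import Cfsg.Agent.Helper56.J2Data

set_option autoImplicit false
set_option maxRecDepth 1000000

namespace Cfsg.Agent.Helper56.J2

open Cfsg.Agent.Helper56 Cfsg.Agent.Helper56.PermN

def orb1 : List ℕ := [1, 2, 3, 4, 5, 6, 7, 8, 9, 10, 11, 12, 13, 14, 15, 16, 17, 18, 19, 20, 21, 22, 23, 24, 25, 26, 27, 28, 29, 30, 31, 32, 33, 34, 35, 36]

def uw1 : List (List ℕ) := [[], [], [5, 7, 6], [5, 6], [3, 0, 6], [7, 2, 6], [3, 4, 7], [2, 6], [6, 4, 6], [0, 6], [4, 7, 6], [2, 0, 6], [4, 0, 6], [6, 4, 4, 6], [6, 4, 7], [7], [6], [5, 7], [3, 4, 6], [7, 6], [5, 4, 6], [7, 7], [2, 5, 6], [7, 4, 7], [7, 1, 6], [6, 0, 7], [4, 4, 6], [0, 7, 6], [0, 7], [1, 6], [2, 6, 0, 7], [0, 6, 4, 6], [7, 2, 5, 6], [7, 0, 6], [4, 7], [4, 1, 6], [4, 6], [], [], [], [], [], [], [], [], [], [], [], [], [], [], [], [], [], [], [], [], [], [], [], [], [], [], [], [], [], [], [], [], [], [], [], [], [], [],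 [], [], [], [], [], [], [], [], [], [], [], [], [], [], [], [], [], [], [], [], [], [], [], [], []]

def cert1 : List (List (List ℕ)) := [
  [[], [], [4, 4, 1], [4, 1, 2, 0], [1, 2, 0], [2, 4], [4, 4, 0], [3, 0], [4, 3, 3, 0], [0, 2, 1, 0], [1, 2, 4, 0, 2, 1, 0], [3, 3, 1, 0], [3, 4, 3, 3, 1], [4, 1, 2, 1], [0, 2, 4, 3, 3, 1], [4], [0, 2], [3, 4, 0], [4, 3, 3, 0], [4, 2], [2, 4, 1], [], [4, 0, 2, 1], [1, 2, 4, 3, 3, 1], [3, 3, 1, 0], [4, 1], [], [3, 4, 2], [], [3], [4, 4, 1, 0], [4, 3, 3, 1, 0], [4, 2, 1, 0], [0, 2, 0], [], [3, 4, 1], [], [], [], [], [], [], [], [], [], [], [], [], [], [], [], [], [], [], [], [], [], [], [], [], [], [], [], [], [], [], [], [], [], [], [], [], [], [], [], [], [], [], [], [], [], [], [], [], [], [], [], [], [], [], [], [], [], [], [], [], [], [], [], []],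
  [[], [], [0, 2, 4, 3, 0], [2, 4], [1, 2, 4, 2, 1, 0], [1, 2, 4, 0, 2, 1, 0], [1, 2, 4, 2, 0], [], [2, 4, 3, 3, 1], [], [4, 2, 1, 0], [1, 2, 4, 1, 2, 1, 0], [0, 2, 0], [1, 2, 4, 0, 2, 1], [2, 4, 0], [], [], [3], [2, 4, 3, 3, 0], [1, 2, 4, 3, 0], [4, 4, 0, 2, 1], [], [], [0, 2, 4, 3, 3, 1], [1, 2, 4, 1, 2, 1, 0], [4, 0, 2, 1, 0], [4, 2], [1, 2, 4, 0, 2, 1, 0], [0, 2, 0], [], [3, 4, 1, 2, 1, 0], [2, 0], [1, 2, 1], [1, 2, 4, 3, 3, 1], [], [3, 3, 1, 0], [4, 2], [], [], [], [], [], [], [], [], [], [], [], [], [], [], [], [], [], [], [], [], [], [], [], [], [], [], [], [], [], [], [], [], [], [], [], [], [], [], [], [], [], [], [], [], [], [], [], [], [], [], [], [], [], [], [], [], [], [], [], [], [], [], []]]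

theorem chk1 : levelCheckN 100 cs 6 8 1 orb1 uw1 cert1 = true := by decide +kernel

def step1 : List (List ℕ) := [[7, 7, 6, 7], [7, 6, 6, 7, 6, 7, 6]]

theorem schk1 : stepCheck 100 cs 4 6 8 step1 = true := by decide +kernel

end Cfsg.Agent.Helper56.J2
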