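import Cfsg.Agent.Helper56.J2Data

set_option autoImplicit false
set_option maxRecDepth 1000000

namespace Cfsg.Agent.Helper56.J2

open Cfsg.Agent.Helper56 Cfsg.Agent.Helper56.PermN

def orb2 : List ℕ := [2, 5, 10, 19, 24, 27, 33]

def uw2 : List (List ℕ) := [[], [], [], [], [], [4], [], [], [], [], [1, 2, 4], [], [], [], [], [], [], [], [], [0, 2, 4], [], [], [], [], [3, 4], [], [], [2, 4], [], [], [], [], [], [4, 4], [], [], [], [], [], [], [], [], [], [], [], [], [], [], [], [], [], [], [], [], [], [], [], [], [], [], [], [], [], [], [], [], [], [], [], [], [], [], [], [], [], [], [], [], [], [], [], [], [], [], [], [], [], [], [], [], [], [], [], [], [], [], [], [], [], []]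

def cert2 : List (List (List ℕ)) := [
  [[], [], [], [], [], [], [], [], [], [], [0, 2, 1], [], [], [], [], [], [], [], [], [2, 1], [], [], [], [], [2, 1, 0], [], [], [2, 1], [], [], [], [], [], [], [], [], [], [], [], [], [], [], [], [], [], [], [], [], [], [], [], [], [], [], [], [], [], [], [], [], [], [], [], [], [], [], [], [], [], [], [], [], [], [], [], [], [], [], [], [], [], [], [], [], [], [], [], [], [], [], [], [], [], [], [], [], [], [], [], []],
  [[], [], [2], [], [], [2, 1], [], [], [], [], [2, 0], [], [], [], [], [], [], [], [], [3, 3, 1], [], [], [], [], [1, 0], [], [], [2], [], [], [], [], [], [3, 0], [], [], [], [], [], [], [], [], [], [], [], [], [], [], [], [], [], [], [], [], [], [], [], [], [], [], [], [], [], [], [], [], [], [], [], [], [], [], [], [], [], [], [], [], [], [], [], [], [], [], [], [], [], [], [], [], [], [], [], [], [], [], [], [], [], []]]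

theorem chk2 : levelCheckN 100 cs 4 6 2 orb2 uw2 cert2 = true := by decide +kernel

def step2 : List (List ℕ) := [[4, 4, 5], [5, 4, 5, 4, 4]]

theorem schk2 : stepCheck 100 cs 2 4 6 step2 = true := by decide +kernel

end Cfsg.Agent.Helper56.J2
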