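import Cfsg.Agent.Helper56.J2Data

set_option autoImplicit false
set_option maxRecDepth 1000000

namespace Cfsg.Agent.Helper56.J2

open Cfsg.Agent.Helper56 Cfsg.Agent.Helper56.PermN

def orb3 : List ℕ := [4, 7, 9, 11, 16, 29]

def uw3 : List (List ℕ) := [[], [], [], [], [], [], [], [3], [], [0, 2], [], [3, 3], [], [], [], [], [2], [], [], [], [], [], [], [], [], [], [], [], [], [1, 2], [], [], [], [], [], [], [], [], [], [], [], [], [], [], [], [], [], [], [], [], [], [], [], [], [], [], [], [], [], [], [], [], [], [], [], [], [], [], [], [], [], [], [], [], [], [], [], [], [], [], [], [], [], [], [], [], [], [], [], [], [], [], [], [], [], [], [], [], [], []]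

def cert3 : List (List (List ℕ)) := [
  [[], [], [], [], [], [], [], [0], [], [1, 0], [], [1], [], [], [], [], [0], [], [], [], [], [], [], [], [], [], [], [], [], [0], [], [], [], [], [], [], [], [], [], [], [], [], [], [], [], [], [], [], [], [], [], [], [], [], [], [], [], [], [], [], [], [], [], [], [], [], [], [], [], [], [], [], [], [], [], [], [], [], [], [], [], [], [], [], [], [], [], [], [], [], [], [], [], [], [], [], [], [], [], []],
  [[], [], [], [], [], [], [], [], [], [], [], [], [], [], [], [], [0], [], [], [], [], [], [], [], [], [], [], [], [], [1, 0], [], [], [], [], [], [], [], [], [], [], [], [], [], [], [], [], [], [], [], [], [], [], [], [], [], [], [], [], [], [], [], [], [], [], [], [], [], [], [], [], [], [], [], [], [], [], [], [], [], [], [], [], [], [], [], [], [], [], [], [], [], [], [], [], [], [], [], [], [], []]]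

theorem chk3 : levelCheckN 100 cs 2 4 4 orb3 uw3 cert3 = true := by decide +kernel

def step3 : List (List ℕ) := [[2, 3], [2, 2, 3, 3, 2]]

theorem schk3 : stepCheck 100 cs 0 2 4 step3 = true := by decide +kernel

end Cfsg.Agent.Helper56.J2
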