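import Mathlib

/-!
# A simplicity criterion for rank-3 Hurwitz permutation groups

`G = ⟨a, b⟩` with `a² = (ab)⁷ = 1`, acting faithfully and transitively on `X`, a point
stabilizer having orbits `{α}`, `Δ1`, `Δ2` with `|Δi| + 1 ∤ |X|`; if an element `x` of order `p`
with `p` coprime to `|G| / |X|` has `b` as a product of two of its conjugates, then `G` is simple.
-/

set_option autoImplicit false

namespace Cfsg.Agent.Helper56

open MulAction

/-- If `G = ⟨a, b⟩` with `a² = (ab)⁷ = 1`, a normal subgroup containing `b` is everything. -/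
theorem normal_eq_top_of_hurwitz {G : Type*} [Group G] (a b : G)
    (hgen : Subgroup.closure {a, b} = ⊤) (ha : a ^ 2 = 1) (hab : (a * b) ^ 7 = 1)
    (N : Subgroup G) [N.Normal] (hbN : b ∈ N) : N = ⊤ := by
  have h1 : (QuotientGroup.mk a : G ⧸ N) = QuotientGroup.mk (a * b) := by
    rw [QuotientGroup.mk_mul, (QuotientGroup.eq_one_iff b).mpr hbN, mul_one]
  have h7 : (QuotientGroup.mk a : G ⧸ N) ^ 7 = 1 := by
    rw [h1, ← QuotientGroup.mk_pow, hab, QuotientGroup.mk_one]
  have h2 : (QuotientGroup.mk a : G ⧸ N) ^ 2 = 1 := by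
    rw [← QuotientGroup.mk_pow, ha, QuotientGroup.mk_one]
  have h : (QuotientGroup.mk a : G ⧸ N) = 1 := by
    have hd : orderOf (QuotientGroup.mk a : G ⧸ N) ∣ Nat.gcd 7 2 :=
      Nat.dvd_gcd (orderOf_dvd_of_pow_eq_one h7) (orderOf_dvd_of_pow_eq_one h2)
    have : orderOf (QuotientGroup.mk a : G ⧸ N) = 1 := Nat.dvd_one.mp (by simpa using hd)
    exact orderOf_eq_one_iff.mp this
  have haN : a ∈ N := (QuotientGroup.eq_one_iff a).mp h
  rw [eq_top_iff, ← hgen, Subgroup.closure_le]
  rintro x (rfl | rfl)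
  · exact haN
  · exact hbN

theorem isSimpleGroup_of_rank3_hurwitz {G X : Type*} [Group G] [Finite G] [Fintype X]
    [DecidableEq X] [MulAction G X] [FaithfulSMul G X]
    (a b x g1 g2 : G) (hgen : Subgroup.closure {a, b} = ⊤) (ha : a ^ 2 = 1)
    (hab : (a * b) ^ 7 = 1)
    (α : X) (htr : ∀ δ : X, ∃ g : G, g • α = δ)
    (Δ1 Δ2 : Finset X) (hcov : ∀ δ : X, δ = α ∨ δ ∈ Δ1 ∨ δ ∈ Δ2) (hα1 : α ∉ Δ1) (hα2 : α ∉ Δ2)
    (h1 : ∀ δ ∈ Δ1, ∀ δ' ∈ Δ1, ∃ h : G, h • α = α ∧ h • δ = δ')
    (h2 : ∀ δ ∈ Δ2, ∀ δ' ∈ Δ2, ∃ h : G, h • α = α ∧ h • δ = δ')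
    (hd1 : ¬ (Δ1.card + 1) ∣ Fintype.card X) (hd2 : ¬ (Δ2.card + 1) ∣ Fintype.card X)
    (p : ℕ) (hx : x ^ p = 1) (hcop : Nat.Coprime p (Nat.card G / Fintype.card X))
    (hb' : b = (g1 * x * g1⁻¹) * (g2 * x * g2⁻¹)) (hnt : Nontrivial G) : IsSimpleGroup G := by
  have : IsPretransitive G X := ⟨fun y z => by
    obtain ⟨g, hg⟩ := htr y
    obtain ⟨h, hh⟩ := htr z
    exact ⟨h * g⁻¹, by rw [mul_smul, ← hg, inv_smul_smul, hh]⟩⟩
  refine { exists_pair_ne := hnt.exists_pair_ne, eq_bot_or_eq_top_of_normal := ?_ }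
  intro N hN
  by_contra hcon
  push Not at hcon
  obtain ⟨hNbot, hNtop⟩ := hcon
  set B : Set X := orbit N α with hB
  have hαB : α ∈ B := mem_orbit_self α
  have hblock : IsBlock G B := IsBlock.orbit_of_normal α
  have hdvd : B.ncard ∣ Fintype.card X := by
    have := hblock.ncard_dvd_card ⟨α, hαB⟩
    rwa [Nat.card_eq_fintype_card] at this
  have hinv : ∀ h : G, h • α = α → ∀ y ∈ B, h • y ∈ B := by
    intro h hh y hy
    obtain ⟨⟨m, hm⟩, rfl⟩ := hy
    refine ⟨⟨h * m * h⁻¹, hN.conj_mem m hm h⟩, ?_⟩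
    show (h * m * h⁻¹) • α = h • (m • α)
    have : h⁻¹ • α = α := by rw [inv_smul_eq_iff, hh]
    rw [mul_smul, mul_smul, this]
  have hfull : ∀ (Δ : Finset X),
      (∀ δ ∈ Δ, ∀ δ' ∈ Δ, ∃ h : G, h • α = α ∧ h • δ = δ') →
      (∃ y ∈ B, y ∈ Δ) → ∀ δ ∈ Δ, δ ∈ B := by
    rintro Δ hΔ ⟨y, hyB, hyΔ⟩ δ hδ
    obtain ⟨h, hh, rfl⟩ := hΔ y hyΔ δ hδ
    exact hinv h hh y hyB
  by_cases hP1 : ∃ y ∈ B, y ∈ Δ1
  · by_cases hP2 : ∃ y ∈ B, y ∈ Δ2
    · -- B = univ
      have hBuniv : B = Set.univ := by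
        ext y
        simp only [Set.mem_univ, iff_true]
        rcases hcov y with rfl | hy | hy
        · exact hαB
        · exact hfull Δ1 h1 hP1 y hy
        · exact hfull Δ2 h2 hP2 y hy
      have hcard : Fintype.card X ∣ Nat.card N := by
        have h3 : (stabilizer N α).index = B.ncard := index_stabilizer N α
        rw [hBuniv, Set.ncard_univ, Nat.card_eq_fintype_card] at h3
        rw [← h3]
        exact Subgroup.index_dvd_card _
      have hidx : N.index ∣ Nat.card G / Fintype.card X := by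
        obtain ⟨t, ht⟩ := hcard
        have h4 : Nat.card N * N.index = Nat.card G := Subgroup.card_mul_index N
        have hpos : 0 < Fintype.card X := Fintype.card_pos_iff.mpr ⟨α⟩
        refine ⟨t, ?_⟩
        rw [← h4, ht]
        rw [mul_assoc, Nat.mul_div_cancel_left _ hpos, mul_comm]
      have hcop' : Nat.Coprime p N.index := Nat.Coprime.coprime_dvd_right hidx hcop
      have hxN : x ∈ N := by
        have e1 : (QuotientGroup.mk x : G ⧸ N) ^ p = 1 := by
          rw [← QuotientGroup.mk_pow, hx, QuotientGroup.mk_one]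
        have e2 : (QuotientGroup.mk x : G ⧸ N) ^ N.index = 1 := by
          rw [← QuotientGroup.mk_pow]
          exact (QuotientGroup.eq_one_iff _).mpr (Subgroup.pow_index_mem N x)
        have hd : orderOf (QuotientGroup.mk x : G ⧸ N) ∣ Nat.gcd p N.index :=
          Nat.dvd_gcd (orderOf_dvd_of_pow_eq_one e1) (orderOf_dvd_of_pow_eq_one e2)
        rw [hcop'] at hd
        exact (QuotientGroup.eq_one_iff x).mp (orderOf_eq_one_iff.mp (Nat.dvd_one.mp hd))
      have hbN : b ∈ N := by
        rw [hb']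
        exact N.mul_mem (hN.conj_mem x hxN g1) (hN.conj_mem x hxN g2)
      exact hNtop (normal_eq_top_of_hurwitz a b hgen ha hab N hbN)
    · -- B = insert α Δ1
      have hBeq : B = ((insert α Δ1 : Finset X) : Set X) := by
        ext y
        simp only [Finset.coe_insert, Set.mem_insert_iff, Finset.mem_coe]
        constructor
        · intro hy
          rcases hcov y with rfl | hy' | hy'
          · left; rfl
          · right; exact hy'
          · exact absurd ⟨y, hy, hy'⟩ hP2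
        · rintro (rfl | hy)
          · exact hαB
          · exact hfull Δ1 h1 hP1 y hy
      rw [hBeq, Set.ncard_coe_finset, Finset.card_insert_of_notMem hα1] at hdvd
      exact hd1 hdvd
  · by_cases hP2 : ∃ y ∈ B, y ∈ Δ2
    · have hBeq : B = ((insert α Δ2 : Finset X) : Set X) := by
        ext y
        simp only [Finset.coe_insert, Set.mem_insert_iff, Finset.mem_coe]
        constructor
        · intro hy
          rcases hcov y with rfl | hy' | hy'
          · left; rfl
          · exact absurd ⟨y, hy, hy'⟩ hP1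
          · right; exact hy'
        · rintro (rfl | hy)
          · exact hαB
          · exact hfull Δ2 h2 hP2 y hy
      rw [hBeq, Set.ncard_coe_finset, Finset.card_insert_of_notMem hα2] at hdvd
      exact hd2 hdvd
    · -- N fixes α, hence everything
      have hfixα : ∀ m ∈ N, m • α = α := by
        intro m hm
        have hmB : m • α ∈ B := ⟨⟨m, hm⟩, rfl⟩
        rcases hcov (m • α) with h | h | h
        · exact h
        · exact absurd ⟨_, hmB, h⟩ hP1
        · exact absurd ⟨_, hmB, h⟩ hP2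
      apply hNbot
      rw [eq_bot_iff]
      intro m hm
      rw [Subgroup.mem_bot]
      apply FaithfulSMul.eq_of_smul_eq_smul (α := X)
      intro δ
      obtain ⟨g, rfl⟩ := htr δ
      rw [one_smul]
      have h5 : (g⁻¹ * m * g⁻¹⁻¹) • α = α := hfixα _ (hN.conj_mem m hm g⁻¹)
      rw [inv_inv, mul_smul, mul_smul, inv_smul_eq_iff] at h5
      exact h5

end Cfsg.Agent.Helper56
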