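import Cfsg.Agent.Helper56.J2Level0
import Cfsg.Agent.Helper56.J2Level1
import Cfsg.Agent.Helper56.J2Level2
import Cfsg.Agent.Helper56.J2Level3
import Cfsg.Agent.Helper56.J2Level4
import Cfsg.Agent.Helper56.J2Extra
import Cfsg.Agent.Helper56.SimpleCrit

/-!
# The Hall–Janko group on 100 points: order `604800` and simplicity
-/

set_option autoImplicit false

namespace Cfsg.Agent.Helper56.J2

open Cfsg.Agent.Helper56 Cfsg.Agent.Helper56.PermN

/-- the generators -/
abbrev gen : ℕ → Equiv.Perm (Fin 100) := genOf 100 cs cis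

theorem hHK4 : genGroup gen 0 ≤ Subgroup.closure (gen '' Set.Ico 0 2) := by
  rw [genGroup_zero]; exact bot_le

theorem hHK3 : genGroup gen 2 ≤ Subgroup.closure (gen '' Set.Ico 2 4) :=
  stepCheck_sound valid schk3 (genGroup_eq_closure_Ico gen hHK4)

theorem hHK2 : genGroup gen 4 ≤ Subgroup.closure (gen '' Set.Ico 4 6) :=
  stepCheck_sound valid schk2 (genGroup_eq_closure_Ico gen hHK3)

theorem hHK1 : genGroup gen 6 ≤ Subgroup.closure (gen '' Set.Ico 6 8) :=
  stepCheck_sound valid schk1 (genGroup_eq_closure_Ico gen hHK2)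

theorem hHK0 : genGroup gen 8 ≤ Subgroup.closure (gen '' Set.Ico 8 10) :=
  stepCheck_sound valid schk0 (genGroup_eq_closure_Ico gen hHK1)

theorem card2 : Nat.card (genGroup gen 2) = 4 := by
  have h := (levelN_sound valid (β := ⟨3, by norm_num⟩) chk4 hHK4).2.1
  rw [h, genGroup_zero, Subgroup.card_bot]; rfl

theorem card4 : Nat.card (genGroup gen 4) = 24 := by
  have h := (levelN_sound valid (β := ⟨4, by norm_num⟩) chk3 hHK3).2.1
  rw [h, card2]; rfl

theorem card6 : Nat.card (genGroup gen 6) = 168 := by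
  have h := (levelN_sound valid (β := ⟨2, by norm_num⟩) chk2 hHK2).2.1
  rw [h, card4]; rfl

theorem card8 : Nat.card (genGroup gen 8) = 6048 := by
  have h := (levelN_sound valid (β := ⟨1, by norm_num⟩) chk1 hHK1).2.1
  rw [h, card6]; rfl

theorem card10 : Nat.card (genGroup gen 10) = 604800 := by
  have h := (levelN_sound valid (β := ⟨0, by norm_num⟩) chk0 hHK0).2.1
  rw [h, card8]; rfl

/-- the group -/
def G0 : Subgroup (Equiv.Perm (Fin 100)) := Subgroup.closure {gen 8, gen 9}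

theorem G0_eq : G0 = genGroup gen 10 := by
  rw [genGroup_eq_closure_Ico gen hHK0]
  unfold G0
  congr 1
  ext g
  simp only [Set.mem_insert_iff, Set.mem_singleton_iff, Set.mem_image, Set.mem_Ico]
  constructor
  · rintro (rfl | rfl)
    · exact ⟨8, by norm_num, rfl⟩
    · exact ⟨9, by norm_num, rfl⟩
  · rintro ⟨j, ⟨h1, h2⟩, rfl⟩
    have : j = 8 ∨ j = 9 := by omega
    rcases this with rfl | rfl
    · left; rfl
    · right; rfl

theorem card_G0 : Nat.card G0 = 604800 := by rw [G0_eq]; exact card10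

theorem wprod_mem_G0 (l : List ℕ) (hl : ∀ j ∈ l, j < 10) : wprod gen l ∈ G0 := by
  rw [G0_eq]; exact wprod_mem gen 10 l hl

theorem gen_mem_G0 (j : ℕ) (hj : j < 10) : gen j ∈ G0 := by
  rw [G0_eq]; exact Subgroup.subset_closure ⟨j, hj, rfl⟩

theorem le_G0 : genGroup gen 8 ≤ G0 := by
  rw [G0_eq]; exact genGroup_mono gen (by norm_num)

/-- the point `α = 0` -/
abbrev pt0 : Fin 100 := ⟨0, by norm_num⟩

theorem fix8 : ∀ h ∈ genGroup gen 8, h pt0 = pt0 := by
  intro h hh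
  have h1 := (levelN_sound valid (β := pt0) chk0 hHK0).1
  rw [← h1] at hh
  exact hh.2

theorem trans10 (δ : Fin 100) : ∃ g ∈ G0, g pt0 = δ := by
  have h1 := (levelN_sound valid (β := pt0) chk0 hHK0).2.2 δ
  rw [G0_eq]
  apply h1.mp
  have key : ∀ m : ℕ, m < 100 → m ∈ orb0 := by decide
  exact key δ.val δ.isLt

theorem orbit36 (δ : Fin 100) (hδ : δ.val ∈ orb1) :
    ∃ g ∈ genGroup gen 8, g (⟨1, by norm_num⟩ : Fin 100) = δ :=
  ((levelN_sound valid (β := ⟨1, by norm_num⟩) chk1 hHK1).2.2 δ).mp hδ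

theorem orbit63 (δ : Fin 100) (hδ : δ.val ∈ orb63) :
    ∃ g ∈ genGroup gen 8, g (⟨37, by norm_num⟩ : Fin 100) = δ :=
  imgCheck_sound valid (γ := ⟨37, by norm_num⟩) chk63 δ hδ

theorem stab_trans (γ : Fin 100) (L : List ℕ)
    (horb : ∀ δ : Fin 100, δ.val ∈ L → ∃ g ∈ genGroup gen 8, g γ = δ)
    (δ δ' : Fin 100) (hδ : δ.val ∈ L) (hδ' : δ'.val ∈ L) :
    ∃ h : G0, h • pt0 = pt0 ∧ h • δ = δ' := by
  obtain ⟨g, hg, rfl⟩ := horb δ hδ
  obtain ⟨g', hg', rfl⟩ := horb δ' hδ'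
  refine ⟨⟨g' * g⁻¹, le_G0 (Subgroup.mul_mem _ hg' (Subgroup.inv_mem _ hg))⟩, ?_, ?_⟩
  · show (g' * g⁻¹) pt0 = pt0
    exact fix8 _ (Subgroup.mul_mem _ hg' (Subgroup.inv_mem _ hg))
  · show (g' * g⁻¹) (g γ) = g' γ
    simp

theorem w2 (i j : ℕ) : wprod gen [i, j] = gen i * gen j := by simp [wprod]

theorem w3 (i j k : ℕ) : wprod gen [i, j, k] = gen i * gen j * gen k := by
  simp [wprod, mul_assoc]

theorem w1 (i : ℕ) : wprod gen [i] = gen i := by simp [wprod]

theorem w0 : wprod gen [] = 1 := by simp [wprod]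

theorem a_sq : gen 8 ^ 2 = 1 := by
  have h := eqWords_sound valid (w1 := [8, 8]) (w2 := []) (by decide) (by decide) id_a2
  rw [w2, w0] at h
  rw [pow_two]; exact h

theorem ab_pow7 : (gen 8 * gen 9) ^ 7 = 1 := by
  have h := eqWords_sound valid (w1 := [8, 9, 8, 9, 8, 9, 8, 9, 8, 9, 8, 9, 8, 9]) (w2 := [])
    (by decide) (by decide) id_ab7
  rw [w0] at h
  rw [← h]
  simp [wprod, pow_succ, mul_assoc]

theorem x_mem : gen 10 ∈ G0 := by
  have h := eqWords_sound valid (w1 := [10]) (w2 := xw) (by decide) (by decide) id_x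
  rw [w1] at h
  rw [h]
  exact wprod_mem_G0 xw (by decide)

theorem x_pow5 : gen 10 ^ 5 = 1 := by
  have h := eqWords_sound valid (w1 := [10, 10, 10, 10, 10]) (w2 := [])
    (by decide) (by decide) id_x5
  rw [w0] at h
  rw [← h]
  simp [wprod, pow_succ, mul_assoc]

theorem b_eq : gen 9 = (gen 8 * gen 10 * (gen 8)⁻¹) *
    ((gen 9 * gen 8) * gen 10 * (gen 9 * gen 8)⁻¹) := by
  have h1 := eqWords_sound valid (w1 := [11, 8]) (w2 := [8, 10]) (by decide) (by decide) id_y1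
  have h2 := eqWords_sound valid (w1 := [12, 9, 8]) (w2 := [9, 8, 10]) (by decide) (by decide)
    id_y2
  have h3 := eqWords_sound valid (w1 := [9]) (w2 := [11, 12]) (by decide) (by decide) id_b
  rw [w2, w2] at h1
  rw [w3, w3] at h2
  rw [w1, w2] at h3
  have e1 : gen 11 = gen 8 * gen 10 * (gen 8)⁻¹ := by rw [← h1]; group
  have e2 : gen 12 = (gen 9 * gen 8) * gen 10 * (gen 9 * gen 8)⁻¹ := by
    rw [← h2]; group
  calc gen 9 = gen 11 * gen 12 := h3
    _ = _ := by rw [e1, e2]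

/-- the two nontrivial suborbits -/
def D1 : Finset (Fin 100) := Finset.univ.filter fun δ => δ.val ∈ orb1
def D2 : Finset (Fin 100) := Finset.univ.filter fun δ => δ.val ∈ orb63

theorem card_D (L : List ℕ) (hnd : L.Nodup) (hlt : ∀ δ ∈ L, δ < 100) :
    (Finset.univ.filter fun δ : Fin 100 => δ.val ∈ L).card = L.length := by
  rw [← card_subtype_mem_list (n := 100) L hnd hlt, Nat.card_eq_fintype_card,
    Fintype.card_subtype]

theorem card_D1 : D1.card = 36 := by
  unfold D1; rw [card_D orb1 (by decide) (by decide)]; rfl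

theorem card_D2 : D2.card = 63 := by
  unfold D2; rw [card_D orb63 (by decide) (by decide)]; rfl

theorem simple_G0 : IsSimpleGroup G0 := by
  have hcard : Nat.card G0 = 604800 := card_G0
  have hnt : Nontrivial G0 := by
    rw [← Finite.one_lt_card_iff_nontrivial, hcard]; norm_num
  have hgen : Subgroup.closure ({⟨gen 8, gen_mem_G0 8 (by norm_num)⟩,
      ⟨gen 9, gen_mem_G0 9 (by norm_num)⟩} : Set G0) = ⊤ := by
    have h : Subgroup.closure ((Subtype.val : G0 → Equiv.Perm (Fin 100)) ⁻¹' {gen 8, gen 9}) = ⊤ :=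
      Subgroup.closure_closure_coe_preimage
    have hset : ((Subtype.val : G0 → Equiv.Perm (Fin 100)) ⁻¹' {gen 8, gen 9}) =
        ({⟨gen 8, gen_mem_G0 8 (by norm_num)⟩, ⟨gen 9, gen_mem_G0 9 (by norm_num)⟩} : Set G0) := by
      ext ⟨g, hg⟩
      simp only [Set.mem_insert_iff, Set.mem_singleton_iff, Set.mem_preimage, Subtype.mk.injEq]
    rw [← hset]; exact h
  refine isSimpleGroup_of_rank3_hurwitz (G := G0) (X := Fin 100)
    ⟨gen 8, gen_mem_G0 8 (by norm_num)⟩ ⟨gen 9, gen_mem_G0 9 (by norm_num)⟩ ⟨gen 10, x_mem⟩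
    ⟨gen 8, gen_mem_G0 8 (by norm_num)⟩
    ⟨gen 9 * gen 8, Subgroup.mul_mem _ (gen_mem_G0 9 (by norm_num)) (gen_mem_G0 8 (by norm_num))⟩
    hgen ?_ ?_ pt0 ?_ D1 D2 ?_ ?_ ?_ ?_ ?_ ?_ ?_ 5 ?_ ?_ ?_ hnt
  · apply Subtype.ext; exact a_sq
  · apply Subtype.ext; exact ab_pow7
  · intro δ
    obtain ⟨g, hg, hgδ⟩ := trans10 δ
    exact ⟨⟨g, hg⟩, hgδ⟩
  · intro δ
    have key : ∀ m : ℕ, m < 100 → m = 0 ∨ m ∈ orb1 ∨ m ∈ orb63 := by decide
    rcases key δ.val δ.isLt with h | h | h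
    · left; exact Fin.ext h
    · right; left; exact Finset.mem_filter.mpr ⟨Finset.mem_univ _, h⟩
    · right; right; exact Finset.mem_filter.mpr ⟨Finset.mem_univ _, h⟩
  · intro h
    have := (Finset.mem_filter.mp h).2
    revert this; decide
  · intro h
    have := (Finset.mem_filter.mp h).2
    revert this; decide
  · intro δ hδ δ' hδ'
    exact stab_trans ⟨1, by norm_num⟩ orb1 orbit36 δ δ' (Finset.mem_filter.mp hδ).2
      (Finset.mem_filter.mp hδ').2
  · intro δ hδ δ' hδ'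
    exact stab_trans ⟨37, by norm_num⟩ orb63 orbit63 δ δ' (Finset.mem_filter.mp hδ).2
      (Finset.mem_filter.mp hδ').2
  · rw [card_D1, Fintype.card_fin]; norm_num
  · rw [card_D2, Fintype.card_fin]; norm_num
  · apply Subtype.ext; exact x_pow5
  · rw [hcard, Fintype.card_fin]; norm_num
  · apply Subtype.ext; exact b_eq

end Cfsg.Agent.Helper56.J2
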