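import Cfsg.Agent.Helper56.SchreierPerm

set_option autoImplicit false
open Cfsg.Agent.Helper56

namespace Cfsg.Agent.Helper56.M12

def gs : Equiv.Perm (Fin 12) := Equiv.swap (3 : Fin 12) 5 * Equiv.swap (3 : Fin 12) 4 * Equiv.swap (6 : Fin 12) 8 * Equiv.swap (6 : Fin 12) 7 * Equiv.swap (9 : Fin 12) 11 * Equiv.swap (9 : Fin 12) 10
def gt : Equiv.Perm (Fin 12) := Equiv.swap (3 : Fin 12) 9 * Equiv.swap (3 : Fin 12) 6 * Equiv.swap (4 : Fin 12) 10 * Equiv.swap (4 : Fin 12) 7 * Equiv.swap (5 : Fin 12) 11 * Equiv.swap (5 : Fin 12) 8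
def gu : Equiv.Perm (Fin 12) := Equiv.swap (4 : Fin 12) 9 * Equiv.swap (4 : Fin 12) 5 * Equiv.swap (4 : Fin 12) 6 * Equiv.swap (7 : Fin 12) 10 * Equiv.swap (7 : Fin 12) 11 * Equiv.swap (7 : Fin 12) 8
def gv : Equiv.Perm (Fin 12) := Equiv.swap (4 : Fin 12) 11 * Equiv.swap (4 : Fin 12) 5 * Equiv.swap (4 : Fin 12) 7 * Equiv.swap (6 : Fin 12) 8 * Equiv.swap (6 : Fin 12) 9 * Equiv.swap (6 : Fin 12) 10
def gw : Equiv.Perm (Fin 12) := Equiv.swap (4 : Fin 12) 8 * Equiv.swap (4 : Fin 12) 5 * Equiv.swap (4 : Fin 12) 10 * Equiv.swap (6 : Fin 12) 7 * Equiv.swap (6 : Fin 12) 9 * Equiv.swap (6 : Fin 12) 11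
def gx1 : Equiv.Perm (Fin 12) := Equiv.swap (0 : Fin 12) 3 * Equiv.swap (6 : Fin 12) 7 * Equiv.swap (8 : Fin 12) 10 * Equiv.swap (9 : Fin 12) 11
def gx2 : Equiv.Perm (Fin 12) := Equiv.swap (0 : Fin 12) 1 * Equiv.swap (6 : Fin 12) 9 * Equiv.swap (7 : Fin 12) 10 * Equiv.swap (8 : Fin 12) 11
def gx3 : Equiv.Perm (Fin 12) := Equiv.swap (1 : Fin 12) 2 * Equiv.swap (6 : Fin 12) 11 * Equiv.swap (7 : Fin 12) 9 * Equiv.swap (8 : Fin 12) 10

/-- generators in chain order: u v w s t x₁ x₂ x₃ -/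
def gen : ℕ → Equiv.Perm (Fin 12)
  | 0 => gu | 1 => gv | 2 => gw | 3 => gs | 4 => gt | 5 => gx1 | 6 => gx2 | 7 => gx3 | _ => 1

def uw1 : List (List ℕ) := [[6, 7], [7], [], [5, 6, 7], [3, 5, 6, 7], [3, 3, 5, 6, 7], [4, 5, 6, 7], [1, 3, 5, 6, 7], [0, 1, 3, 5, 6, 7], [4, 4, 5, 6, 7], [2, 3, 5, 6, 7], [2, 4, 5, 6, 7]]

def cert1 : List (List (List ℕ)) := [
  [[1], [2, 0], [0], [0, 1], [0, 1], [0, 1], [0, 1], [], [0, 1], [0, 1], [], [2]],
  [[0, 1], [1, 2], [1], [1], [], [2], [2], [0, 0], [0, 1], [0, 1], [2], [2]],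
  [[1, 2], [0, 1], [2], [0], [], [0, 0], [], [0, 1], [], [0, 1], [0, 0], [0, 0]],
  [[3], [3], [3], [], [], [], [2, 0], [0, 1], [1, 2], [1, 2], [], [0]],
  [[4, 3], [2, 4, 0, 1], [4], [], [2, 0], [0], [], [2], [0, 0], [], [0], [0]],
  [[], [5], [5], [], [0, 4, 0], [3, 0, 0], [0, 4, 1], [2, 3], [0, 4, 0], [4, 4, 3], [0, 4, 0], [4, 3, 3]],
  [[], [], [6], [5], [5], [5], [5], [5], [5, 2], [5], [5], [5, 2]],
  [[6], [], [], [6], [6], [6], [6, 0], [6, 1], [6], [6, 0, 1], [6], [6, 0]]]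

def pre1 : List (Fin 12) := []

theorem check1 : levelCheck gen 8 7 2 pre1 uw1 cert1 = true := by decide +kernel

def uw2 : List (List ℕ) := [[6], [], [], [5, 6], [3, 5, 6], [3, 3, 5, 6], [4, 5, 6], [1, 3, 5, 6], [0, 1, 3, 5, 6], [4, 4, 5, 6], [2, 3, 5, 6], [2, 4, 5, 6]]

def cert2 : List (List (List ℕ)) := [
  [[1, 2], [0], [], [2], [2], [2], [2], [], [2], [2], [], [0, 1]],
  [[2], [1], [], [1, 2], [], [0, 1], [0, 1], [0, 0], [2], [2], [0, 1], [0, 1]],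
  [[1], [2], [], [2, 0], [], [0, 0], [], [2], [], [2], [0, 0], [0, 0]],
  [[3], [3], [], [], [], [], [0], [2], [1], [1], [], [2, 0]],
  [[4, 4], [4], [], [], [0], [2, 0], [], [0, 1], [0, 0], [], [2, 0], [2, 0]],
  [[], [5], [], [], [0, 4, 0], [3, 0, 0], [3, 3, 2], [0, 1, 3], [0, 4, 0], [4, 3, 3], [0, 4, 0], [4, 4, 3]],
  [[], [], [], [5], [5], [5], [5], [5], [2, 5], [5], [5], [2, 5]]]

def pre2 : List (Fin 12) := [2]

theorem check2 : levelCheck gen 7 6 1 pre2 uw2 cert2 = true := by decide +kernel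

def uw3 : List (List ℕ) := [[], [], [], [5], [3, 5], [3, 3, 5], [4, 5], [1, 3, 5], [0, 1, 3, 5], [4, 4, 5], [2, 3, 5], [2, 4, 5]]

def cert3 : List (List (List ℕ)) := [
  [[0], [], [], [1], [1], [1], [1], [], [1], [1], [], [2, 0]],
  [[1], [], [], [0], [], [2, 0], [2, 0], [0, 0], [1], [1], [2, 0], [2, 0]],
  [[2], [], [], [0, 1], [], [0, 0], [], [1], [], [1], [0, 0], [0, 0]],
  [[3], [], [], [], [], [], [1, 2], [1], [2], [2], [], [0, 1]],
  [[4], [], [], [], [1, 2], [0, 1], [], [2, 0], [0, 0], [], [0, 1], [0, 1]],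
  [[], [], [], [], [0, 4, 0], [3, 0, 0], [3, 3, 1], [2, 4, 0], [0, 4, 0], [2, 4, 0, 1], [0, 4, 0], [4, 3]]]

def pre3 : List (Fin 12) := [2, 1]

theorem check3 : levelCheck gen 6 5 0 pre3 uw3 cert3 = true := by decide +kernel

def uw4 : List (List ℕ) := [[], [], [], [], [3], [3, 3], [4], [1, 3], [0, 1, 3], [4, 4], [2, 3], [2, 4]]

def cert4 : List (List (List ℕ)) := [
  [[], [], [], [0], [0], [0], [0], [], [0], [0], [], [1, 2]],
  [[], [], [], [1], [], [1, 2], [1, 2], [0, 0], [0], [0], [1, 2], [1, 2]],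
  [[], [], [], [2], [], [0, 0], [], [0], [], [0], [0, 0], [0, 0]],
  [[], [], [], [], [], [], [2, 0], [0], [0, 1], [0, 1], [], [2]],
  [[], [], [], [], [2, 0], [2], [], [1, 2], [0, 0], [], [2], [2]]]

def pre4 : List (Fin 12) := [2, 1, 0]

theorem check4 : levelCheck gen 5 3 3 pre4 uw4 cert4 = true := by decide +kernel

def uw5 : List (List ℕ) := [[], [], [], [], [], [0, 0], [0], [1], [0, 1], [1, 2], [2], [2, 0]]

def cert5 : List (List (List ℕ)) := [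
  [[], [], [], [], [], [], [], [], [], [], [], []],
  [[], [], [], [], [], [], [], [], [], [], [], []],
  [[], [], [], [], [], [], [], [], [], [], [], []]]

def pre5 : List (Fin 12) := [2, 1, 0, 3]

theorem check5 : levelCheck gen 3 0 4 pre5 uw5 cert5 = true := by decide +kernel


end Cfsg.Agent.Helper56.M12
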