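import Mathlib

/-!
# Monomial `2 × 2` linear maps over `ZMod q`

`Dg a b : (x, y) ↦ (a x, b y)` and `Nn a b : (x, y) ↦ (b y, a x)` for units `a b`, with their
multiplication rules.
-/

set_option autoImplicit false

namespace Cfsg.Agent.Helper56.Mono

variable {q : ℕ}

abbrev Vec (q : ℕ) := Fin 2 → ZMod q
abbrev E (q : ℕ) := Vec q ≃ₗ[ZMod q] Vec q

/-- diagonal map -/
def Dg (a b : (ZMod q)ˣ) : E q where
  toFun v := ![(a : ZMod q) * v 0, (b : ZMod q) * v 1]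
  map_add' v w := by
    ext i; fin_cases i <;> simp [mul_add]
  map_smul' c v := by
    ext i; fin_cases i <;> simp [mul_left_comm]
  invFun v := ![((a⁻¹ : (ZMod q)ˣ) : ZMod q) * v 0, ((b⁻¹ : (ZMod q)ˣ) : ZMod q) * v 1]
  left_inv v := by
    ext i; fin_cases i <;> simp
  right_inv v := by
    ext i; fin_cases i <;> simp

/-- anti-diagonal map -/
def Nn (a b : (ZMod q)ˣ) : E q where
  toFun v := ![(b : ZMod q) * v 1, (a : ZMod q) * v 0]
  map_add' v w := by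
    ext i; fin_cases i <;> simp [mul_add]
  map_smul' c v := by
    ext i; fin_cases i <;> simp [mul_left_comm]
  invFun v := ![((a⁻¹ : (ZMod q)ˣ) : ZMod q) * v 1, ((b⁻¹ : (ZMod q)ˣ) : ZMod q) * v 0]
  left_inv v := by
    ext i; fin_cases i <;> simp
  right_inv v := by
    ext i; fin_cases i <;> simp

theorem Dg_apply (a b : (ZMod q)ˣ) (v : Vec q) : Dg a b v = ![(a : ZMod q) * v 0, (b : ZMod q) * v 1] := rfl
theorem Nn_apply (a b : (ZMod q)ˣ) (v : Vec q) : Nn a b v = ![(b : ZMod q) * v 1, (a : ZMod q) * v 0] := rfl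

theorem Dg_mul_Dg (a b c d : (ZMod q)ˣ) : Dg a b * Dg c d = Dg (a * c) (b * d) := by
  ext v i
  rw [LinearEquiv.mul_apply, Dg_apply, Dg_apply, Dg_apply]
  fin_cases i <;> simp [mul_assoc]

theorem Dg_mul_Nn (a b c d : (ZMod q)ˣ) : Dg a b * Nn c d = Nn (b * c) (a * d) := by
  ext v i
  rw [LinearEquiv.mul_apply, Dg_apply, Nn_apply, Nn_apply]
  fin_cases i <;> simp [mul_assoc]

theorem Nn_mul_Dg (a b c d : (ZMod q)ˣ) : Nn a b * Dg c d = Nn (a * c) (b * d) := by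
  ext v i
  rw [LinearEquiv.mul_apply, Nn_apply, Dg_apply, Nn_apply]
  fin_cases i <;> simp [mul_assoc]

theorem Nn_mul_Nn (a b c d : (ZMod q)ˣ) : Nn a b * Nn c d = Dg (b * c) (a * d) := by
  ext v i
  rw [LinearEquiv.mul_apply, Nn_apply, Nn_apply, Dg_apply]
  fin_cases i <;> simp [mul_assoc]

theorem Dg_one : Dg (1 : (ZMod q)ˣ) 1 = 1 := by
  ext v i
  rw [Dg_apply]
  fin_cases i <;> simp

theorem Dg_inv (a b : (ZMod q)ˣ) : (Dg a b)⁻¹ = Dg a⁻¹ b⁻¹ := by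
  rw [inv_eq_iff_mul_eq_one, Dg_mul_Dg, mul_inv_cancel, mul_inv_cancel, Dg_one]

theorem Nn_inv (a b : (ZMod q)ˣ) : (Nn a b)⁻¹ = Nn b⁻¹ a⁻¹ := by
  rw [inv_eq_iff_mul_eq_one, Nn_mul_Nn, mul_inv_cancel, mul_inv_cancel, Dg_one]

theorem Dg_pow (a b : (ZMod q)ˣ) (k : ℕ) : Dg a b ^ k = Dg (a ^ k) (b ^ k) := by
  induction k with
  | zero => rw [pow_zero, pow_zero, pow_zero, Dg_one]
  | succ k ih => rw [pow_succ, ih, Dg_mul_Dg, pow_succ, pow_succ]

theorem Dg_injective {a b c d : (ZMod q)ˣ} (h : Dg a b = Dg c d) : a = c ∧ b = d := by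
  have h0 := congrFun (congrArg (fun f : E q => f ![1, 0]) h) 0
  have h1 := congrFun (congrArg (fun f : E q => f ![0, 1]) h) 1
  simp [Dg_apply] at h0 h1
  exact ⟨Units.ext h0, Units.ext h1⟩

theorem Nn_injective {a b c d : (ZMod q)ˣ} (h : Nn a b = Nn c d) : a = c ∧ b = d := by
  have h0 := congrFun (congrArg (fun f : E q => f ![1, 0]) h) 1
  have h1 := congrFun (congrArg (fun f : E q => f ![0, 1]) h) 0
  simp [Nn_apply] at h0 h1
  exact ⟨Units.ext h0, Units.ext h1⟩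

theorem Dg_ne_Nn [Fact (1 < q)] (a b c d : (ZMod q)ˣ) : Dg a b ≠ Nn c d := by
  intro h
  have h0 := congrFun (congrArg (fun f : E q => f ![1, 0]) h) 0
  simp [Dg_apply, Nn_apply] at h0

end Cfsg.Agent.Helper56.Mono
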