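import Mathlib

/-!
# `SL` and `PSL` over isomorphic rings; a double-coset criterion for 2-transitivity
-/

set_option autoImplicit false

namespace Cfsg.Agent.Helper56.PSLCongr

open Matrix

variable {n : Type*} [DecidableEq n] [Fintype n] {R S : Type*} [CommRing R] [CommRing S]

/-- `SL n R ≃* SL n S` for isomorphic rings. -/
def slCongr (e : R ≃+* S) : SpecialLinearGroup n R ≃* SpecialLinearGroup n S where
  toFun := SpecialLinearGroup.map e.toRingHom
  invFun := SpecialLinearGroup.map e.symm.toRingHom
  left_inv g := by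
    apply Subtype.ext
    ext i j
    show e.symm (e ((g : Matrix n n R) i j)) = _
    exact e.symm_apply_apply _
  right_inv g := by
    apply Subtype.ext
    ext i j
    show e (e.symm ((g : Matrix n n S) i j)) = _
    exact e.apply_symm_apply _
  map_mul' := map_mul _

theorem map_center_of_mulEquiv {G G' : Type*} [Group G] [Group G'] (e : G ≃* G') :
    (Subgroup.center G).map e.toMonoidHom = Subgroup.center G' := by
  ext z
  constructor
  · rintro ⟨w, hw, rfl⟩
    rw [Subgroup.mem_center_iff]
    intro g
    obtain ⟨g', rfl⟩ := e.surjective g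
    have := Subgroup.mem_center_iff.mp hw g'
    show e g' * e w = e w * e g'
    rw [← map_mul, ← map_mul, this]
  · intro hz
    refine ⟨e.symm z, ?_, by simp⟩
    show e.symm z ∈ Subgroup.center G
    rw [Subgroup.mem_center_iff]
    intro g
    apply e.injective
    rw [map_mul, map_mul, e.apply_symm_apply]
    exact Subgroup.mem_center_iff.mp hz (e g)

/-- `PSL n R ≃* PSL n S` for isomorphic rings. -/
noncomputable def pslCongr (e : R ≃+* S) :
    ProjectiveSpecialLinearGroup n R ≃* ProjectiveSpecialLinearGroup n S :=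
  QuotientGroup.congr _ _ (slCongr e) (map_center_of_mulEquiv (slCongr e))

/-- Double-coset criterion for 2-transitivity on cosets. -/
theorem two_transitive_of_double_coset {G : Type*} [Group G] (H : Subgroup G) (g0 : G)
    (h : ∀ g : G, g ∈ H ∨ ∃ h1 ∈ H, ∃ h2 ∈ H, g = h1 * g0 * h2) :
    MulAction.IsMultiplyPretransitive G (G ⧸ H) 2 := by
  rw [MulAction.is_two_pretransitive_iff]
  -- any pair of distinct cosets is the image of `(H, g0 H)`
  have key : ∀ a b : G ⧸ H, a ≠ b → ∃ u : G, (u : G ⧸ H) = a ∧ ((u * g0 : G) : G ⧸ H) = b := by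
    intro a b hab
    obtain ⟨x, rfl⟩ := QuotientGroup.mk_surjective a
    obtain ⟨y, rfl⟩ := QuotientGroup.mk_surjective b
    rcases h (x⁻¹ * y) with hmem | ⟨h1, hh1, h2, hh2, heq⟩
    · exact absurd (QuotientGroup.eq.mpr hmem) hab
    · refine ⟨x * h1, ?_, ?_⟩
      · rw [QuotientGroup.eq]
        simpa using H.inv_mem hh1
      · rw [QuotientGroup.eq]
        have : (x * h1 * g0)⁻¹ * y = h2 := by
          have hy : y = x * (h1 * g0 * h2) := by rw [← heq]; group
          rw [hy]; group
        rw [this]; exact hh2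
  intro a b c d hab hcd
  obtain ⟨u, rfl, rfl⟩ := key a b hab
  obtain ⟨v, rfl, rfl⟩ := key c d hcd
  refine ⟨v * u⁻¹, ?_, ?_⟩
  · rw [MulAction.Quotient.smul_mk, smul_eq_mul]
    congr 1; group
  · rw [MulAction.Quotient.smul_mk, smul_eq_mul]
    congr 1; group

end Cfsg.Agent.Helper56.PSLCongr
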