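import Mathlib

/-!
# Brute-force facts about `SL(2,11)`: the binary icosahedral subgroup of order `120` and its cosets

Quadruples over `ZMod 11` are converted to quadruples of naturals; membership in the subgroup is a
bit test in a `14641`-bit mask, so that the kernel evaluates everything with GMP arithmetic.
-/

set_option autoImplicit false

namespace Cfsg.Agent.Helper56.SL211

abbrev Q11 := ZMod 11 × ZMod 11 × ZMod 11 × ZMod 11

def qmul (x y : Q11) : Q11 :=
  (x.1 * y.1 + x.2.1 * y.2.2.1, x.1 * y.2.1 + x.2.1 * y.2.2.2,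
   x.2.2.1 * y.1 + x.2.2.2 * y.2.2.1, x.2.2.1 * y.2.1 + x.2.2.2 * y.2.2.2)

def qone : Q11 := (1, 0, 0, 1)

def qneg : Q11 := (10, 0, 0, 10)

def qpow (x : Q11) : ℕ → Q11
  | 0 => qone
  | k + 1 => qmul (qpow x k) x

def qdet (x : Q11) : ZMod 11 := x.1 * x.2.2.2 - x.2.1 * x.2.2.1

def qinv (x : Q11) : Q11 := (x.2.2.2, -x.2.1, -x.2.2.1, x.1)

/-! ### Natural-number model -/

abbrev N4 := ℕ × ℕ × ℕ × ℕ

def nmul (x y : N4) : N4 :=
  ((x.1 * y.1 + x.2.1 * y.2.2.1) % 11, (x.1 * y.2.1 + x.2.1 * y.2.2.2) % 11,
   (x.2.2.1 * y.1 + x.2.2.2 * y.2.2.1) % 11, (x.2.2.1 * y.2.1 + x.2.2.2 * y.2.2.2) % 11)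

def ninv (x : N4) : N4 := (x.2.2.2, (11 - x.2.1) % 11, (11 - x.2.2.1) % 11, x.1)

def enc (x : N4) : ℕ := ((x.1 * 11 + x.2.1) * 11 + x.2.2.1) * 11 + x.2.2.2

def maskH : ℕ := 0x800000000000000000000000000000000000000000000000000000800000000000000000000040000000000000000000000010000000000000000000000000000000020000000000000000000000100000000000000000000000000000000000000000000040000000000000000000000000008000000000000002000000000000000000000000020000000000000000000000000000000000000000000000000000001000000000000200000000000000000000000000040000000000000000000000400000000000000000000000000000000000000000000000100000000000000000000000000020000000000000000000000000000000000000000002000000000000000000000000040000000000000000000000000000004000000000000000000000000010000000000000000000001000000000000000000000800000000000000000000000000000000000200000000000000000000000000000000080000000000000000000000100000000000000000000000000000000000000000000100000000000000000000000010000000000000000008000000000000000000000000000000000000000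00000000000000800000000000000000000000000100000100000000000000000000000000000000000000000000000000200000000000000000000004000000000000000000000000800000000000000000000000000000000000400000000000000000000010000000000000000000000000000000000000000000000000010000000000000000000000000400000000000000000000000000000000200000000000000000000000080000000000000800000000000000000000000000100000000000000000000000000000000000000000000020000000000000000000000008000000000000000000000000000000000002000000000000000000000000000400000000000000100000000000000000000000000000000000000000000000000000002000000000000000000000000000400000000000000000000000000000000000200000000000000000000080000000000000000000010000000000000000000000000200000000000000000000000000000002000000000000000000000000080000000000000000000000000000000000000000008000000000000000000000000000000080000000000000000000000001000000000000000000000200000000000000000000000000000000000000000000000000040000040000000000000000000000000008000000000000000000000000000000000000000000000000000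00010000000000000004000000000000000000000000000800000000000000000000000000000000000000000040000000000000000080000000000000000000000000000000000000000000010000000000000000000000000002000000000000020000000000000000000000008000000000000000000000000000000004000000000000000000000000000000000000000000000000000000080000000000000000000100000000000000000000004000000000000000000000000000000000002000000000000000000000000000400000000000000000008000000000000000000000000000000000000000000000000010000010000000000000000000000000000000000000000000000000000000001000000000000000000000002000000000000000001000000000000000000000000000200000000000000000000000000000000000000000100000000000000000000000000400000000000000000000000000000080000000000000000000000000800000000000000000000000000000010000000000000000000001000000000000000000000000004000000000000000000000000000000400000000000000000000000000000000000000000000000000000004000000000000800000000000000000000000000100000000000000000000000000000000000000000000000040000000000000000000000400000000000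00000000000000008000000000000000000000000000000000004000000000000000000000000000000000100000000000000000000000800000000000000200000000000000000000000000040000000000000000000000000000000000000000000010000000000000000000000080000000000000000000000000000000100000000000000000000000000080000000000000000002000000000000000000000000000000000000000000000000000002000000000000000000000000000000000001000000000000000000000000080000000000000000040000000000000000000000000000000000020000000000000000000000000000000080000000000000200000000000000000000000000000000000000000000000008000000000010000000000000000000000000000000040000000000000000000000000000000000020000000000000000010000000000000000000000000000000000000000000000000000000000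

def memH (x : N4) : Bool := maskH.testBit (enc x)

def v4 (x : Q11) : N4 := (x.1.val, x.2.1.val, x.2.2.1.val, x.2.2.2.val)

def codes : List N4 :=
 [(0, 1, 10, 1), (0, 2, 5, 8), (0, 3, 7, 10), (0, 4, 8, 8), (0, 5, 2, 0), (0, 6, 9, 0),
  (0, 7, 3, 3), (0, 8, 4, 1), (0, 9, 6, 3), (0, 10, 1, 10), (1, 0, 0, 1), (1, 1, 2, 3),
  (1, 2, 10, 10), (1, 3, 7, 0), (1, 4, 5, 10), (1, 5, 6, 9), (1, 6, 4, 3), (1, 7, 9, 9),
  (1, 8, 8, 10), (1, 9, 3, 6), (1, 10, 1, 0), (2, 0, 2, 6), (2, 1, 4, 8), (2, 2, 3, 9),
  (2, 3, 1, 2), (2, 4, 7, 9), (2, 5, 6, 10), (2, 6, 0, 6), (2, 7, 9, 10), (2, 8, 10, 2),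
  (2, 9, 8, 9), (2, 10, 5, 9), (3, 0, 6, 4), (3, 1, 4, 9), (3, 2, 5, 0), (3, 3, 3, 7),
  (3, 4, 8, 0), (3, 5, 7, 1), (3, 6, 2, 8), (3, 7, 0, 4), (3, 8, 10, 5), (3, 9, 1, 7),
  (3, 10, 9, 1), (4, 0, 5, 3), (4, 1, 4, 4), (4, 2, 6, 6), (4, 3, 3, 8), (4, 4, 0, 3),
  (4, 5, 9, 6), (4, 6, 10, 7), (4, 7, 8, 6), (4, 8, 2, 7), (4, 9, 1, 8), (4, 10, 7, 4),
  (5, 0, 2, 9), (5, 1, 7, 6), (5, 2, 6, 7), (5, 3, 1, 3), (5, 4, 10, 6), (5, 5, 9, 7),
  (5, 6, 0, 9), (5, 7, 8, 7), (5, 8, 5, 6), (5, 9, 3, 10), (5, 10, 4, 6), (6, 0, 9, 2),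
  (6, 1, 7, 5), (6, 2, 8, 1), (6, 3, 6, 5), (6, 4, 3, 4), (6, 5, 0, 2), (6, 6, 2, 4),
  (6, 7, 1, 5), (6, 8, 10, 8), (6, 9, 5, 4), (6, 10, 4, 5), (7, 0, 6, 8), (7, 1, 4, 7),
  (7, 2, 10, 3), (7, 3, 9, 4), (7, 4, 3, 5), (7, 5, 1, 4), (7, 6, 2, 5), (7, 7, 0, 8),
  (7, 8, 8, 3), (7, 9, 5, 5), (7, 10, 7, 7), (8, 0, 5, 7), (8, 1, 2, 10), (8, 2, 10, 4),
  (8, 3, 1, 6), (8, 4, 0, 7), (8, 5, 9, 3), (8, 6, 4, 10), (8, 7, 3, 0), (8, 8, 8, 4),
  (8, 9, 6, 0), (8, 10, 7, 2), (9, 0, 9, 5), (9, 1, 6, 2), (9, 2, 3, 2), (9, 3, 1, 9),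
  (9, 4, 2, 1), (9, 5, 0, 5), (9, 6, 5, 1), (9, 7, 4, 2), (9, 8, 10, 9), (9, 9, 8, 2),
  (9, 10, 7, 3), (10, 0, 0, 10), (10, 1, 10, 0), (10, 2, 8, 5), (10, 3, 3, 1), (10, 4, 2, 2),
  (10, 5, 7, 8), (10, 6, 5, 2), (10, 7, 6, 1), (10, 8, 4, 0), (10, 9, 1, 1), (10, 10, 9, 8)]

def nX : N4 := (0, 1, 10, 1)
def nY : N4 := (0, 2, 5, 8)
def ns0 : N4 := (0, 1, 10, 0)
def hreps : List N4 := [(0, 1, 10, 1), (0, 2, 5, 8), (0, 3, 7, 10), (0, 4, 8, 8), (0, 5, 2, 0), (1, 0, 0, 1), (1, 1, 2, 3), (1, 2, 10, 10), (1, 9, 3, 6), (2, 7, 9, 10)]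
def rinvs : List N4 := [(10, 0, 1, 10), (5, 0, 8, 9), (7, 0, 10, 8), (8, 0, 8, 7), (2, 0, 0, 6), (0, 10, 1, 0), (2, 10, 3, 10), (10, 10, 10, 9), (3, 10, 6, 2), (9, 9, 10, 4)]

def ofN4 (x : N4) : Q11 := ((x.1 : ZMod 11), (x.2.1 : ZMod 11), (x.2.2.1 : ZMod 11), (x.2.2.2 : ZMod 11))

/-! ### Kernel computations -/

set_option maxRecDepth 100000 in
theorem codes_mul : ∀ x ∈ codes, ∀ y ∈ codes, memH (nmul x y) = true := by decide +kernel

set_option maxRecDepth 100000 in
theorem codes_inv : ∀ x ∈ codes, memH (ninv x) = true := by decide +kernel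

set_option maxRecDepth 100000 in
theorem codes_ofN4 : ∀ x ∈ codes, v4 (ofN4 x) = x ∧ qdet (ofN4 x) = 1 := by decide +kernel

set_option maxRecDepth 100000 in
theorem codes_mem : ∀ x ∈ codes, memH x = true := by decide +kernel

set_option maxRecDepth 100000 in
set_option synthInstance.maxSize 4096 in
theorem mem_codes : ∀ x : Q11, memH (v4 x) = true → v4 x ∈ codes := by decide +kernel

set_option maxRecDepth 100000 in
theorem rinvs_spec : ∀ r ∈ rinvs, ∃ h ∈ codes, r = ninv (nmul h ns0) := by decide +kernel

set_option maxRecDepth 100000 in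
set_option synthInstance.maxSize 4096 in
theorem k_cosets : ∀ x : Q11, qdet x = 1 →
    memH (v4 x) = true ∨ ∃ r ∈ rinvs, memH (nmul r (v4 x)) = true := by
  decide +kernel

set_option maxRecDepth 100000 in
set_option synthInstance.maxSize 4096 in
theorem k_cardH : Fintype.card {x : Q11 // qdet x = 1 ∧ memH (v4 x) = true} = 120 := by
  decide +kernel

set_option maxRecDepth 100000 in
set_option synthInstance.maxSize 4096 in
theorem k_card : Fintype.card {x : Q11 // qdet x = 1} = 1320 := by
  decide +kernel

set_option maxRecDepth 100000 in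
set_option synthInstance.maxSize 4096 in
theorem k_center : ∀ z : Q11, qdet z = 1 → qmul z (1, 1, 0, 1) = qmul (1, 1, 0, 1) z →
    qmul z (1, 0, 1, 1) = qmul (1, 0, 1, 1) z → z = qone ∨ z = qneg := by
  decide +kernel

set_option maxRecDepth 100000 in
set_option synthInstance.maxSize 4096 in
theorem k_neg_central : ∀ x : Q11, qmul x qneg = qmul qneg x := by
  decide +kernel

def qX : Q11 := ofN4 nX
def qY : Q11 := ofN4 nY
def qs0 : Q11 := ofN4 ns0

theorem qX3 : qpow qX 3 = qneg := by decide
theorem qY5 : qpow qY 5 = qneg := by decide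
theorem qXY2 : qpow (qmul qX qY) 2 = qneg := by decide
theorem qneg2 : qmul qneg qneg = qone := by decide
theorem qX_ne : qX ≠ qone ∧ qX ≠ qneg := by decide
theorem qdet_qX : qdet qX = 1 := by decide
theorem qdet_qY : qdet qY = 1 := by decide
theorem qdet_qs0 : qdet qs0 = 1 := by decide
theorem qdet_qneg : qdet qneg = 1 := by decide
theorem v4_qs0 : v4 qs0 = ns0 := by decide
theorem memH_qone : memH (v4 qone) = true := by decide +kernel
theorem memH_qneg : memH (v4 qneg) = true := by decide +kernel
theorem memH_qX : memH (v4 qX) = true := by decide +kernel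
theorem memH_qY : memH (v4 qY) = true := by decide +kernel

/-! ### Bridging lemmas -/

theorem val_mac (a b c d : ZMod 11) :
    (a * b + c * d).val = (a.val * b.val + c.val * d.val) % 11 := by
  rw [ZMod.val_add, ZMod.val_mul, ZMod.val_mul, ← Nat.add_mod]

theorem v4_qmul (x y : Q11) : v4 (qmul x y) = nmul (v4 x) (v4 y) := by
  simp only [v4, qmul, nmul, val_mac]

theorem v4_qinv (x : Q11) : v4 (qinv x) = ninv (v4 x) := by
  simp only [v4, qinv, ninv, ZMod.neg_val']

theorem v4_injective : Function.Injective v4 := by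
  intro x y h
  simp only [v4, Prod.mk.injEq] at h
  obtain ⟨h1, h2, h3, h4⟩ := h
  exact Prod.ext (ZMod.val_injective 11 h1) (Prod.ext (ZMod.val_injective 11 h2)
    (Prod.ext (ZMod.val_injective 11 h3) (ZMod.val_injective 11 h4)))

def toMat (x : Q11) : Matrix (Fin 2) (Fin 2) (ZMod 11) := !![x.1, x.2.1; x.2.2.1, x.2.2.2]

def ofMat (A : Matrix (Fin 2) (Fin 2) (ZMod 11)) : Q11 := (A 0 0, A 0 1, A 1 0, A 1 1)

theorem toMat_ofMat (A : Matrix (Fin 2) (Fin 2) (ZMod 11)) : toMat (ofMat A) = A :=
  (Matrix.eta_fin_two A).symm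

theorem ofMat_toMat (x : Q11) : ofMat (toMat x) = x := by
  obtain ⟨a, b, c, d⟩ := x
  simp [ofMat, toMat]

theorem ofMat_injective : Function.Injective ofMat := by
  intro A B h
  rw [← toMat_ofMat A, ← toMat_ofMat B, h]

theorem toMat_qmul (x y : Q11) : toMat (qmul x y) = toMat x * toMat y := by
  unfold toMat qmul
  rw [Matrix.mul_fin_two]

theorem toMat_qone : toMat qone = 1 := by
  unfold toMat qone
  exact Matrix.one_fin_two.symm

theorem ofMat_mul (A B : Matrix (Fin 2) (Fin 2) (ZMod 11)) :
    ofMat (A * B) = qmul (ofMat A) (ofMat B) := by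
  apply_fun toMat using (fun x y h => by rw [← ofMat_toMat x, ← ofMat_toMat y, h])
  rw [toMat_ofMat, toMat_qmul, toMat_ofMat, toMat_ofMat]

theorem ofMat_one : ofMat 1 = qone := by
  rw [← toMat_qone, ofMat_toMat]

theorem ofMat_pow (A : Matrix (Fin 2) (Fin 2) (ZMod 11)) (k : ℕ) :
    ofMat (A ^ k) = qpow (ofMat A) k := by
  induction k with
  | zero => rw [pow_zero, ofMat_one]; rfl
  | succ k ih => rw [pow_succ, ofMat_mul, ih]; rfl

abbrev SL11 := Matrix.SpecialLinearGroup (Fin 2) (ZMod 11)

def q (g : SL11) : Q11 := ofMat g.1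

theorem qdet_q (g : SL11) : qdet (q g) = 1 := by
  have := g.2
  rw [Matrix.det_fin_two] at this
  exact this

theorem q_mul (g h : SL11) : q (g * h) = qmul (q g) (q h) := by
  unfold q
  rw [Matrix.SpecialLinearGroup.coe_mul, ofMat_mul]

theorem q_one : q 1 = qone := by
  unfold q
  rw [Matrix.SpecialLinearGroup.coe_one, ofMat_one]

theorem q_inv (g : SL11) : q g⁻¹ = qinv (q g) := by
  unfold q
  rw [Matrix.SpecialLinearGroup.coe_inv, Matrix.adjugate_fin_two]
  simp [ofMat, qinv]

theorem q_pow (g : SL11) (k : ℕ) : q (g ^ k) = qpow (q g) k := by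
  unfold q
  rw [Matrix.SpecialLinearGroup.coe_pow, ofMat_pow]

theorem q_injective : Function.Injective q := by
  intro g h hgh
  apply Subtype.ext
  exact ofMat_injective hgh

def mk (x : Q11) (h : qdet x = 1) : SL11 :=
  ⟨toMat x, by rw [Matrix.det_fin_two]; simpa [toMat, qdet] using h⟩

theorem q_mk (x : Q11) (h : qdet x = 1) : q (mk x h) = x := ofMat_toMat x

theorem eq_one_iff (g : SL11) : g = 1 ↔ q g = qone := by
  rw [← q_one]
  exact q_injective.eq_iff.symm

def slEquiv : SL11 ≃ {x : Q11 // qdet x = 1} where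
  toFun g := ⟨q g, qdet_q g⟩
  invFun x := mk x.1 x.2
  left_inv _ := q_injective (q_mk _ _)
  right_inv _ := Subtype.ext (q_mk _ _)

theorem card_SL11 : Nat.card SL11 = 1320 := by
  rw [Nat.card_congr slEquiv, Nat.card_eq_fintype_card]
  exact k_card

/-! ### The binary icosahedral subgroup `Ht` of `SL(2,11)` -/

def Ht : Subgroup SL11 where
  carrier := {s | memH (v4 (q s)) = true}
  one_mem' := by
    show memH (v4 (q 1)) = true
    rw [q_one]; exact memH_qone
  mul_mem' := by
    intro a b ha hb
    show memH (v4 (q (a * b))) = true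
    rw [q_mul, v4_qmul]
    exact codes_mul _ (mem_codes _ ha) _ (mem_codes _ hb)
  inv_mem' := by
    intro a ha
    show memH (v4 (q a⁻¹)) = true
    rw [q_inv, v4_qinv]
    exact codes_inv _ (mem_codes _ ha)

theorem mem_Ht (s : SL11) : s ∈ Ht ↔ memH (v4 (q s)) = true := Iff.rfl

def HtEquiv : Ht ≃ {x : Q11 // qdet x = 1 ∧ memH (v4 x) = true} where
  toFun s := ⟨q s.1, qdet_q s.1, s.2⟩
  invFun x := ⟨mk x.1 x.2.1, by rw [mem_Ht, q_mk]; exact x.2.2⟩
  left_inv s := Subtype.ext (q_injective (q_mk (q s.1) (qdet_q s.1)))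
  right_inv x := Subtype.ext (q_mk x.1 x.2.1)

theorem card_Ht : Nat.card Ht = 120 := by
  rw [Nat.card_congr HtEquiv, Nat.card_eq_fintype_card]
  exact k_cardH

def negOne : SL11 := mk qneg qdet_qneg
def mX : SL11 := mk qX qdet_qX
def mY : SL11 := mk qY qdet_qY
def ms0 : SL11 := mk qs0 qdet_qs0

theorem mem_center_iff' (z : SL11) : z ∈ Subgroup.center SL11 ↔ z = 1 ∨ z = negOne := by
  constructor
  · intro hz
    rw [Subgroup.mem_center_iff] at hz
    have h1 := congrArg q (hz (mk (1, 1, 0, 1) (by decide)))
    have h2 := congrArg q (hz (mk (1, 0, 1, 1) (by decide)))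
    rw [q_mul, q_mul, q_mk] at h1 h2
    rcases k_center _ (qdet_q z) h1.symm h2.symm with h | h
    · left; exact (eq_one_iff z).2 h
    · right; apply q_injective; rw [h, negOne, q_mk]
  · rintro (rfl | rfl)
    · exact Subgroup.one_mem _
    · rw [Subgroup.mem_center_iff]
      intro g
      apply q_injective
      rw [q_mul, q_mul, negOne, q_mk]
      exact k_neg_central _

theorem center_le_Ht : Subgroup.center SL11 ≤ Ht := by
  intro z hz
  rcases (mem_center_iff' z).1 hz with rfl | rfl
  · exact Ht.one_mem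
  · rw [mem_Ht, negOne, q_mk]; exact memH_qneg

theorem negOne_ne_one : negOne ≠ 1 := by
  intro h
  have := (eq_one_iff _).1 h
  rw [negOne, q_mk] at this
  exact absurd this (by decide)

theorem card_center : Nat.card (Subgroup.center SL11) = 2 := by
  rw [Nat.card_eq_two_iff]
  refine ⟨⟨1, Subgroup.one_mem _⟩, ⟨negOne, (mem_center_iff' _).2 (Or.inr rfl)⟩, ?_, ?_⟩
  · intro h
    exact negOne_ne_one (congrArg Subtype.val h).symm
  · ext ⟨z, hz⟩
    simp only [Set.mem_insert_iff, Set.mem_singleton_iff, Set.mem_univ, iff_true, Subtype.mk.injEq]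
    exact (mem_center_iff' z).1 hz

theorem mX_mem : mX ∈ Ht := by rw [mem_Ht, mX, q_mk]; exact memH_qX
theorem mY_mem : mY ∈ Ht := by rw [mem_Ht, mY, q_mk]; exact memH_qY

theorem mX3 : mX ^ 3 = negOne := by
  apply q_injective; rw [q_pow, mX, negOne, q_mk, q_mk]; exact qX3

theorem mY5 : mY ^ 5 = negOne := by
  apply q_injective; rw [q_pow, mY, negOne, q_mk, q_mk]; exact qY5

theorem mXY2 : (mX * mY) ^ 2 = negOne := by
  apply q_injective; rw [q_pow, q_mul, mX, mY, negOne, q_mk, q_mk, q_mk]; exact qXY2

theorem mX_not_center : mX ∉ Subgroup.center SL11 := by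
  intro h
  rcases (mem_center_iff' _).1 h with h | h
  · have := (eq_one_iff _).1 h
    rw [mX, q_mk] at this
    exact qX_ne.1 this
  · have := congrArg q h
    rw [mX, negOne, q_mk, q_mk] at this
    exact qX_ne.2 this

/-- the double coset decomposition `SL(2,11) = Ht ∪ Ht s0 Ht` -/
theorem double_coset (s : SL11) : s ∈ Ht ∨ ∃ h1 ∈ Ht, ∃ h2 ∈ Ht, s = h1 * ms0 * h2 := by
  rcases k_cosets (q s) (qdet_q s) with h | ⟨r, hr, hmem⟩
  · exact Or.inl h
  · right
    obtain ⟨c, hc, rfl⟩ := rinvs_spec r hr
    obtain ⟨hv, hd⟩ := codes_ofN4 c hc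
    have h1mem : mk (ofN4 c) hd ∈ Ht := by
      rw [mem_Ht, q_mk, hv]; exact codes_mem c hc
    refine ⟨mk (ofN4 c) hd, h1mem, (mk (ofN4 c) hd * ms0)⁻¹ * s, ?_, by group⟩
    rw [mem_Ht, q_mul, q_inv, q_mul, q_mk, ms0, q_mk, v4_qmul, v4_qinv, v4_qmul, hv, v4_qs0]
    exact hmem

end Cfsg.Agent.Helper56.SL211
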