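import Mathlib
import Cfsg.Agent.Helper56.SL211
import Cfsg.Agent.Helper56.PSLCongr
import Cfsg.Agent.Helper56.SL25Pres

/-!
# An `A₅` of index `11` in `PSL(2,11)`
-/

set_option autoImplicit false

namespace Cfsg.Agent.Helper56.PSL211

open Cfsg.Agent.Helper56.SL211 Cfsg.Agent.Helper56.SL25Pres

abbrev G0 : Type := Matrix.ProjectiveSpecialLinearGroup (Fin 2) (ZMod 11)

noncomputable def π : SL11 →* G0 := QuotientGroup.mk' (Subgroup.center SL11)

theorem π_surjective : Function.Surjective π := QuotientGroup.mk'_surjective _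

theorem ker_π : π.ker = Subgroup.center SL11 := QuotientGroup.ker_mk' _

theorem π_eq_one_iff (s : SL11) : π s = 1 ↔ s ∈ Subgroup.center SL11 :=
  QuotientGroup.eq_one_iff s

theorem π_negOne : π negOne = 1 :=
  (π_eq_one_iff _).2 ((mem_center_iff' _).2 (Or.inr rfl))

theorem card_G0 : Nat.card G0 = 660 := by
  have h := Subgroup.card_eq_card_quotient_mul_card_subgroup (Subgroup.center SL11)
  rw [card_SL11, card_center] at h
  have : Nat.card G0 = Nat.card (SL11 ⧸ Subgroup.center SL11) := rfl
  omega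

/-- the image of the binary icosahedral group -/
noncomputable def H0 : Subgroup G0 := Ht.map π

theorem index_Ht : Ht.index = 11 := by
  have := Ht.card_mul_index
  rw [card_Ht, card_SL11] at this
  omega

theorem index_H0 : H0.index = 11 := by
  unfold H0
  have hk : π.ker ≤ Ht := by rw [ker_π]; exact center_le_Ht
  exact (Subgroup.index_map_eq Ht π_surjective hk).trans index_Ht

theorem card_H0 : Nat.card H0 = 60 := by
  have := H0.card_mul_index
  rw [index_H0, card_G0] at this
  omega

noncomputable def θ : P5 →* G0 :=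
  hom5 (π mX) (π mY) (by rw [← map_pow, mX3, π_negOne]) (by rw [← map_pow, mY5, π_negOne])
    (by rw [← map_mul, ← map_pow, mXY2, π_negOne])

theorem θ_a : θ (PresentedGroup.of 0) = π mX := hom5_a _ _ _ _ _
theorem θ_b : θ (PresentedGroup.of 1) = π mY := hom5_b _ _ _ _ _

theorem simple_P5 : IsSimpleGroup P5 := by
  obtain ⟨e⟩ := Cfsg.Agent.S3377.result
  have : IsSimpleGroup (alternatingGroup (Fin 5)) := alternatingGroup.isSimpleGroup (by simp)
  exact e.isSimpleGroup

theorem θ_injective : Function.Injective θ := by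
  have := simple_P5
  rw [← MonoidHom.ker_eq_bot_iff]
  rcases θ.normal_ker.eq_bot_or_eq_top with h | h
  · exact h
  · exfalso
    have h1 : (PresentedGroup.of 0 : P5) ∈ θ.ker := by rw [h]; exact Subgroup.mem_top _
    rw [MonoidHom.mem_ker, θ_a, π_eq_one_iff] at h1
    exact mX_not_center h1

theorem θ_range : θ.range = H0 := by
  have hle : θ.range ≤ H0 := by
    rintro _ ⟨p, rfl⟩
    have : p ∈ H0.comap θ := by
      apply PresentedGroup.generated_by
      intro j
      rw [Subgroup.mem_comap]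
      fin_cases j
      · show θ (PresentedGroup.of 0) ∈ H0
        rw [θ_a]; exact ⟨mX, mX_mem, rfl⟩
      · show θ (PresentedGroup.of 1) ∈ H0
        rw [θ_b]; exact ⟨mY, mY_mem, rfl⟩
    exact this
  have : Finite G0 := Nat.finite_of_card_ne_zero (by rw [card_G0]; norm_num)
  apply Subgroup.eq_of_le_of_card_ge hle
  rw [card_H0, Nat.card_congr (MonoidHom.ofInjective θ_injective).toEquiv.symm, card_P5]

/-- `H0 ≅ A₅` -/
theorem nonempty_iso_H0 : Nonempty (H0 ≃* alternatingGroup (Fin 5)) := by
  obtain ⟨e⟩ := Cfsg.Agent.S3377.result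
  exact ⟨((MulEquiv.subgroupCongr θ_range.symm).trans
    (MonoidHom.ofInjective θ_injective).symm).trans e⟩

theorem double_coset0 (g : G0) : g ∈ H0 ∨ ∃ h1 ∈ H0, ∃ h2 ∈ H0, g = h1 * π ms0 * h2 := by
  obtain ⟨s, rfl⟩ := π_surjective g
  rcases double_coset s with h | ⟨h1, hh1, h2, hh2, rfl⟩
  · exact Or.inl ⟨s, h, rfl⟩
  · right
    exact ⟨π h1, ⟨h1, hh1, rfl⟩, π h2, ⟨h2, hh2, rfl⟩, by rw [map_mul, map_mul]⟩

end Cfsg.Agent.Helper56.PSL211
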