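import Mathlib
import Cfsg.Agent.Helper56.SL211

/-!
# More brute-force facts about `SL(2,11)`: good pairs `(x, y)` with `x³ = y⁵ = (xy)² = ±1`
-/

set_option autoImplicit false

namespace Cfsg.Agent.Helper56.SL211

def npow (x : N4) : ℕ → N4
  | 0 => (1, 0, 0, 1)
  | k + 1 => nmul (npow x k) x

def nconj (g x : N4) : N4 := nmul (nmul g x) (ninv g)

def ndelta (x : N4) : N4 := (x.1, (2 * x.2.1) % 11, (6 * x.2.2.1) % 11, x.2.2.2)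

def isPM (x : N4) : Bool := x == (1, 0, 0, 1) || x == (10, 0, 0, 10)

def nnegX : N4 := (0, 10, 1, 10)

def coverA : List N4 :=
 [(0, 1, 10, 0), (0, 1, 10, 1), (0, 1, 10, 2), (0, 1, 10, 3), (0, 1, 10, 4), (0, 1, 10, 5),
  (0, 1, 10, 6), (0, 1, 10, 7), (0, 1, 10, 8), (0, 1, 10, 9), (0, 1, 10, 10), (0, 2, 5, 0),
  (0, 2, 5, 1), (0, 2, 5, 2), (0, 2, 5, 3), (0, 2, 5, 4), (0, 2, 5, 5), (0, 2, 5, 6),
  (0, 2, 5, 7), (0, 2, 5, 8), (0, 2, 5, 9), (0, 2, 5, 10), (0, 3, 7, 0), (0, 3, 7, 1),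
  (0, 3, 7, 2), (0, 3, 7, 3), (0, 3, 7, 4), (0, 3, 7, 5), (0, 3, 7, 6), (0, 3, 7, 7),
  (0, 3, 7, 8), (0, 3, 7, 9), (0, 3, 7, 10), (0, 4, 8, 0), (0, 4, 8, 1), (0, 4, 8, 2),
  (0, 4, 8, 3), (0, 4, 8, 4), (0, 4, 8, 5), (0, 4, 8, 6), (0, 4, 8, 7), (0, 4, 8, 8),
  (0, 4, 8, 9), (0, 4, 8, 10), (0, 5, 2, 0), (0, 5, 2, 1), (0, 5, 2, 2), (0, 5, 2, 3),
  (0, 5, 2, 4), (0, 5, 2, 5), (0, 5, 2, 6), (0, 5, 2, 7), (0, 5, 2, 8), (0, 5, 2, 9),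
  (0, 5, 2, 10), (1, 0, 3, 1), (1, 0, 4, 1), (1, 0, 5, 1), (1, 0, 7, 1), (1, 0, 8, 1),
  (1, 0, 9, 1), (1, 1, 3, 4), (1, 1, 4, 5), (1, 1, 5, 6), (1, 1, 7, 8), (1, 1, 8, 9),
  (1, 1, 9, 10), (1, 2, 3, 7), (1, 2, 5, 0), (1, 2, 8, 6), (1, 2, 9, 8), (1, 3, 3, 10),
  (1, 3, 5, 5), (1, 3, 8, 3), (1, 3, 9, 6), (1, 4, 5, 10), (1, 4, 8, 0), (1, 4, 9, 4),
  (1, 5, 5, 4), (1, 5, 8, 8), (1, 5, 9, 2), (1, 6, 5, 9), (1, 6, 8, 5), (1, 6, 9, 0),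
  (1, 7, 5, 3), (1, 7, 8, 2), (1, 8, 5, 8), (1, 8, 8, 10), (2, 0, 5, 6), (2, 0, 6, 6),
  (2, 0, 7, 6), (2, 0, 8, 6), (2, 1, 5, 3), (2, 1, 6, 9), (2, 1, 7, 4), (2, 2, 5, 0),
  (2, 2, 7, 2), (2, 3, 5, 8), (2, 3, 7, 0), (2, 4, 5, 5), (2, 4, 7, 9), (2, 5, 5, 2),
  (2, 5, 7, 7), (2, 6, 5, 10), (2, 6, 7, 5), (2, 7, 5, 7), (2, 7, 7, 3), (2, 8, 5, 4),
  (2, 8, 7, 1), (2, 9, 5, 1)]

def gB : List N4 := [(0, 1, 10, 1), (0, 1, 10, 9), (0, 1, 10, 7), (0, 1, 10, 4)]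

set_option maxRecDepth 100000 in
theorem coverA_ok : ∀ g ∈ coverA, v4 (ofN4 g) = g ∧ qdet (ofN4 g) = 1 := by decide +kernel

set_option maxRecDepth 100000 in
theorem gB_ok : ∀ g ∈ gB, v4 (ofN4 g) = g ∧ qdet (ofN4 g) = 1 := by decide +kernel

set_option maxRecDepth 100000 in
set_option synthInstance.maxSize 4096 in
theorem stepA : ∀ x : Q11, qdet x = 1 → isPM (npow (v4 x) 3) = true → isPM (v4 x) = false →
    ∃ g ∈ coverA, nconj g (v4 x) = nX ∨ nconj g (v4 x) = nnegX := by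
  decide +kernel

set_option maxRecDepth 100000 in
set_option synthInstance.maxSize 4096 in
theorem stepB : ∀ y : Q11, qdet y = 1 → isPM (npow (v4 y) 5) = true →
    isPM (npow (nmul nX (v4 y)) 2) = true →
    ∃ g ∈ gB, (memH (nconj g nX) && memH (nconj g (v4 y))) = true ∨
      (memH (ndelta (nconj g nX)) && memH (ndelta (nconj g (v4 y)))) = true := by
  decide +kernel

set_option maxRecDepth 100000 in
set_option synthInstance.maxSize 4096 in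
theorem stepC : ∀ g : Q11, qdet g = 1 →
    (memH (ndelta (nconj (v4 g) nX)) && memH (ndelta (nconj (v4 g) nY))) = false := by
  decide +kernel

end Cfsg.Agent.Helper56.SL211
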