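import Mathlib
import Cfsg.Agent.Helper56.SL211B
import Cfsg.Agent.Helper56.PSL211

/-!
# The two classes of `A₅` in `PSL(2,11)`
-/

set_option autoImplicit false

namespace Cfsg.Agent.Helper56.SL211

/-! ### Bridging for powers, conjugation and the diagonal automorphism -/

theorem v4_qone : v4 qone = (1, 0, 0, 1) := by decide

theorem v4_qpow (x : Q11) (k : ℕ) : v4 (qpow x k) = npow (v4 x) k := by
  induction k with
  | zero => exact v4_qone
  | succ k ih => rw [qpow, npow, v4_qmul, ih]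

theorem v4q_conj (g s : SL11) : v4 (q (g * s * g⁻¹)) = nconj (v4 (q g)) (v4 (q s)) := by
  rw [q_mul, q_mul, q_inv, v4_qmul, v4_qmul, v4_qinv]
  rfl

theorem v4q_pow (s : SL11) (k : ℕ) : v4 (q (s ^ k)) = npow (v4 (q s)) k := by
  rw [q_pow, v4_qpow]

theorem isPM_iff (s : SL11) : isPM (v4 (q s)) = true ↔ s ∈ Subgroup.center SL11 := by
  rw [mem_center_iff']
  unfold isPM
  rw [Bool.or_eq_true, beq_iff_eq, beq_iff_eq]
  constructor
  · rintro (h | h)
    · left
      apply q_injective; apply v4_injective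
      rw [h, q_one, v4_qone]
    · right
      apply q_injective; apply v4_injective
      rw [h, negOne, q_mk]; decide
  · rintro (rfl | rfl)
    · left; rw [q_one, v4_qone]
    · right; rw [negOne, q_mk]; decide

/-- an element of `SL(2,11)` from a valid natural quadruple -/
def mkN (g : N4) (h : v4 (ofN4 g) = g ∧ qdet (ofN4 g) = 1) : SL11 := mk (ofN4 g) h.2

theorem v4q_mkN (g : N4) (h : v4 (ofN4 g) = g ∧ qdet (ofN4 g) = 1) : v4 (q (mkN g h)) = g := by
  rw [mkN, q_mk, h.1]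

def qδ (x : Q11) : Q11 := (x.1, 2 * x.2.1, 6 * x.2.2.1, x.2.2.2)

def qδ' (x : Q11) : Q11 := (x.1, 6 * x.2.1, 2 * x.2.2.1, x.2.2.2)

theorem h12 : (12 : ZMod 11) = 1 := by decide

theorem qδ_det (x : Q11) : qdet (qδ x) = qdet x := by
  unfold qdet qδ
  linear_combination (-(x.2.1 * x.2.2.1)) * h12

theorem qδ'_det (x : Q11) : qdet (qδ' x) = qdet x := by
  unfold qdet qδ'
  linear_combination (-(x.2.1 * x.2.2.1)) * h12

theorem qδ_mul (x y : Q11) : qδ (qmul x y) = qmul (qδ x) (qδ y) := by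
  unfold qδ qmul
  refine Prod.ext ?_ (Prod.ext ?_ (Prod.ext ?_ ?_)) <;> simp only
  · linear_combination (-(x.2.1 * y.2.2.1)) * h12
  · ring
  · ring
  · linear_combination (-(x.2.2.1 * y.2.1)) * h12

theorem qδ'_mul (x y : Q11) : qδ' (qmul x y) = qmul (qδ' x) (qδ' y) := by
  unfold qδ' qmul
  refine Prod.ext ?_ (Prod.ext ?_ (Prod.ext ?_ ?_)) <;> simp only
  · linear_combination (-(x.2.1 * y.2.2.1)) * h12
  · ring
  · ring
  · linear_combination (-(x.2.2.1 * y.2.1)) * h12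

theorem qδ'_qδ (x : Q11) : qδ' (qδ x) = x := by
  unfold qδ qδ'
  refine Prod.ext rfl (Prod.ext ?_ (Prod.ext ?_ rfl)) <;> simp only
  · linear_combination x.2.1 * h12
  · linear_combination x.2.2.1 * h12

theorem qδ_qδ' (x : Q11) : qδ (qδ' x) = x := by
  unfold qδ qδ'
  refine Prod.ext rfl (Prod.ext ?_ (Prod.ext ?_ rfl)) <;> simp only
  · linear_combination x.2.1 * h12
  · linear_combination x.2.2.1 * h12

theorem v4_qδ (x : Q11) : v4 (qδ x) = ndelta (v4 x) := by
  unfold v4 qδ ndelta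
  simp only [ZMod.val_mul]
  rfl

/-- conjugation by `diag(2,1)` -/
def δ : SL11 ≃* SL11 where
  toFun s := mk (qδ (q s)) (by rw [qδ_det]; exact qdet_q s)
  invFun s := mk (qδ' (q s)) (by rw [qδ'_det]; exact qdet_q s)
  left_inv s := by
    apply q_injective
    rw [q_mk, q_mk, qδ'_qδ]
  right_inv s := by
    apply q_injective
    rw [q_mk, q_mk, qδ_qδ']
  map_mul' s t := by
    apply q_injective
    rw [q_mk, q_mul, q_mul, q_mk, q_mk, qδ_mul]

theorem q_δ (s : SL11) : q (δ s) = qδ (q s) :=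
  q_mk (qδ (q s)) (by rw [qδ_det]; exact qdet_q s)

theorem v4q_δ (s : SL11) : v4 (q (δ s)) = ndelta (v4 (q s)) := by
  rw [q_δ, v4_qδ]

theorem v4q_mX : v4 (q mX) = nX := by rw [mX, q_mk]; decide
theorem v4q_mY : v4 (q mY) = nY := by rw [mY, q_mk]; decide
theorem v4q_neg_mX : v4 (q (negOne * mX)) = nnegX := by
  rw [q_mul, negOne, mX, q_mk, q_mk]; decide


/-! ### Good pairs in `SL(2,11)` -/

/-- Every pair `(x, y)` of `SL(2,11)` with `x³, y⁵, (xy)²` central and `x` non-central is conjugate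
into `Ht`, or into `δ⁻¹(Ht)`. -/
theorem good_pair_SL (x y : SL11) (hx3 : x ^ 3 ∈ Subgroup.center SL11)
    (hy5 : y ^ 5 ∈ Subgroup.center SL11) (hxy : (x * y) ^ 2 ∈ Subgroup.center SL11)
    (hx : x ∉ Subgroup.center SL11) :
    ∃ g : SL11, (g * x * g⁻¹ ∈ Ht ∧ g * y * g⁻¹ ∈ Ht) ∨
      (δ (g * x * g⁻¹) ∈ Ht ∧ δ (g * y * g⁻¹) ∈ Ht) := by
  -- Step A
  have hA1 : isPM (npow (v4 (q x)) 3) = true := by rw [← v4q_pow, isPM_iff]; exact hx3
  have hA2 : isPM (v4 (q x)) = false := by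
    rw [Bool.eq_false_iff, Ne, isPM_iff]; exact hx
  obtain ⟨g1, hg1, hc1⟩ := stepA (q x) (qdet_q x) hA1 hA2
  set G1 := mkN g1 (coverA_ok g1 hg1) with hG1
  have hG1v : v4 (q G1) = g1 := v4q_mkN _ _
  have hx1 : G1 * x * G1⁻¹ = mX ∨ G1 * x * G1⁻¹ = negOne * mX := by
    rcases hc1 with h | h
    · left
      apply q_injective; apply v4_injective
      rw [v4q_conj, hG1v, h, v4q_mX]
    · right
      apply q_injective; apply v4_injective
      rw [v4q_conj, hG1v, h, v4q_neg_mX]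
  set y1 := G1 * y * G1⁻¹ with hy1
  have hnegc : negOne ∈ Subgroup.center SL11 := (mem_center_iff' _).2 (Or.inr rfl)
  have hy1_5 : y1 ^ 5 ∈ Subgroup.center SL11 := by
    have : y1 ^ 5 = G1 * y ^ 5 * G1⁻¹ := by rw [hy1]; exact conj_pow
    rw [this]
    exact Subgroup.Normal.conj_mem inferInstance _ hy5 G1
  have hxy1 : (mX * y1) ^ 2 ∈ Subgroup.center SL11 := by
    have h1 : (G1 * x * G1⁻¹ * y1) ^ 2 ∈ Subgroup.center SL11 := by
      have : G1 * x * G1⁻¹ * y1 = G1 * (x * y) * G1⁻¹ := by rw [hy1]; group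
      rw [this, conj_pow]
      exact Subgroup.Normal.conj_mem inferInstance _ hxy G1
    rcases hx1 with h | h
    · rwa [h] at h1
    · rw [h] at h1
      have hcomm : Commute negOne (mX * y1) := by
        have := Subgroup.mem_center_iff.mp hnegc (mX * y1)
        exact this.symm
      have : (negOne * mX * y1) ^ 2 = negOne ^ 2 * (mX * y1) ^ 2 := by
        rw [mul_assoc, hcomm.mul_pow]
      rw [this] at h1
      have h2 : negOne ^ 2 ∈ Subgroup.center SL11 := Subgroup.pow_mem _ hnegc 2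
      exact (Subgroup.mul_mem_cancel_left _ h2).mp h1
  -- Step B
  have hB1 : isPM (npow (v4 (q y1)) 5) = true := by rw [← v4q_pow, isPM_iff]; exact hy1_5
  have hB2 : isPM (npow (nmul nX (v4 (q y1))) 2) = true := by
    rw [← v4q_mX, ← v4_qmul, ← q_mul, ← v4q_pow, isPM_iff]; exact hxy1
  obtain ⟨g2, hg2, hc2⟩ := stepB (q y1) (qdet_q y1) hB1 hB2
  set G2 := mkN g2 (gB_ok g2 hg2) with hG2
  have hG2v : v4 (q G2) = g2 := v4q_mkN _ _
  -- conjugating `negOne * mX` or `mX` gives the same membership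
  have hmemX : ∀ s : SL11, (G2 * mX * G2⁻¹ ∈ Ht → G2 * (negOne * mX) * G2⁻¹ ∈ Ht) := by
    intro _ h
    have : G2 * (negOne * mX) * G2⁻¹ = negOne * (G2 * mX * G2⁻¹) := by
      have hc := Subgroup.mem_center_iff.mp hnegc G2
      calc G2 * (negOne * mX) * G2⁻¹ = (G2 * negOne) * mX * G2⁻¹ := by group
        _ = (negOne * G2) * mX * G2⁻¹ := by rw [hc]
        _ = negOne * (G2 * mX * G2⁻¹) := by group
    rw [this]
    exact Ht.mul_mem (center_le_Ht hnegc) h
  refine ⟨G2 * G1, ?_⟩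
  have e1 : G2 * G1 * x * (G2 * G1)⁻¹ = G2 * (G1 * x * G1⁻¹) * G2⁻¹ := by group
  have e2 : G2 * G1 * y * (G2 * G1)⁻¹ = G2 * y1 * G2⁻¹ := by rw [hy1]; group
  rw [e1, e2]
  rcases hc2 with h | h
  · left
    rw [Bool.and_eq_true] at h
    have hX : G2 * mX * G2⁻¹ ∈ Ht := by rw [mem_Ht, v4q_conj, hG2v, v4q_mX]; exact h.1
    have hY : G2 * y1 * G2⁻¹ ∈ Ht := by rw [mem_Ht, v4q_conj, hG2v]; exact h.2
    refine ⟨?_, hY⟩
    rcases hx1 with h1 | h1
    · rw [h1]; exact hX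
    · rw [h1]; exact hmemX G2 hX
  · right
    rw [Bool.and_eq_true] at h
    have hX : δ (G2 * mX * G2⁻¹) ∈ Ht := by
      rw [mem_Ht, v4q_δ, v4q_conj, hG2v, v4q_mX]; exact h.1
    have hY : δ (G2 * y1 * G2⁻¹) ∈ Ht := by
      rw [mem_Ht, v4q_δ, v4q_conj, hG2v]; exact h.2
    refine ⟨?_, hY⟩
    rcases hx1 with h1 | h1
    · rw [h1]; exact hX
    · rw [h1]
      have : G2 * (negOne * mX) * G2⁻¹ = negOne * (G2 * mX * G2⁻¹) := by
        have hc := Subgroup.mem_center_iff.mp hnegc G2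
        calc G2 * (negOne * mX) * G2⁻¹ = (G2 * negOne) * mX * G2⁻¹ := by group
          _ = (negOne * G2) * mX * G2⁻¹ := by rw [hc]
          _ = negOne * (G2 * mX * G2⁻¹) := by group
      rw [this, map_mul]
      refine Ht.mul_mem ?_ hX
      have : δ negOne = negOne := by
        apply q_injective
        rw [q_δ, negOne, q_mk]; decide
      rw [this]
      exact center_le_Ht hnegc

/-- the pair `(mX, mY)` is not conjugate into `δ⁻¹(Ht)` -/
theorem not_conj_SL (g : SL11) : ¬ (δ (g * mX * g⁻¹) ∈ Ht ∧ δ (g * mY * g⁻¹) ∈ Ht) := by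
  rintro ⟨h1, h2⟩
  rw [mem_Ht, v4q_δ, v4q_conj, v4q_mX] at h1
  rw [mem_Ht, v4q_δ, v4q_conj, v4q_mY] at h2
  have := stepC (q g) (qdet_q g)
  rw [h1, h2] at this
  exact absurd this (by decide)

end Cfsg.Agent.Helper56.SL211
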