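import Mathlib
import Cfsg.Agent.Helper56.PSL211
import Cfsg.Agent.Helper56.PSL211B
import Cfsg.Agent.Helper56.ConjClass

/-!
# The two classes of `A₅` in `PSL(2,11)`
-/

set_option autoImplicit false

open scoped Pointwise

namespace Cfsg.Agent.Helper56.PSL211

open Cfsg.Agent.Helper56.SL211 Cfsg.Agent.Helper56.SL25Pres Cfsg.Agent.Helper56.ConjClass

/-- the outer automorphism of `PSL(2,11)` induced by `diag(2,1)` -/
noncomputable def α : G0 ≃* G0 :=
  QuotientGroup.congr _ _ δ (PSLCongr.map_center_of_mulEquiv δ)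

theorem α_π (s : SL11) : α (π s) = π (δ s) := rfl

/-- the second `A₅` -/
noncomputable def K0 : Subgroup G0 := H0.comap α.toMonoidHom

theorem mem_K0 (g : G0) : g ∈ K0 ↔ α g ∈ H0 := Iff.rfl

theorem π_mem_H0_iff (t : SL11) : π t ∈ H0 ↔ t ∈ Ht := by
  constructor
  · rintro ⟨s, hs, hst⟩
    have h1 : π (s⁻¹ * t) = 1 := by rw [map_mul, map_inv, hst, inv_mul_cancel]
    rw [π_eq_one_iff] at h1
    have h2 : t = s * (s⁻¹ * t) := by group
    rw [h2]
    exact Ht.mul_mem hs (center_le_Ht h1)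
  · intro h
    exact ⟨t, h, rfl⟩

theorem finite_G0 : Finite G0 := Nat.finite_of_card_ne_zero (by rw [card_G0]; norm_num)

theorem good_pair_G0 (a b : G0) (ha3 : a ^ 3 = 1) (hb5 : b ^ 5 = 1) (hab : (a * b) ^ 2 = 1)
    (ha : a ≠ 1) :
    ∃ g : G0, (g * a * g⁻¹ ∈ H0 ∧ g * b * g⁻¹ ∈ H0) ∨ (g * a * g⁻¹ ∈ K0 ∧ g * b * g⁻¹ ∈ K0) := by
  obtain ⟨x, rfl⟩ := π_surjective a
  obtain ⟨y, rfl⟩ := π_surjective b
  have hx3 : x ^ 3 ∈ Subgroup.center SL11 := by rw [← π_eq_one_iff, map_pow]; exact ha3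
  have hy5 : y ^ 5 ∈ Subgroup.center SL11 := by rw [← π_eq_one_iff, map_pow]; exact hb5
  have hxy : (x * y) ^ 2 ∈ Subgroup.center SL11 := by
    rw [← π_eq_one_iff, map_pow, map_mul]; exact hab
  have hx : x ∉ Subgroup.center SL11 := by rw [← π_eq_one_iff]; exact ha
  obtain ⟨g, hg | hg⟩ := good_pair_SL x y hx3 hy5 hxy hx
  · refine ⟨π g, Or.inl ⟨?_, ?_⟩⟩
    · rw [← map_inv, ← map_mul, ← map_mul, π_mem_H0_iff]; exact hg.1
    · rw [← map_inv, ← map_mul, ← map_mul, π_mem_H0_iff]; exact hg.2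
  · refine ⟨π g, Or.inr ⟨?_, ?_⟩⟩
    · rw [← map_inv, ← map_mul, ← map_mul, mem_K0, α_π, π_mem_H0_iff]; exact hg.1
    · rw [← map_inv, ← map_mul, ← map_mul, mem_K0, α_π, π_mem_H0_iff]; exact hg.2

theorem index_K0 : K0.index = 11 := by
  unfold K0
  have hs : Function.Surjective α.toMonoidHom := α.surjective
  exact (Subgroup.index_comap_of_surjective H0 hs).trans index_H0

theorem card_K0 : Nat.card K0 = 60 := by
  have := K0.card_mul_index
  rw [index_K0, card_G0] at this
  omega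

theorem K0_eq_map : K0 = H0.map α.symm.toMonoidHom := by
  unfold K0
  exact Subgroup.comap_equiv_eq_map_symm α H0

theorem nonempty_iso_K0 : Nonempty (K0 ≃* alternatingGroup (Fin 5)) := by
  obtain ⟨i⟩ := nonempty_iso_H0
  rw [K0_eq_map]
  exact ⟨(α.symm.subgroupMap H0).symm.trans i⟩

theorem not_normal_H0 : ¬ H0.Normal := by
  intro hN
  have hfin := finite_G0
  -- the quotient has at most two elements
  have key : ∀ x : G0 ⧸ H0, x = 1 ∨ x = QuotientGroup.mk' H0 (π ms0) := by
    intro x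
    obtain ⟨g, rfl⟩ := QuotientGroup.mk'_surjective H0 x
    rcases double_coset0 g with h | ⟨h1, hh1, h2, hh2, rfl⟩
    · left
      exact (QuotientGroup.eq_one_iff g).2 h
    · right
      rw [map_mul, map_mul]
      have e1 : QuotientGroup.mk' H0 h1 = 1 := (QuotientGroup.eq_one_iff h1).2 hh1
      have e2 : QuotientGroup.mk' H0 h2 = 1 := (QuotientGroup.eq_one_iff h2).2 hh2
      rw [e1, e2, one_mul, mul_one]
  have hle : Nat.card (G0 ⧸ H0) ≤ 2 := by
    classical
    have hinj : Function.Injective (fun x : G0 ⧸ H0 => decide (x = 1)) := by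
      intro x y hxy
      simp only [decide_eq_decide] at hxy
      rcases key x with hx | hx
      · rw [hx]; exact (hxy.1 hx).symm
      · rcases key y with hy | hy
        · rw [hy]; exact hxy.2 hy
        · rw [hx, hy]
    have := Nat.card_le_card_of_injective _ hinj
    simpa using this
  have : Nat.card (G0 ⧸ H0) = 11 := index_H0
  omega

theorem not_normal_K0 : ¬ K0.Normal := by
  intro hN
  apply not_normal_H0
  have h1 : (K0.comap α.symm.toMonoidHom).Normal := hN.comap _
  have h2 : K0.comap α.symm.toMonoidHom = H0 := by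
    ext z
    rw [Subgroup.mem_comap, mem_K0]
    show α (α.symm z) ∈ H0 ↔ z ∈ H0
    rw [α.apply_symm_apply]
  rwa [h2] at h1

theorem not_conj (g : G0) : MulAut.conj g • H0 ≠ K0 := by
  intro heq
  obtain ⟨s, rfl⟩ := π_surjective g
  have hX : π s * π mX * (π s)⁻¹ ∈ MulAut.conj (π s) • H0 := by
    apply (mem_conj_smul _ _ _).2
    have : (π s)⁻¹ * (π s * π mX * (π s)⁻¹) * π s = π mX := by group
    rw [this]
    exact ⟨mX, mX_mem, rfl⟩
  have hY : π s * π mY * (π s)⁻¹ ∈ MulAut.conj (π s) • H0 := by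
    apply (mem_conj_smul _ _ _).2
    have : (π s)⁻¹ * (π s * π mY * (π s)⁻¹) * π s = π mY := by group
    rw [this]
    exact ⟨mY, mY_mem, rfl⟩
  rw [heq, ← map_inv, ← map_mul, ← map_mul, mem_K0, α_π, π_mem_H0_iff] at hX hY
  exact not_conj_SL s ⟨hX, hY⟩

theorem card_A5' : Nat.card (alternatingGroup (Fin 5)) = 60 := Cfsg.Agent.S3377.card_A5

/-- every `A₅` in `PSL(2,11)` is conjugate to `H0` or to `K0` -/
theorem conj_class (L : Subgroup G0) (hL : Nonempty (L ≃* alternatingGroup (Fin 5))) :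
    ∃ g : G0, MulAut.conj g • L = H0 ∨ MulAut.conj g • L = K0 := by
  obtain ⟨e⟩ := hL
  obtain ⟨e5⟩ := Cfsg.Agent.S3377.result
  have hfin := finite_G0
  -- `ψ : P5 →* G0` with image `L`
  let j : P5 ≃* L := e5.trans e.symm
  let ψ : P5 →* G0 := L.subtype.comp j.toMonoidHom
  have hψinj : Function.Injective ψ := fun p q hpq =>
    j.injective (Subtype.ext hpq)
  have hψmem : ∀ p, ψ p ∈ L := fun p => (j p).2
  have hψsurj : ∀ z ∈ L, ∃ p, ψ p = z := fun z hz =>
    ⟨j.symm ⟨z, hz⟩, by show ((j (j.symm ⟨z, hz⟩) : L) : G0) = z; rw [j.apply_symm_apply]⟩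
  set a : G0 := ψ (PresentedGroup.of 0) with ha
  set b : G0 := ψ (PresentedGroup.of 1) with hb
  have ha3 : a ^ 3 = 1 := by
    rw [ha, ← map_pow]
    have : (PresentedGroup.of 0 : P5) ^ 3 = 1 := by
      have := Cfsg.Agent.S3377.a3
      rw [pow_succ, pow_two]; exact this
    rw [this, map_one]
  have hb5 : b ^ 5 = 1 := by
    rw [hb, ← map_pow]
    have : (PresentedGroup.of 1 : P5) ^ 5 = 1 := by
      have := Cfsg.Agent.S3377.b5
      rw [pow_succ, pow_succ, pow_succ, pow_two]; exact this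
    rw [this, map_one]
  have hab : (a * b) ^ 2 = 1 := by
    rw [ha, hb, ← map_mul, ← map_pow]
    have : ((PresentedGroup.of 0 : P5) * PresentedGroup.of 1) ^ 2 = 1 := by
      have := Cfsg.Agent.S3377.abab
      rw [pow_two, ← mul_assoc]; exact this
    rw [this, map_one]
  have ha1 : a ≠ 1 := by
    intro h
    have h0 : (PresentedGroup.of 0 : P5) = 1 := hψinj (by rw [map_one]; exact h)
    have h1 := θ_a
    rw [h0, map_one] at h1
    exact mX_not_center ((π_eq_one_iff _).1 h1.symm)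
  obtain ⟨g, hg⟩ := good_pair_G0 a b ha3 hb5 hab ha1
  refine ⟨g, ?_⟩
  -- general argument for a target `M` of order 60
  have main : ∀ M : Subgroup G0, Nat.card M = 60 → g * a * g⁻¹ ∈ M → g * b * g⁻¹ ∈ M →
      MulAut.conj g • L = M := by
    intro M hM hMa hMb
    have hle : MulAut.conj g • L ≤ M := by
      intro z hz
      have hz' : g⁻¹ * z * g ∈ L := (mem_conj_smul g z L).1 hz
      obtain ⟨p, hp⟩ := hψsurj _ hz'
      have hmem : p ∈ M.comap ((MulAut.conj g).toMonoidHom.comp ψ) := by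
        apply PresentedGroup.generated_by
        intro i
        rw [Subgroup.mem_comap]
        fin_cases i
        · show g * ψ (PresentedGroup.of 0) * g⁻¹ ∈ M
          exact hMa
        · show g * ψ (PresentedGroup.of 1) * g⁻¹ ∈ M
          exact hMb
      rw [Subgroup.mem_comap] at hmem
      have h2 : g * ψ p * g⁻¹ ∈ M := hmem
      rw [hp] at h2
      have h3 : g * (g⁻¹ * z * g) * g⁻¹ = z := by group
      rwa [h3] at h2
    apply Subgroup.eq_of_le_of_card_ge hle
    rw [hM, Nat.card_congr (Subgroup.equivSMul (MulAut.conj g) L).toEquiv.symm,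
      Nat.card_congr e.toEquiv, card_A5']
  rcases hg with ⟨h1, h2⟩ | ⟨h1, h2⟩
  · exact Or.inl (main H0 card_H0 h1 h2)
  · exact Or.inr (main K0 card_K0 h1 h2)

/-- the count and the two classes for `PSL(2, ZMod 11)` -/
theorem twoClasses_G0 : TwoClasses G0 (alternatingGroup (Fin 5)) 22 := by
  have hfin := finite_G0
  refine ⟨?_, H0, K0, nonempty_iso_H0, nonempty_iso_K0, not_conj, conj_class⟩
  exact card_two_classes H0 K0 11 (by norm_num) index_H0 index_K0 not_normal_H0 not_normal_K0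
    nonempty_iso_H0 nonempty_iso_K0 not_conj conj_class

end Cfsg.Agent.Helper56.PSL211
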