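import Cfsg.Agent.Helper56.SchreierPerm

/-!
# `ℕ`-encoded permutations of `Fin n` (`n ≤ 128`) and kernel-friendly Schreier–Sims checks

A permutation `p` of `Fin n` is coded by `∑ p(i) * 128 ^ i`.  All heavy computation happens in
Boolean functions on `ℕ`-literals (`Nat.shiftRight`, `Nat.land` are accelerated in the kernel), and
soundness theorems transport the results to `Equiv.Perm (Fin n)`.

* `genOf n cs cis j` : the permutation with code `cs[j]` and inverse code `cis[j]`;
* `eqWords` / `eqWords_sound` : equality of two words in the generators;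
* `levelCheckN` / `levelN_sound` : one level of a stabilizer chain, for a nested strong generating
  set (`genGroup gen k` is generated by the first `k` generators); only the Schreier generators of
  the new generators `k' ≤ j < k` are checked, given that the older ones are words in the new ones.
-/

set_option autoImplicit false

namespace Cfsg.Agent.Helper56.PermN

open Cfsg.Agent.Helper56

/-- the `i`-th 7-bit digit of `c` -/
def app7 (c i : ℕ) : ℕ := (c >>> (7 * i)) &&& 127

/-- `c` and `ci` code mutually inverse maps of `{0,…,n-1}` -/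
def validCode (n c ci : ℕ) : Bool :=
  (List.range n).all fun i =>
    decide (app7 c i < n) && decide (app7 ci i < n) && (app7 ci (app7 c i) == i) &&
      (app7 c (app7 ci i) == i)

theorem validCode_spec {n c ci : ℕ} (h : validCode n c ci = true) (i : ℕ) (hi : i < n) :
    app7 c i < n ∧ app7 ci i < n ∧ app7 ci (app7 c i) = i ∧ app7 c (app7 ci i) = i := by
  unfold validCode at h
  rw [List.all_eq_true] at h
  have := h i (List.mem_range.mpr hi)
  simp only [Bool.and_eq_true, decide_eq_true_eq, beq_iff_eq] at this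
  tauto

/-- the permutation coded by `c` (inverse coded by `ci`); `1` if the codes are not valid -/
def permOfCode (n c ci : ℕ) : Equiv.Perm (Fin n) :=
  if h : validCode n c ci = true then
    { toFun := fun i => ⟨app7 c i.val, (validCode_spec h i.val i.isLt).1⟩
      invFun := fun i => ⟨app7 ci i.val, (validCode_spec h i.val i.isLt).2.1⟩
      left_inv := fun i => Fin.ext (validCode_spec h i.val i.isLt).2.2.1
      right_inv := fun i => Fin.ext (validCode_spec h i.val i.isLt).2.2.2 }
  else 1

theorem permOfCode_apply {n c ci : ℕ} (h : validCode n c ci = true) (i : Fin n) :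
    ((permOfCode n c ci) i).val = app7 c i.val := by
  unfold permOfCode; rw [dif_pos h]; rfl

/-- the `j`-th generator -/
def genOf (n : ℕ) (cs cis : List ℕ) (j : ℕ) : Equiv.Perm (Fin n) :=
  permOfCode n (cs.getD j 0) (cis.getD j 0)

/-- all codes in the lists are valid -/
def allValid (n : ℕ) (cs cis : List ℕ) : Bool :=
  (List.range cs.length).all fun j => validCode n (cs.getD j 0) (cis.getD j 0)

theorem allValid_spec {n : ℕ} {cs cis : List ℕ} (hv : allValid n cs cis = true) (j : ℕ)
    (hj : j < cs.length) : validCode n (cs.getD j 0) (cis.getD j 0) = true := by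
  unfold allValid at hv
  rw [List.all_eq_true] at hv
  exact hv j (List.mem_range.mpr hj)

theorem genOf_apply {n : ℕ} {cs cis : List ℕ} (hv : allValid n cs cis = true) (j : ℕ)
    (hj : j < cs.length) (i : Fin n) : ((genOf n cs cis j) i).val = app7 (cs.getD j 0) i.val :=
  permOfCode_apply (allValid_spec hv j hj) i

/-- image of `i` under the word `l` -/
def appWord (cs : List ℕ) (l : List ℕ) (i : ℕ) : ℕ :=
  l.foldr (fun j x => app7 (cs.getD j 0) x) i

theorem wprod_cons {n : ℕ} (gen : ℕ → Equiv.Perm (Fin n)) (j : ℕ) (l : List ℕ) :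
    wprod gen (j :: l) = gen j * wprod gen l := by
  unfold wprod; rw [List.map_cons, List.prod_cons]

theorem wprod_append {n : ℕ} (gen : ℕ → Equiv.Perm (Fin n)) (l l' : List ℕ) :
    wprod gen (l ++ l') = wprod gen l * wprod gen l' := by
  unfold wprod; rw [List.map_append, List.prod_append]

theorem wprod_apply {n : ℕ} {cs cis : List ℕ} (hv : allValid n cs cis = true) (l : List ℕ)
    (hl : ∀ j ∈ l, j < cs.length) (i : Fin n) :
    ((wprod (genOf n cs cis) l) i).val = appWord cs l i.val := by
  induction l with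
  | nil => simp [wprod, appWord]
  | cons j l ih =>
    have hj : j < cs.length := hl j List.mem_cons_self
    have hl' : ∀ j' ∈ l, j' < cs.length := fun j' hj' => hl j' (List.mem_cons_of_mem _ hj')
    rw [wprod_cons, Equiv.Perm.mul_apply, genOf_apply hv j hj, ih hl']
    rfl

/-- Boolean equality test of two words -/
def eqWords (n : ℕ) (cs : List ℕ) (w1 w2 : List ℕ) : Bool :=
  (List.range n).all fun x => appWord cs w1 x == appWord cs w2 x

theorem eqWords_sound {n : ℕ} {cs cis : List ℕ} (hv : allValid n cs cis = true) {w1 w2 : List ℕ}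
    (h1 : ∀ j ∈ w1, j < cs.length) (h2 : ∀ j ∈ w2, j < cs.length)
    (h : eqWords n cs w1 w2 = true) :
    wprod (genOf n cs cis) w1 = wprod (genOf n cs cis) w2 := by
  apply Equiv.ext
  intro i
  apply Fin.ext
  rw [wprod_apply hv w1 h1 i, wprod_apply hv w2 h2 i]
  unfold eqWords at h
  rw [List.all_eq_true] at h
  have := h i.val (List.mem_range.mpr i.isLt)
  exact beq_iff_eq.mp this

/-- all letters of the word are `< k` -/
def lettersLt (k : ℕ) (l : List ℕ) : Bool := l.all fun j => decide (j < k)

theorem lettersLt_spec {k : ℕ} {l : List ℕ} (h : lettersLt k l = true) : ∀ j ∈ l, j < k := by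
  unfold lettersLt at h
  rw [List.all_eq_true] at h
  intro j hj
  exact of_decide_eq_true (h j hj)

/-- Boolean check of one level of the chain -/
def levelCheckN (n : ℕ) (cs : List ℕ) (k' k β : ℕ) (orbL : List ℕ) (uw : List (List ℕ))
    (cert : List (List (List ℕ))) : Bool :=
  decide (k' ≤ k) && decide (k ≤ cs.length) && decide (orbL.Nodup)
  && orbL.all (fun δ => decide (δ < n))
  && orbL.contains β && (uw.getD β []).isEmpty
  && (List.range k').all (fun j => app7 (cs.getD j 0) β == β)
  && orbL.all (fun δ => lettersLt k (uw.getD δ []) && appWord cs (uw.getD δ []) β == δ)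
  && (List.range (k - k')).all (fun jj => orbL.all (fun δ =>
      orbL.contains (app7 (cs.getD (k' + jj) 0) δ)
      && lettersLt k' ((cert.getD jj []).getD δ [])
      && eqWords n cs ((k' + jj) :: uw.getD δ [])
          (uw.getD (app7 (cs.getD (k' + jj) 0) δ) [] ++ (cert.getD jj []).getD δ [])))

section sound

variable {n : ℕ} {cs cis : List ℕ} (hv : allValid n cs cis = true)
  {k' k : ℕ} {β : Fin n} {orbL : List ℕ} {uw : List (List ℕ)} {cert : List (List (List ℕ))}

theorem card_subtype_mem_list (orbL : List ℕ) (hnd : orbL.Nodup) (hlt : ∀ δ ∈ orbL, δ < n) :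
    Nat.card {δ : Fin n // δ.val ∈ orbL} = orbL.length := by
  rw [Nat.card_eq_fintype_card, Fintype.card_subtype, ← List.toFinset_card_of_nodup hnd,
    ← Finset.card_map Fin.valEmbedding]
  congr 1
  ext x
  simp only [Finset.mem_map, Finset.mem_filter, Finset.mem_univ, true_and, Fin.valEmbedding_apply,
    List.mem_toFinset]
  constructor
  · rintro ⟨δ, hδ, rfl⟩; exact hδ
  · intro hx; exact ⟨⟨x, hlt x hx⟩, hx, rfl⟩

include hv in
theorem levelN_sound (hchk : levelCheckN n cs k' k β.val orbL uw cert = true)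
    (hHK : genGroup (genOf n cs cis) k' ≤
      Subgroup.closure (genOf n cs cis '' Set.Ico k' k)) :
    (genGroup (genOf n cs cis) k ⊓ MulAction.stabilizer (Equiv.Perm (Fin n)) β =
        genGroup (genOf n cs cis) k') ∧
    Nat.card (genGroup (genOf n cs cis) k) =
        orbL.length * Nat.card (genGroup (genOf n cs cis) k') ∧
    ∀ δ : Fin n, δ.val ∈ orbL ↔ ∃ g ∈ genGroup (genOf n cs cis) k, g β = δ := by
  unfold levelCheckN at hchk
  simp only [Bool.and_eq_true, decide_eq_true_eq, List.all_eq_true, List.mem_range,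
    List.contains_iff_mem, beq_iff_eq, List.isEmpty_iff] at hchk
  obtain ⟨⟨⟨⟨⟨⟨⟨⟨hkk, hkl⟩, hnd⟩, hlt⟩, hβ⟩, huβ⟩, hfix⟩, htr⟩, hsch⟩ := hchk
  set gen := genOf n cs cis with hgen
  set S : Set (Equiv.Perm (Fin n)) := gen '' Set.Ico k' k with hS
  -- closure S = genGroup gen k
  have hcl : Subgroup.closure S = genGroup gen k := by
    apply le_antisymm
    · apply Subgroup.closure_mono
      apply Set.image_mono
      intro j hj; exact hj.2
    · unfold genGroup
      rw [Subgroup.closure_le]
      rintro _ ⟨j, hj, rfl⟩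
      by_cases hjk : j < k'
      · exact hHK (Subgroup.subset_closure ⟨j, hjk, rfl⟩)
      · exact Subgroup.subset_closure ⟨j, ⟨not_lt.mp hjk, hj⟩, rfl⟩
  set Δ : Set (Fin n) := {δ | δ.val ∈ orbL} with hΔ
  set u : Fin n → Equiv.Perm (Fin n) := fun δ => wprod gen (uw.getD δ.val []) with hu
  have hβΔ : β ∈ Δ := hβ
  have hu1 : u β ∈ genGroup gen k' := by
    have : u β = 1 := by
      simp only [hu, huβ]; rfl
    rw [this]; exact Subgroup.one_mem _
  have hHβ : ∀ h ∈ genGroup gen k', h • β = β := by
    apply genGroup_fixes gen k' β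
    intro j hj
    apply Fin.ext
    rw [hgen, genOf_apply hv j (lt_of_lt_of_le hj (le_trans hkk hkl))]
    exact hfix j hj
  have huK : ∀ δ ∈ Δ, u δ ∈ Subgroup.closure S := by
    intro δ hδ
    rw [hcl]
    exact wprod_mem gen k _ (lettersLt_spec (htr δ.val hδ).1)
  have huβ' : ∀ δ ∈ Δ, u δ • β = δ := by
    intro δ hδ
    apply Fin.ext
    have h1 := lettersLt_spec (htr δ.val hδ).1
    show ((wprod gen (uw.getD δ.val [])) β).val = δ.val
    rw [hgen, wprod_apply hv _ (fun j hj => lt_of_lt_of_le (h1 j hj) hkl) β]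
    exact (htr δ.val hδ).2
  have hstep : ∀ s ∈ S, ∀ δ ∈ Δ, s • δ ∈ Δ ∧ (u (s • δ))⁻¹ * s * u δ ∈ genGroup gen k' := by
    rintro _ ⟨j, ⟨hj1, hj2⟩, rfl⟩ δ hδ
    obtain ⟨jj, rfl⟩ : ∃ jj, j = k' + jj := ⟨j - k', by omega⟩
    have hjj : jj < k - k' := by omega
    obtain ⟨⟨ha, hb⟩, hc⟩ := hsch jj hjj δ.val hδ
    have hval : (gen (k' + jj) δ).val = app7 (cs.getD (k' + jj) 0) δ.val := by
      rw [hgen, genOf_apply hv _ (lt_of_lt_of_le hj2 hkl)]
    have hmem : gen (k' + jj) • δ ∈ Δ := by
      show (gen (k' + jj) δ).val ∈ orbL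
      rw [hval]; exact ha
    refine ⟨hmem, ?_⟩
    have hb' := lettersLt_spec hb
    have h1 := lettersLt_spec (htr δ.val hδ).1
    have h2 := lettersLt_spec (htr _ ha).1
    have heq := eqWords_sound hv (w1 := (k' + jj) :: uw.getD δ.val [])
      (w2 := uw.getD (app7 (cs.getD (k' + jj) 0) δ.val) [] ++ (cert.getD jj []).getD δ.val [])
      (by
        intro j hj
        rcases List.mem_cons.mp hj with rfl | hj
        · exact lt_of_lt_of_le hj2 hkl
        · exact lt_of_lt_of_le (h1 j hj) hkl)
      (by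
        intro j hj
        rcases List.mem_append.mp hj with hj | hj
        · exact lt_of_lt_of_le (h2 j hj) hkl
        · exact lt_of_lt_of_le (hb' j hj) (le_trans hkk hkl))
      hc
    rw [wprod_cons, wprod_append] at heq
    have hu' : u (gen (k' + jj) • δ) = wprod gen (uw.getD (app7 (cs.getD (k' + jj) 0) δ.val) []) := by
      show wprod gen (uw.getD (gen (k' + jj) δ).val []) = _
      rw [hval]
    have : (u (gen (k' + jj) • δ))⁻¹ * gen (k' + jj) * u δ =
        wprod gen ((cert.getD jj []).getD δ.val []) := by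
      rw [hu', mul_assoc]
      show _ * (gen (k' + jj) * wprod gen (uw.getD δ.val [])) = _
      rw [← hgen] at heq
      rw [heq]; group
    rw [this]
    exact wprod_mem gen k' _ hb'
  have hfin : ∀ s ∈ S, IsOfFinOrder s := fun s _ => isOfFinOrder_of_finite s
  have hHK' : genGroup gen k' ≤ Subgroup.closure S := hHK
  refine ⟨?_, ?_, ?_⟩
  · rw [← hcl]
    exact schreier_inf_stabilizer S hfin (genGroup gen k') β Δ u hβΔ hu1 hstep hHβ hHK'
  · rw [← hcl, schreier_card S hfin (genGroup gen k') β Δ u hβΔ hu1 hstep hHβ hHK' huK huβ']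
    congr 1
    exact card_subtype_mem_list orbL hnd hlt
  · intro δ
    rw [← hcl]
    exact schreier_orbit S hfin (genGroup gen k') β Δ u hβΔ hu1 hstep hHβ huK huβ' δ

end sound

/-- Boolean check that the generators `k'' ≤ j < k'` are words in the generators `k' ≤ j < k` -/
def stepCheck (n : ℕ) (cs : List ℕ) (k'' k' k : ℕ) (ws : List (List ℕ)) : Bool :=
  decide (k ≤ cs.length) && decide (k' ≤ k) &&
  (List.range (k' - k'')).all fun jj =>
    (ws.getD jj []).all (fun j => decide (k' ≤ j) && decide (j < k))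
    && eqWords n cs [k'' + jj] (ws.getD jj [])

theorem wprod_mem_closure_Ico {n : ℕ} (gen : ℕ → Equiv.Perm (Fin n)) (k' k : ℕ) (l : List ℕ)
    (hl : ∀ j ∈ l, k' ≤ j ∧ j < k) :
    wprod gen l ∈ Subgroup.closure (gen '' Set.Ico k' k) := by
  unfold wprod
  apply Subgroup.list_prod_mem
  intro x hx
  rw [List.mem_map] at hx
  obtain ⟨j, hj, rfl⟩ := hx
  exact Subgroup.subset_closure ⟨j, hl j hj, rfl⟩

theorem stepCheck_sound {n : ℕ} {cs cis : List ℕ} (hv : allValid n cs cis = true)
    {k'' k' k : ℕ} {ws : List (List ℕ)} (h : stepCheck n cs k'' k' k ws = true)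
    (hprev : genGroup (genOf n cs cis) k' =
      Subgroup.closure (genOf n cs cis '' Set.Ico k'' k')) :
    genGroup (genOf n cs cis) k' ≤ Subgroup.closure (genOf n cs cis '' Set.Ico k' k) := by
  unfold stepCheck at h
  simp only [Bool.and_eq_true, decide_eq_true_eq, List.all_eq_true, List.mem_range] at h
  obtain ⟨⟨hkl, hkk⟩, h⟩ := h
  rw [hprev, Subgroup.closure_le]
  rintro _ ⟨j, ⟨hj1, hj2⟩, rfl⟩
  obtain ⟨jj, rfl⟩ : ∃ jj, j = k'' + jj := ⟨j - k'', by omega⟩
  obtain ⟨ha, hb⟩ := h jj (by omega)
  have heq := eqWords_sound hv (w1 := [k'' + jj]) (w2 := ws.getD jj [])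
    (by intro j hj; rw [List.mem_singleton] at hj; subst hj; omega)
    (by intro j hj; exact lt_of_lt_of_le (ha j hj).2 hkl) hb
  have h1 : wprod (genOf n cs cis) [k'' + jj] = genOf n cs cis (k'' + jj) := by
    rw [wprod_cons]; simp [wprod]
  rw [h1] at heq
  rw [SetLike.mem_coe, heq]
  exact wprod_mem_closure_Ico _ k' k _ (fun j hj => ha j hj)

/-- from the level equality and the step check, the next closure equality -/
theorem genGroup_eq_closure_Ico {n : ℕ} (gen : ℕ → Equiv.Perm (Fin n)) {k' k : ℕ}
    (hHK : genGroup gen k' ≤ Subgroup.closure (gen '' Set.Ico k' k)) :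
    genGroup gen k = Subgroup.closure (gen '' Set.Ico k' k) := by
  apply le_antisymm
  · unfold genGroup
    rw [Subgroup.closure_le]
    rintro _ ⟨j, hj, rfl⟩
    by_cases hjk : j < k'
    · exact hHK (Subgroup.subset_closure ⟨j, hjk, rfl⟩)
    · exact Subgroup.subset_closure ⟨j, ⟨not_lt.mp hjk, hj⟩, rfl⟩
  · apply Subgroup.closure_mono
    apply Set.image_mono
    intro j hj; exact hj.2

/-- Boolean check that the words `ws[δ]` (letters `< k`) map `γ` to `δ`, for `δ` in `orbL` -/
def imgCheck (cs : List ℕ) (k γ : ℕ) (orbL : List ℕ) (ws : List (List ℕ)) : Bool :=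
  decide (k ≤ cs.length) &&
  orbL.all fun δ => lettersLt k (ws.getD δ []) && appWord cs (ws.getD δ []) γ == δ

theorem imgCheck_sound {n : ℕ} {cs cis : List ℕ} (hv : allValid n cs cis = true)
    {k : ℕ} {γ : Fin n} {orbL : List ℕ} {ws : List (List ℕ)}
    (h : imgCheck cs k γ.val orbL ws = true) (δ : Fin n) (hδ : δ.val ∈ orbL) :
    ∃ g ∈ genGroup (genOf n cs cis) k, g γ = δ := by
  unfold imgCheck at h
  simp only [Bool.and_eq_true, decide_eq_true_eq, List.all_eq_true, beq_iff_eq] at h
  obtain ⟨hkl, h⟩ := h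
  obtain ⟨h1, h2⟩ := h δ.val hδ
  have h1' := lettersLt_spec h1
  refine ⟨wprod (genOf n cs cis) (ws.getD δ.val []), wprod_mem _ k _ h1', ?_⟩
  apply Fin.ext
  rw [wprod_apply hv _ (fun j hj => lt_of_lt_of_le (h1' j hj) hkl) γ]
  exact h2

end Cfsg.Agent.Helper56.PermN
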