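import Cfsg.Agent.Helper56.SchreierPerm

/-!
# `ℕ`-encoded permutations of `Fin n` with arbitrary digit width, graph rigidity,
and Schreier–Sims levels whose word identities are only checked on a base

* `dig w m c i` : the `i`-th `w`-bit digit of `c` (`m` is the mask `2 ^ w - 1`; nothing is assumed
  about `m`, all objects are *defined* through `dig`).
* `autGroup n nb` : the permutations of `Fin n` preserving the relation `v ∈ nb u`.
* `genInvCheck` : Boolean check that a coded permutation lies in `autGroup`.
* `initOK`, `roundCheck`, `sortedCheck` : colour refinement certificates giving `Rigid`: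
  an automorphism fixing the base pointwise is trivial.
* `eqOn` / `eqOn_sound` : equality of words, checked on the base only.
* `svWord`, `levelCheckB`, `levelB_sound` : one Schreier–Sims level with Schreier vectors.
-/

set_option autoImplicit false

namespace Cfsg.Agent.Helper56.PermW

open Cfsg.Agent.Helper56

/-- the `i`-th digit of `c` -/
def dig (w m c i : ℕ) : ℕ := (c >>> (w * i)) &&& m

theorem perm_apply_inv {α : Type*} (σ : Equiv.Perm α) (x : α) : σ (σ⁻¹ x) = x :=
  Equiv.apply_symm_apply σ x

theorem perm_inv_apply {α : Type*} (σ : Equiv.Perm α) (x : α) : σ⁻¹ (σ x) = x :=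
  Equiv.symm_apply_apply σ x

/-- `P` holds on `[lo, hi)` -/
def rangeAll (lo hi : ℕ) (P : ℕ → Bool) : Bool := (List.range (hi - lo)).all fun i => P (lo + i)

theorem ptwise1 {lo hi : ℕ} {P : ℕ → Bool} (h : rangeAll lo hi P = true) :
    ∀ x, lo ≤ x → x < hi → P x = true := by
  intro x h1 h2
  unfold rangeAll at h
  rw [List.all_eq_true] at h
  have := h (x - lo) (List.mem_range.mpr (by omega))
  rwa [Nat.add_sub_cancel' h1] at this

theorem ptwise2 {a b c : ℕ} {P : ℕ → Bool} (h1 : rangeAll a b P = true)
    (h2 : ∀ x, b ≤ x → x < c → P x = true) : ∀ x, a ≤ x → x < c → P x = true := by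
  intro x hx1 hx2
  by_cases hb : x < b
  · exact ptwise1 h1 x hx1 hb
  · exact h2 x (not_lt.mp hb) hx2

section basic

variable (w m : ℕ)

/-- pointwise validity test -/
def validPt (n c ci i : ℕ) : Bool :=
  decide (dig w m c i < n) && decide (dig w m ci i < n) && (dig w m ci (dig w m c i) == i) &&
    (dig w m c (dig w m ci i) == i)

/-- `c` and `ci` code mutually inverse maps of `{0,…,n-1}` -/
def validCode (n c ci : ℕ) : Bool :=
  (List.range n).all fun i => validPt w m n c ci i

variable {w m}

theorem validCode_spec {n c ci : ℕ} (h : validCode w m n c ci = true) (i : ℕ) (hi : i < n) :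
    dig w m c i < n ∧ dig w m ci i < n ∧ dig w m ci (dig w m c i) = i ∧
      dig w m c (dig w m ci i) = i := by
  unfold validCode at h
  rw [List.all_eq_true] at h
  have := h i (List.mem_range.mpr hi)
  unfold validPt at this
  simp only [Bool.and_eq_true, decide_eq_true_eq, beq_iff_eq] at this
  tauto

theorem validCode_of_pt {n c ci : ℕ} (h : ∀ i, i < n → validPt w m n c ci i = true) :
    validCode w m n c ci = true := by
  unfold validCode
  rw [List.all_eq_true]
  intro i hi
  exact h i (List.mem_range.mp hi)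

variable (w m)

/-- the permutation coded by `c` (inverse coded by `ci`); `1` if the codes are not valid -/
def permOfCode (n c ci : ℕ) : Equiv.Perm (Fin n) :=
  if h : validCode w m n c ci = true then
    { toFun := fun i => ⟨dig w m c i.val, (validCode_spec h i.val i.isLt).1⟩
      invFun := fun i => ⟨dig w m ci i.val, (validCode_spec h i.val i.isLt).2.1⟩
      left_inv := fun i => Fin.ext (validCode_spec h i.val i.isLt).2.2.1
      right_inv := fun i => Fin.ext (validCode_spec h i.val i.isLt).2.2.2 }
  else 1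

variable {w m}

theorem permOfCode_apply {n c ci : ℕ} (h : validCode w m n c ci = true) (i : Fin n) :
    ((permOfCode w m n c ci) i).val = dig w m c i.val := by
  unfold permOfCode; rw [dif_pos h]; rfl

theorem permOfCode_symm_apply {n c ci : ℕ} (h : validCode w m n c ci = true) (i : Fin n) :
    ((permOfCode w m n c ci)⁻¹ i).val = dig w m ci i.val := by
  unfold permOfCode; rw [dif_pos h]; rfl

variable (w m)

/-- the `j`-th generator -/
def genOf (n : ℕ) (cs cis : List ℕ) (j : ℕ) : Equiv.Perm (Fin n) :=
  permOfCode w m n (cs.getD j 0) (cis.getD j 0)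

/-- all codes in the lists are valid -/
def allValid (n : ℕ) (cs cis : List ℕ) : Bool :=
  (List.range cs.length).all fun j => validCode w m n (cs.getD j 0) (cis.getD j 0)

/-- image of `i` under the word `l` -/
def appWord (cs : List ℕ) (l : List ℕ) (i : ℕ) : ℕ :=
  l.foldr (fun j x => dig w m (cs.getD j 0) x) i

variable {w m}

theorem allValid_spec {n : ℕ} {cs cis : List ℕ} (hv : allValid w m n cs cis = true) (j : ℕ)
    (hj : j < cs.length) : validCode w m n (cs.getD j 0) (cis.getD j 0) = true := by
  unfold allValid at hv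
  rw [List.all_eq_true] at hv
  exact hv j (List.mem_range.mpr hj)

theorem genOf_apply {n : ℕ} {cs cis : List ℕ} (hv : allValid w m n cs cis = true) (j : ℕ)
    (hj : j < cs.length) (i : Fin n) :
    ((genOf w m n cs cis j) i).val = dig w m (cs.getD j 0) i.val :=
  permOfCode_apply (allValid_spec hv j hj) i

theorem genOf_inv_apply {n : ℕ} {cs cis : List ℕ} (hv : allValid w m n cs cis = true) (j : ℕ)
    (hj : j < cs.length) (i : Fin n) :
    ((genOf w m n cs cis j)⁻¹ i).val = dig w m (cis.getD j 0) i.val :=
  permOfCode_symm_apply (allValid_spec hv j hj) i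

theorem wprod_cons {n : ℕ} (gen : ℕ → Equiv.Perm (Fin n)) (j : ℕ) (l : List ℕ) :
    wprod gen (j :: l) = gen j * wprod gen l := by
  unfold wprod; rw [List.map_cons, List.prod_cons]

theorem wprod_nil {n : ℕ} (gen : ℕ → Equiv.Perm (Fin n)) : wprod gen [] = 1 := by
  unfold wprod; simp

theorem wprod_append {n : ℕ} (gen : ℕ → Equiv.Perm (Fin n)) (l l' : List ℕ) :
    wprod gen (l ++ l') = wprod gen l * wprod gen l' := by
  unfold wprod; rw [List.map_append, List.prod_append]

theorem wprod_apply {n : ℕ} {cs cis : List ℕ} (hv : allValid w m n cs cis = true) (l : List ℕ)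
    (hl : ∀ j ∈ l, j < cs.length) (i : Fin n) :
    ((wprod (genOf w m n cs cis) l) i).val = appWord w m cs l i.val := by
  induction l with
  | nil => simp [wprod, appWord]
  | cons j l ih =>
    have hj : j < cs.length := hl j List.mem_cons_self
    have hl' : ∀ j' ∈ l, j' < cs.length := fun j' hj' => hl j' (List.mem_cons_of_mem _ hj')
    rw [wprod_cons, Equiv.Perm.mul_apply, genOf_apply hv j hj, ih hl']
    rfl

/-- all letters of the word are `< k` -/
def lettersLt (k : ℕ) (l : List ℕ) : Bool := l.all fun j => decide (j < k)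

theorem lettersLt_spec {k : ℕ} {l : List ℕ} (h : lettersLt k l = true) : ∀ j ∈ l, j < k := by
  unfold lettersLt at h
  rw [List.all_eq_true] at h
  intro j hj
  exact of_decide_eq_true (h j hj)

end basic

/-- strictly increasing list -/
def strictIncr : List ℕ → Bool
  | [] => true
  | [_] => true
  | x :: y :: l => decide (x < y) && strictIncr (y :: l)

theorem strictIncr_pairwise : ∀ l : List ℕ, strictIncr l = true → l.Pairwise (· < ·)
  | [], _ => List.Pairwise.nil
  | [_], _ => List.pairwise_singleton _ _
  | x :: y :: l, h => by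
    simp only [strictIncr, Bool.and_eq_true, decide_eq_true_eq] at h
    have ih := strictIncr_pairwise (y :: l) h.2
    rw [List.pairwise_cons]
    refine ⟨?_, ih⟩
    intro z hz
    rcases List.mem_cons.mp hz with rfl | hz
    · exact h.1
    · exact lt_trans h.1 ((List.pairwise_cons.mp ih).1 z hz)

/-- entry `v` of a two-level packed table: chunk `v / per`, digit `v % per` of width `wb` -/
def tget (per wb mb : ℕ) (tab : List ℕ) (v : ℕ) : ℕ := dig wb mb (tab.getD (v / per) 0) (v % per)

/-- the first `d` digits of `e` -/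
def digitsOf (w m : ℕ) : ℕ → ℕ → List ℕ
  | 0, _ => []
  | d + 1, e => (e &&& m) :: digitsOf w m d (e >>> w)

/-! ### Graph automorphisms -/

section graph

variable (n : ℕ) (nb : ℕ → List ℕ)

/-- the adjacency relation -/
def Adj (u v : Fin n) : Prop := v.val ∈ nb u.val

/-- permutations preserving adjacency -/
def autGroup : Subgroup (Equiv.Perm (Fin n)) where
  carrier := {σ | ∀ u v : Fin n, Adj n nb u v ↔ Adj n nb (σ u) (σ v)}
  mul_mem' := by
    intro σ τ hσ hτ u v
    rw [Equiv.Perm.mul_apply, Equiv.Perm.mul_apply, ← hσ, ← hτ]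
  one_mem' := by intro u v; rfl
  inv_mem' := by
    intro σ hσ u v
    have := hσ (σ⁻¹ u) (σ⁻¹ v)
    rw [perm_apply_inv, perm_apply_inv] at this
    exact this.symm

/-- bit mask of a list -/
def maskOf (l : List ℕ) : ℕ := l.foldr (fun x acc => acc ||| (1 <<< x)) 0

theorem testBit_maskOf (l : List ℕ) (y : ℕ) : (maskOf l).testBit y = true ↔ y ∈ l := by
  induction l with
  | nil => simp [maskOf]
  | cons x l ih =>
    have : maskOf (x :: l) = maskOf l ||| (1 <<< x) := rfl
    rw [this, Nat.testBit_or, Bool.or_eq_true, ih, List.mem_cons, Nat.one_shiftLeft,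
      Nat.testBit_two_pow]
    simp only [decide_eq_true_eq]
    constructor
    · rintro (h | h)
      · right; exact h
      · left; exact h.symm
    · rintro (h | h)
      · right; exact h.symm
      · left; exact h

/-- pointwise test: the neighbour list of `v` is strictly increasing with entries `< n` -/
def graphPt (v : ℕ) : Bool := (nb v).all (fun x => decide (x < n)) && strictIncr (nb v)

/-- all neighbour lists are strictly increasing with entries `< n` -/
def GraphOK : Prop := ∀ v, v < n → graphPt n nb v = true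

theorem graphOK_spec (h : GraphOK n nb) (v : ℕ) (hv : v < n) :
    (∀ x ∈ nb v, x < n) ∧ (nb v).Nodup := by
  have := h v hv
  unfold graphPt at this
  simp only [Bool.and_eq_true, List.all_eq_true, decide_eq_true_eq] at this
  exact ⟨this.1, (strictIncr_pairwise _ this.2).imp (fun hab => ne_of_lt hab)⟩

variable (w m : ℕ)

/-- pointwise test that the coded map preserves the neighbourhood of `v` -/
def invPt (c v : ℕ) : Bool :=
  maskOf (nb (dig w m c v)) == maskOf ((nb v).map (dig w m c))

variable {n nb w m}

theorem mem_autGroup_of_check (hG : GraphOK n nb) {c ci : ℕ}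
    (hv : validCode w m n c ci = true) (h : ∀ v, v < n → invPt nb w m c v = true) :
    permOfCode w m n c ci ∈ autGroup n nb := by
  intro u v
  have hu := beq_iff_eq.mp (h u.val u.isLt)
  have hbit : ∀ y, y ∈ nb (dig w m c u.val) ↔ y ∈ (nb u.val).map (dig w m c) := by
    intro y
    rw [← testBit_maskOf, ← testBit_maskOf, hu]
  unfold Adj
  rw [permOfCode_apply hv, permOfCode_apply hv, hbit]
  constructor
  · intro hvu
    exact List.mem_map.mpr ⟨v.val, hvu, rfl⟩
  · intro hvu
    obtain ⟨x, hx, hxe⟩ := List.mem_map.mp hvu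
    have hxn : x < n := (graphOK_spec n nb hG u.val u.isLt).1 x hx
    have h1 := (validCode_spec hv x hxn).2.2.1
    have h2 := (validCode_spec hv v.val v.isLt).2.2.1
    have : x = v.val := by rw [← h1, hxe, h2]
    rw [← this]; exact hx

end graph

/-! ### Rigidity by colour refinement -/

section rigid

variable (n : ℕ) (nb : ℕ → List ℕ)

/-- an automorphism fixing the points of `B` is trivial -/
def Rigid (B : List ℕ) : Prop :=
  ∀ σ ∈ autGroup n nb, (∀ b ∈ B, ∀ hb : b < n, σ ⟨b, hb⟩ = ⟨b, hb⟩) → σ = 1

/-- initial colouring: zero outside the base -/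
def initPt (B : List ℕ) (col : ℕ → ℕ) (v : ℕ) : Bool := B.contains v || (col v == 0)

/-- one refinement round, at the vertex `v` -/
def roundPt (gf : ℕ → ℕ) (Ff : ℕ → ℕ → ℕ) (col col' : ℕ → ℕ) (v : ℕ) : Bool :=
  col' v == Ff (col v) (((nb v).map fun u => gf (col u)).sum)

/-- certificate that `col` is injective on `{0,…,n-1}` -/
def sortedCheck (col : ℕ → ℕ) (ord : List ℕ) : Bool :=
  (ord.length == n) && ord.all (fun x => decide (x < n)) && strictIncr (ord.map col)

variable {n nb}

theorem sortedCheck_inj {col : ℕ → ℕ} {ord : List ℕ} (h : sortedCheck n col ord = true)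
    (u v : ℕ) (hu : u < n) (hv : v < n) (huv : col u = col v) : u = v := by
  unfold sortedCheck at h
  simp only [Bool.and_eq_true, beq_iff_eq, List.all_eq_true, decide_eq_true_eq] at h
  obtain ⟨⟨hlen, hlt⟩, hs⟩ := h
  have hpw := strictIncr_pairwise _ hs
  have hnd : (ord.map col).Nodup := hpw.imp (fun hab => ne_of_lt hab)
  have hnd' : ord.Nodup := List.Nodup.of_map col hnd
  have hsub : ord.toFinset ⊆ Finset.range n := by
    intro x hx
    rw [Finset.mem_range]
    exact hlt x (List.mem_toFinset.mp hx)
  have hcard : ord.toFinset.card = n := by rw [List.toFinset_card_of_nodup hnd', hlen]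
  have heq : ord.toFinset = Finset.range n :=
    Finset.eq_of_subset_of_card_le hsub (by rw [hcard, Finset.card_range])
  have hmem : ∀ x, x < n → x ∈ ord := by
    intro x hx
    have : x ∈ ord.toFinset := by rw [heq]; exact Finset.mem_range.mpr hx
    exact List.mem_toFinset.mp this
  exact List.inj_on_of_nodup_map hnd (hmem u hu) (hmem v hv) huv

theorem init_invariant {B : List ℕ} {col : ℕ → ℕ} (h : ∀ v, v < n → initPt B col v = true)
    (σ : Equiv.Perm (Fin n)) (hσ : ∀ b ∈ B, ∀ hb : b < n, σ ⟨b, hb⟩ = ⟨b, hb⟩) (v : Fin n) :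
    col (σ v).val = col v.val := by
  unfold initPt at h
  simp only [Bool.or_eq_true, List.contains_iff_mem, beq_iff_eq] at h
  by_cases hvB : v.val ∈ B
  · have := hσ v.val hvB v.isLt
    rw [this]
  · have h1 : col v.val = 0 := by
      rcases h v.val v.isLt with h | h
      · exact absurd h hvB
      · exact h
    have h2 : col (σ v).val = 0 := by
      rcases h (σ v).val (σ v).isLt with h | h
      · exfalso
        have := hσ (σ v).val h (σ v).isLt
        have : σ (σ v) = σ v := this
        have : σ v = v := σ.injective this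
        rw [this] at h
        exact hvB h
      · exact h
    rw [h1, h2]

theorem round_invariant (hG : GraphOK n nb) {gf : ℕ → ℕ} {Ff : ℕ → ℕ → ℕ}
    {col col' : ℕ → ℕ} (h : ∀ v, v < n → roundPt nb gf Ff col col' v = true)
    (σ : Equiv.Perm (Fin n)) (hσ : σ ∈ autGroup n nb)
    (hinv : ∀ v : Fin n, col (σ v).val = col v.val) (v : Fin n) :
    col' (σ v).val = col' v.val := by
  unfold roundPt at h
  simp only [beq_iff_eq] at h
  rw [h (σ v).val (σ v).isLt, h v.val v.isLt, hinv v]
  congr 1
  -- sums over neighbour lists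
  let σ' : ℕ → ℕ := fun x => if hx : x < n then (σ ⟨x, hx⟩).val else x
  obtain ⟨hlt1, hnd1⟩ := graphOK_spec n nb hG v.val v.isLt
  obtain ⟨hlt2, hnd2⟩ := graphOK_spec n nb hG (σ v).val (σ v).isLt
  have hinj : ∀ x ∈ nb v.val, ∀ y ∈ nb v.val, σ' x = σ' y → x = y := by
    intro x hx y hy hxy
    simp only [σ', dif_pos (hlt1 x hx), dif_pos (hlt1 y hy)] at hxy
    have := σ.injective (Fin.ext hxy)
    exact congrArg Fin.val this
  have hnd3 : ((nb v.val).map σ').Nodup := List.Nodup.map_on hinj hnd1
  have hperm : (nb (σ v).val).Perm ((nb v.val).map σ') := by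
    rw [List.perm_ext_iff_of_nodup hnd2 hnd3]
    intro y
    constructor
    · intro hy
      have hyn : y < n := hlt2 y hy
      have hadj : Adj n nb (σ v) (σ (σ⁻¹ ⟨y, hyn⟩)) := by
        rw [perm_apply_inv]; exact hy
      have hadj' : Adj n nb v (σ⁻¹ ⟨y, hyn⟩) := (hσ v _).mpr hadj
      refine List.mem_map.mpr ⟨(σ⁻¹ ⟨y, hyn⟩).val, hadj', ?_⟩
      simp only [σ', dif_pos (σ⁻¹ ⟨y, hyn⟩).isLt, Fin.eta, perm_apply_inv]
    · intro hy
      obtain ⟨x, hx, rfl⟩ := List.mem_map.mp hy
      have hxn : x < n := hlt1 x hx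
      simp only [σ', dif_pos hxn]
      have hadj : Adj n nb v ⟨x, hxn⟩ := hx
      exact (hσ v _).mp hadj
  have hsum := (hperm.map (fun u => gf (col u))).sum_eq
  rw [hsum, List.map_map]
  congr 1
  apply List.map_congr_left
  intro x hx
  have hxn : x < n := hlt1 x hx
  simp only [Function.comp, σ', dif_pos hxn]
  rw [hinv ⟨x, hxn⟩]

/-- rigidity from an invariant colouring which is injective -/
theorem rigid_of_invariant {B : List ℕ} {col : ℕ → ℕ} {ord : List ℕ}
    (hs : sortedCheck n col ord = true)
    (hinv : ∀ σ ∈ autGroup n nb, (∀ b ∈ B, ∀ hb : b < n, σ ⟨b, hb⟩ = ⟨b, hb⟩) →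
      ∀ v : Fin n, col (σ v).val = col v.val) : Rigid n nb B := by
  intro σ hσ hB
  apply Equiv.ext
  intro v
  apply Fin.ext
  exact sortedCheck_inj hs _ _ (σ v).isLt v.isLt (hinv σ hσ hB v)

end rigid

/-! ### Word identities checked on the base -/

section words

variable (w m : ℕ)

/-- equality test of two words on the points of `B` -/
def eqOn (B : List ℕ) (cs : List ℕ) (w1 w2 : List ℕ) : Bool :=
  B.all fun x => appWord w m cs w1 x == appWord w m cs w2 x

variable {w m}

theorem wprod_mem_of_gens {n : ℕ} (gen : ℕ → Equiv.Perm (Fin n)) (A : Subgroup (Equiv.Perm (Fin n)))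
    (L : ℕ) (hA : ∀ j < L, gen j ∈ A) (l : List ℕ) (hl : ∀ j ∈ l, j < L) : wprod gen l ∈ A := by
  unfold wprod
  apply Subgroup.list_prod_mem
  intro x hx
  rw [List.mem_map] at hx
  obtain ⟨j, hj, rfl⟩ := hx
  exact hA j (hl j hj)

theorem eqOn_sound {n : ℕ} {nb : ℕ → List ℕ} {B : List ℕ} {cs cis : List ℕ}
    (hv : allValid w m n cs cis = true) (hrig : Rigid n nb B)
    (hA : ∀ j < cs.length, genOf w m n cs cis j ∈ autGroup n nb) {w1 w2 : List ℕ}
    (h1 : ∀ j ∈ w1, j < cs.length) (h2 : ∀ j ∈ w2, j < cs.length)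
    (h : eqOn w m B cs w1 w2 = true) :
    wprod (genOf w m n cs cis) w1 = wprod (genOf w m n cs cis) w2 := by
  set g1 := wprod (genOf w m n cs cis) w1 with hg1
  set g2 := wprod (genOf w m n cs cis) w2 with hg2
  have hm1 : g1 ∈ autGroup n nb := wprod_mem_of_gens _ _ cs.length hA w1 h1
  have hm2 : g2 ∈ autGroup n nb := wprod_mem_of_gens _ _ cs.length hA w2 h2
  have hσ : g2⁻¹ * g1 ∈ autGroup n nb := Subgroup.mul_mem _ (Subgroup.inv_mem _ hm2) hm1
  have hfix : ∀ b ∈ B, ∀ hb : b < n, (g2⁻¹ * g1) ⟨b, hb⟩ = ⟨b, hb⟩ := by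
    intro b hbB hb
    unfold eqOn at h
    rw [List.all_eq_true] at h
    have hb' := beq_iff_eq.mp (h b hbB)
    have e : g1 ⟨b, hb⟩ = g2 ⟨b, hb⟩ := by
      apply Fin.ext
      rw [hg1, hg2, wprod_apply hv w1 h1, wprod_apply hv w2 h2]
      exact hb'
    rw [Equiv.Perm.mul_apply, e, perm_inv_apply]
  have := hrig _ hσ hfix
  calc g1 = g2 * (g2⁻¹ * g1) := by group
    _ = g2 := by rw [this, mul_one]

end words

end Cfsg.Agent.Helper56.PermW
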