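import Cfsg.Agent.Helper56.PermW

/-!
# Schreier–Sims levels with Schreier vectors, word identities checked on a rigid base
-/

set_option autoImplicit false

namespace Cfsg.Agent.Helper56.PermW

open Cfsg.Agent.Helper56

section sv

variable (w m : ℕ)

/-- word of the transversal element of `δ`, read off the Schreier vector `sv`
(4-bit digits: `0` for the root, `j + 1` if the last generator applied is `j`) -/
def svWord (cis : List ℕ) (sv : ℕ) : ℕ → ℕ → List ℕ
  | 0, _ => []
  | f + 1, δ =>
    if dig 4 15 sv δ = 0 then [] else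
      (dig 4 15 sv δ - 1) :: svWord cis sv f (dig w m (cis.getD (dig 4 15 sv δ - 1) 0) δ)

theorem svWord_root (cis : List ℕ) (sv f δ : ℕ) (h : dig 4 15 sv δ = 0) :
    svWord w m cis sv f δ = [] := by
  cases f with
  | zero => rfl
  | succ f => simp [svWord, h]

/-- concatenated words of the deeper levels; the `t`-th digit of `c` is the point used at the
`t`-th deeper level -/
def deepWord (cis : List ℕ) : List (ℕ × ℕ) → ℕ → ℕ → List ℕ
  | [], _, _ => []
  | (sv, fuel) :: rest, c, t =>
    svWord w m cis sv fuel (dig w m c t) ++ deepWord cis rest c (t + 1)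

/-- check of the Schreier generator of the generator `s` at the point `x`, certificate `c` -/
def schreierOK (B cs cis : List ℕ) (k' : ℕ) (orbM sv fuel : ℕ) (deeper : List (ℕ × ℕ))
    (s x c : ℕ) : Bool :=
  orbM.testBit (dig w m (cs.getD s 0) x)
  && lettersLt k' (deepWord w m cis deeper c 0)
  && eqOn w m B cs (s :: svWord w m cis sv fuel x)
      (svWord w m cis sv fuel (dig w m (cs.getD s 0) x) ++ deepWord w m cis deeper c 0)

/-- walk through the points, consuming one certificate per orbit point -/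
def walk (orbM : ℕ) (chk : ℕ → ℕ → Bool) : List ℕ → List ℕ → Bool
  | [], _ => true
  | x :: xs, cl =>
    if orbM.testBit x then
      match cl with
      | [] => false
      | c :: cl' => chk x c && walk orbM chk xs cl'
    else walk orbM chk xs cl

theorem walk_spec (orbM : ℕ) (chk : ℕ → ℕ → Bool) :
    ∀ (l cl : List ℕ), walk orbM chk l cl = true →
      ∀ x ∈ l, orbM.testBit x = true → ∃ c, chk x c = true
  | [], _, _, x, hx, _ => by simp at hx
  | y :: ys, cl, h, x, hx, hbit => by
    unfold walk at h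
    by_cases hy : orbM.testBit y = true
    · rw [if_pos hy] at h
      cases cl with
      | nil => simp at h
      | cons c cl' =>
        simp only [Bool.and_eq_true] at h
        rcases List.mem_cons.mp hx with rfl | hx'
        · exact ⟨c, h.1⟩
        · exact walk_spec orbM chk ys cl' h.2 x hx' hbit
    · rw [if_neg hy] at h
      rcases List.mem_cons.mp hx with rfl | hx'
      · exact absurd hbit hy
      · exact walk_spec orbM chk ys cl h x hx' hbit

theorem walk_range (orbM : ℕ) (chk : ℕ → ℕ → Bool) (lo len : ℕ) (cl : List ℕ)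
    (h : walk orbM chk (List.range' lo len) cl = true) :
    ∀ x, lo ≤ x → x < lo + len → orbM.testBit x = true → ∃ c, chk x c = true := by
  intro x h1 h2 hb
  refine walk_spec orbM chk _ cl h x ?_ hb
  rw [List.mem_range'_1]
  exact ⟨h1, h2⟩

theorem join_range {a b c : ℕ} {Q : ℕ → Prop} (h1 : ∀ x, a ≤ x → x < b → Q x)
    (h2 : ∀ x, b ≤ x → x < c → Q x) : ∀ x, a ≤ x → x < c → Q x := by
  intro x hx1 hx2
  by_cases hb : x < b
  · exact h1 x hx1 hb
  · exact h2 x (not_lt.mp hb) hx2

/-- base facts of one level -/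
def baseCheck (cs : List ℕ) (k' k β orbM sv : ℕ) : Bool :=
  decide (k' ≤ k) && decide (k ≤ cs.length) && orbM.testBit β && (dig 4 15 sv β == 0)
  && (List.range k').all (fun j => dig w m (cs.getD j 0) β == β)

/-- the transversal word of the orbit point `x` maps `β` to `x` -/
def trPt (cs cis : List ℕ) (k β orbM sv fuel x : ℕ) : Bool :=
  !orbM.testBit x ||
    (lettersLt k (svWord w m cis sv fuel x) && appWord w m cs (svWord w m cis sv fuel x) β == x)

variable {w m}

theorem card_testBit (n M : ℕ) :
    Nat.card {δ : Fin n // M.testBit δ.val = true} = (List.range n).countP (fun x => M.testBit x) := by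
  rw [Nat.card_eq_fintype_card, Fintype.card_subtype, ← Finset.card_map Fin.valEmbedding,
    List.countP_eq_length_filter,
    ← List.toFinset_card_of_nodup (List.nodup_range.filter _)]
  congr 1
  ext x
  simp only [Finset.mem_map, Finset.mem_filter, Finset.mem_univ, true_and, Fin.valEmbedding_apply,
    List.mem_toFinset, List.mem_filter, List.mem_range]
  constructor
  · rintro ⟨δ, hδ, rfl⟩; exact ⟨δ.isLt, hδ⟩
  · rintro ⟨hx, hb⟩; exact ⟨⟨x, hx⟩, hb, rfl⟩

theorem levelB_sound {n : ℕ} {nb : ℕ → List ℕ} {B cs cis : List ℕ}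
    (hv : allValid w m n cs cis = true) (hrig : Rigid n nb B)
    (hA : ∀ j < cs.length, genOf w m n cs cis j ∈ autGroup n nb)
    {k' k : ℕ} {β : Fin n} {orbM sv fuel : ℕ} {deeper : List (ℕ × ℕ)}
    (hbase : baseCheck w m cs k' k β.val orbM sv = true)
    (htr : ∀ x, x < n → trPt w m cs cis k β.val orbM sv fuel x = true)
    (hsch : ∀ s, k' ≤ s → s < k → ∀ x, x < n → orbM.testBit x = true →
      ∃ c, schreierOK w m B cs cis k' orbM sv fuel deeper s x c = true)
    (hHK : genGroup (genOf w m n cs cis) k' ≤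
      Subgroup.closure (genOf w m n cs cis '' Set.Ico k' k)) :
    (genGroup (genOf w m n cs cis) k ⊓ MulAction.stabilizer (Equiv.Perm (Fin n)) β =
        genGroup (genOf w m n cs cis) k') ∧
    Nat.card (genGroup (genOf w m n cs cis) k) =
        (List.range n).countP (fun x => orbM.testBit x) *
          Nat.card (genGroup (genOf w m n cs cis) k') ∧
    ∀ δ : Fin n, orbM.testBit δ.val = true ↔ ∃ g ∈ genGroup (genOf w m n cs cis) k, g β = δ := by
  unfold baseCheck at hbase
  simp only [Bool.and_eq_true, decide_eq_true_eq, List.all_eq_true, List.mem_range,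
    beq_iff_eq] at hbase
  obtain ⟨⟨⟨⟨hkk, hkl⟩, hβ⟩, hroot⟩, hfix⟩ := hbase
  unfold trPt at htr
  simp only [Bool.and_eq_true, beq_iff_eq, Bool.or_eq_true, Bool.not_eq_true'] at htr
  set gen := genOf w m n cs cis with hgen
  set S : Set (Equiv.Perm (Fin n)) := gen '' Set.Ico k' k with hS
  have hcl : Subgroup.closure S = genGroup gen k := by
    apply le_antisymm
    · apply Subgroup.closure_mono
      apply Set.image_mono
      intro j hj; exact hj.2
    · unfold genGroup
      rw [Subgroup.closure_le]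
      rintro _ ⟨j, hj, rfl⟩
      by_cases hjk : j < k'
      · exact hHK (Subgroup.subset_closure ⟨j, hjk, rfl⟩)
      · exact Subgroup.subset_closure ⟨j, ⟨not_lt.mp hjk, hj⟩, rfl⟩
  set Δ : Set (Fin n) := {δ | orbM.testBit δ.val = true} with hΔ
  set u : Fin n → Equiv.Perm (Fin n) := fun δ => wprod gen (svWord w m cis sv fuel δ.val) with hu
  have htr' : ∀ δ : Fin n, δ ∈ Δ → lettersLt k (svWord w m cis sv fuel δ.val) = true ∧
      appWord w m cs (svWord w m cis sv fuel δ.val) β.val = δ.val := by
    intro δ hδ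
    rcases htr δ.val δ.isLt with h | h
    · rw [hδ] at h; exact absurd h (by simp)
    · exact h
  have hβΔ : β ∈ Δ := hβ
  have hu1 : u β ∈ genGroup gen k' := by
    have : u β = 1 := by
      simp only [hu, svWord_root w m cis sv fuel β.val hroot]
      exact wprod_nil gen
    rw [this]; exact Subgroup.one_mem _
  have hHβ : ∀ h ∈ genGroup gen k', h • β = β := by
    apply genGroup_fixes gen k' β
    intro j hj
    apply Fin.ext
    rw [hgen, genOf_apply hv j (lt_of_lt_of_le hj (le_trans hkk hkl))]
    exact hfix j hj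
  have huK : ∀ δ ∈ Δ, u δ ∈ Subgroup.closure S := by
    intro δ hδ
    rw [hcl]
    exact wprod_mem gen k _ (lettersLt_spec (htr' δ hδ).1)
  have huβ' : ∀ δ ∈ Δ, u δ • β = δ := by
    intro δ hδ
    apply Fin.ext
    have h1 := lettersLt_spec (htr' δ hδ).1
    show ((wprod gen (svWord w m cis sv fuel δ.val)) β).val = δ.val
    rw [hgen, wprod_apply hv _ (fun j hj => lt_of_lt_of_le (h1 j hj) hkl) β]
    exact (htr' δ hδ).2
  have hstep : ∀ s ∈ S, ∀ δ ∈ Δ, s • δ ∈ Δ ∧ (u (s • δ))⁻¹ * s * u δ ∈ genGroup gen k' := by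
    rintro _ ⟨j, ⟨hj1, hj2⟩, rfl⟩ δ hδ
    obtain ⟨jj, rfl⟩ : ∃ jj, j = k' + jj := ⟨j - k', by omega⟩
    have hjj : jj < k - k' := by omega
    obtain ⟨c, hc⟩ := hsch (k' + jj) (by omega) hj2 δ.val δ.isLt hδ
    unfold schreierOK at hc
    simp only [Bool.and_eq_true] at hc
    obtain ⟨⟨ha, hb⟩, hc⟩ := hc
    have hval : (gen (k' + jj) δ).val = dig w m (cs.getD (k' + jj) 0) δ.val := by
      rw [hgen, genOf_apply hv _ (lt_of_lt_of_le hj2 hkl)]
    have hmem : gen (k' + jj) • δ ∈ Δ := by
      show orbM.testBit (gen (k' + jj) δ).val = true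
      rw [hval]; exact ha
    refine ⟨hmem, ?_⟩
    have hb' := lettersLt_spec hb
    have h1 := lettersLt_spec (htr' δ hδ).1
    have h2 := lettersLt_spec (htr' _ hmem).1
    have hval2 : svWord w m cis sv fuel (gen (k' + jj) • δ).val =
        svWord w m cis sv fuel (dig w m (cs.getD (k' + jj) 0) δ.val) := by
      show svWord w m cis sv fuel (gen (k' + jj) δ).val = _
      rw [hval]
    rw [hval2] at h2
    have heq := eqOn_sound hv hrig hA (w1 := (k' + jj) :: svWord w m cis sv fuel δ.val)
      (w2 := svWord w m cis sv fuel (dig w m (cs.getD (k' + jj) 0) δ.val) ++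
        deepWord w m cis deeper c 0)
      (by
        intro j hj
        rcases List.mem_cons.mp hj with rfl | hj
        · exact lt_of_lt_of_le hj2 hkl
        · exact lt_of_lt_of_le (h1 j hj) hkl)
      (by
        intro j hj
        rcases List.mem_append.mp hj with hj | hj
        · exact lt_of_lt_of_le (h2 j hj) hkl
        · exact lt_of_lt_of_le (hb' j hj) (le_trans hkk hkl))
      hc
    rw [wprod_cons, wprod_append] at heq
    have hu' : u (gen (k' + jj) • δ) =
        wprod gen (svWord w m cis sv fuel (dig w m (cs.getD (k' + jj) 0) δ.val)) := by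
      show wprod gen (svWord w m cis sv fuel (gen (k' + jj) • δ).val) = _
      rw [hval2]
    have : (u (gen (k' + jj) • δ))⁻¹ * gen (k' + jj) * u δ =
        wprod gen (deepWord w m cis deeper c 0) := by
      rw [hu', mul_assoc]
      show _ * (gen (k' + jj) * wprod gen (svWord w m cis sv fuel δ.val)) = _
      rw [← hgen] at heq
      rw [heq]; group
    rw [this]
    exact wprod_mem gen k' _ hb'
  have hfin : ∀ s ∈ S, IsOfFinOrder s := fun s _ => isOfFinOrder_of_finite s
  have hHK' : genGroup gen k' ≤ Subgroup.closure S := hHK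
  refine ⟨?_, ?_, ?_⟩
  · rw [← hcl]
    exact schreier_inf_stabilizer S hfin (genGroup gen k') β Δ u hβΔ hu1 hstep hHβ hHK'
  · rw [← hcl, schreier_card S hfin (genGroup gen k') β Δ u hβΔ hu1 hstep hHβ hHK' huK huβ']
    congr 1
    exact card_testBit n orbM
  · intro δ
    rw [← hcl]
    exact schreier_orbit S hfin (genGroup gen k') β Δ u hβΔ hu1 hstep hHβ huK huβ' δ

variable (w m)

/-- Boolean check that the generators `k'' ≤ j < k'` are words in the generators `k' ≤ j < k` -/
def stepCheckB (B cs : List ℕ) (k'' k' k : ℕ) (ws : List (List ℕ)) : Bool :=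
  decide (k ≤ cs.length) && decide (k' ≤ k) &&
  (List.range (k' - k'')).all fun jj =>
    (ws.getD jj []).all (fun j => decide (k' ≤ j) && decide (j < k))
    && eqOn w m B cs [k'' + jj] (ws.getD jj [])

variable {w m}

theorem wprod_mem_closure_Ico {n : ℕ} (gen : ℕ → Equiv.Perm (Fin n)) (k' k : ℕ) (l : List ℕ)
    (hl : ∀ j ∈ l, k' ≤ j ∧ j < k) :
    wprod gen l ∈ Subgroup.closure (gen '' Set.Ico k' k) := by
  unfold wprod
  apply Subgroup.list_prod_mem
  intro x hx
  rw [List.mem_map] at hx
  obtain ⟨j, hj, rfl⟩ := hx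
  exact Subgroup.subset_closure ⟨j, hl j hj, rfl⟩

theorem stepCheckB_sound {n : ℕ} {nb : ℕ → List ℕ} {B cs cis : List ℕ}
    (hv : allValid w m n cs cis = true) (hrig : Rigid n nb B)
    (hA : ∀ j < cs.length, genOf w m n cs cis j ∈ autGroup n nb)
    {k'' k' k : ℕ} {ws : List (List ℕ)} (h : stepCheckB w m B cs k'' k' k ws = true)
    (hprev : genGroup (genOf w m n cs cis) k' =
      Subgroup.closure (genOf w m n cs cis '' Set.Ico k'' k')) :
    genGroup (genOf w m n cs cis) k' ≤ Subgroup.closure (genOf w m n cs cis '' Set.Ico k' k) := by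
  unfold stepCheckB at h
  simp only [Bool.and_eq_true, decide_eq_true_eq, List.all_eq_true, List.mem_range] at h
  obtain ⟨⟨hkl, hkk⟩, h⟩ := h
  rw [hprev, Subgroup.closure_le]
  rintro _ ⟨j, ⟨hj1, hj2⟩, rfl⟩
  obtain ⟨jj, rfl⟩ : ∃ jj, j = k'' + jj := ⟨j - k'', by omega⟩
  obtain ⟨ha, hb⟩ := h jj (by omega)
  have heq := eqOn_sound hv hrig hA (w1 := [k'' + jj]) (w2 := ws.getD jj [])
    (by intro j hj; rw [List.mem_singleton] at hj; subst hj; omega)
    (by intro j hj; exact lt_of_lt_of_le (ha j hj).2 hkl) hb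
  have h1 : wprod (genOf w m n cs cis) [k'' + jj] = genOf w m n cs cis (k'' + jj) := by
    rw [wprod_cons, wprod_nil, mul_one]
  rw [h1] at heq
  rw [SetLike.mem_coe, heq]
  exact wprod_mem_closure_Ico _ k' k _ (fun j hj => ha j hj)

theorem genGroup_eq_closure_Ico {n : ℕ} (gen : ℕ → Equiv.Perm (Fin n)) {k' k : ℕ}
    (hHK : genGroup gen k' ≤ Subgroup.closure (gen '' Set.Ico k' k)) :
    genGroup gen k = Subgroup.closure (gen '' Set.Ico k' k) := by
  apply le_antisymm
  · unfold genGroup
    rw [Subgroup.closure_le]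
    rintro _ ⟨j, hj, rfl⟩
    by_cases hjk : j < k'
    · exact hHK (Subgroup.subset_closure ⟨j, hjk, rfl⟩)
    · exact Subgroup.subset_closure ⟨j, ⟨not_lt.mp hjk, hj⟩, rfl⟩
  · apply Subgroup.closure_mono
    apply Set.image_mono
    intro j hj; exact hj.2

variable (w m)

/-- Boolean check of the classes of the points `≠ α` under the first `k1` generators: the word
read off the forest `svS` maps the representative of the class of `x` to `x` -/
def clsCheck (n : ℕ) (cs cis : List ℕ) (k1 α : ℕ) (reps : List ℕ) (clsP svS fuelS : ℕ) : Bool :=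
  decide (k1 ≤ cs.length) && reps.all (fun r => decide (r < n)) &&
  (List.range n).all fun x => (x == α) ||
    (decide (0 < dig 4 15 clsP x) && decide (dig 4 15 clsP x ≤ reps.length) &&
     lettersLt k1 (svWord w m cis svS fuelS x) &&
     (appWord w m cs (svWord w m cis svS fuelS x) (reps.getD (dig 4 15 clsP x - 1) 0) == x))

variable {w m}

theorem clsCheck_sound {n : ℕ} {cs cis : List ℕ} (hv : allValid w m n cs cis = true)
    {k1 α : ℕ} {reps : List ℕ} {clsP svS fuelS : ℕ}
    (h : clsCheck w m n cs cis k1 α reps clsP svS fuelS = true) (x : Fin n) (hx : x.val ≠ α) :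
    ∃ i, i < reps.length ∧ dig 4 15 clsP x.val = i + 1 ∧
      ∃ hr : reps.getD i 0 < n, ∃ g ∈ genGroup (genOf w m n cs cis) k1,
        g ⟨reps.getD i 0, hr⟩ = x := by
  unfold clsCheck at h
  simp only [Bool.and_eq_true, decide_eq_true_eq, List.all_eq_true, List.mem_range,
    Bool.or_eq_true, beq_iff_eq] at h
  obtain ⟨⟨hkl, hreps⟩, h⟩ := h
  rcases h x.val x.isLt with h | ⟨⟨⟨h1, h2⟩, h3⟩, h4⟩
  · exact absurd h hx
  · refine ⟨dig 4 15 clsP x.val - 1, by omega, by omega, ?_⟩
    have hr : reps.getD (dig 4 15 clsP x.val - 1) 0 < n := by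
      apply hreps
      rw [List.getD_eq_getElem _ _ (by omega : dig 4 15 clsP x.val - 1 < reps.length)]
      exact List.getElem_mem _
    have h3' := lettersLt_spec h3
    refine ⟨hr, wprod (genOf w m n cs cis) (svWord w m cis svS fuelS x.val),
      wprod_mem _ k1 _ h3', ?_⟩
    apply Fin.ext
    rw [wprod_apply hv _ (fun j hj => lt_of_lt_of_le (h3' j hj) hkl)]
    exact h4

variable (w m)

/-- pointwise test that the generator `j` acts as the word `l` -/
def wordPt (cs : List ℕ) (j : ℕ) (l : List ℕ) (x : ℕ) : Bool :=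
  dig w m (cs.getD j 0) x == appWord w m cs l x

variable {w m}

theorem genOf_eq_wprod {n : ℕ} {cs cis : List ℕ} (hv : allValid w m n cs cis = true) (j : ℕ)
    (hj : j < cs.length) (l : List ℕ) (hl : ∀ i ∈ l, i < cs.length)
    (h : ∀ x, x < n → wordPt w m cs j l x = true) :
    genOf w m n cs cis j = wprod (genOf w m n cs cis) l := by
  apply Equiv.ext
  intro x
  apply Fin.ext
  rw [genOf_apply hv j hj, wprod_apply hv l hl]
  exact beq_iff_eq.mp (h x.val x.isLt)

theorem wprod_mem_of_forall {n : ℕ} (gen : ℕ → Equiv.Perm (Fin n))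
    (A : Subgroup (Equiv.Perm (Fin n))) (l : List ℕ) (hl : ∀ j ∈ l, gen j ∈ A) :
    wprod gen l ∈ A := by
  unfold wprod
  apply Subgroup.list_prod_mem
  intro x hx
  rw [List.mem_map] at hx
  obtain ⟨j, hj, rfl⟩ := hx
  exact hl j hj

end sv

end Cfsg.Agent.Helper56.PermW
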