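import Cfsg.Agent.Helper56.PermW2

/-!
# Fused, kernel-friendly versions of the graph checks of `PermW`

The neighbour list of `v` is `digitsOf w m d (nbc v)` for a packed code `nbc v`; the checks below
run over the digits of the code directly, with the primitive `Nat` operations only.
-/

set_option autoImplicit false

namespace Cfsg.Agent.Helper56.PermW

open Cfsg.Agent.Helper56

/-- join chunks of `k` bits (first chunk lowest) -/
def joinChunks (k : ℕ) (l : List ℕ) : ℕ :=
  l.foldr (fun c acc => Nat.add (Nat.shiftLeft acc k) c) 0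

theorem strictIncr_of_pairwise : ∀ l : List ℕ, l.Pairwise (· < ·) → strictIncr l = true
  | [], _ => rfl
  | [_], _ => rfl
  | x :: y :: l, h => by
    rw [List.pairwise_cons] at h
    simp only [strictIncr, Bool.and_eq_true, decide_eq_true_eq]
    exact ⟨h.1 y List.mem_cons_self, strictIncr_of_pairwise (y :: l) h.2⟩

section fused

variable (w m : ℕ)

/-- fused OR of `1 <<< f x` over the digits `x` of `e` -/
def maskMap (f : ℕ → ℕ) : ℕ → ℕ → ℕ → ℕ
  | 0, _, acc => acc
  | d + 1, e, acc =>
    maskMap f d (Nat.shiftRight e w) (Nat.lor acc (Nat.shiftLeft 1 (f (Nat.land e m))))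

theorem testBit_maskMap (f : ℕ → ℕ) (y : ℕ) : ∀ (d e acc : ℕ),
    (maskMap w m f d e acc).testBit y = true ↔
      acc.testBit y = true ∨ y ∈ (digitsOf w m d e).map f
  | 0, e, acc => by simp [maskMap, digitsOf]
  | d + 1, e, acc => by
    have ih := testBit_maskMap f y d (Nat.shiftRight e w)
      (Nat.lor acc (Nat.shiftLeft 1 (f (Nat.land e m))))
    have h0 : maskMap w m f (d + 1) e acc = maskMap w m f d (Nat.shiftRight e w)
      (Nat.lor acc (Nat.shiftLeft 1 (f (Nat.land e m)))) := rfl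
    rw [h0, ih]
    have h1 : Nat.lor acc (Nat.shiftLeft 1 (f (Nat.land e m))) = acc ||| (1 <<< f (e &&& m)) := rfl
    have h2 : digitsOf w m (d + 1) e = (e &&& m) :: digitsOf w m d (e >>> w) := rfl
    have h3 : Nat.shiftRight e w = e >>> w := rfl
    rw [h1, h2, h3, Nat.testBit_or, Bool.or_eq_true, Nat.one_shiftLeft, Nat.testBit_two_pow,
      List.map_cons, List.mem_cons]
    simp only [decide_eq_true_eq]
    constructor
    · rintro ((h | h) | h)
      · left; exact h
      · right; left; exact h.symm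
      · right; right; exact h
    · rintro (h | h | h)
      · left; left; exact h
      · left; right; exact h.symm
      · right; exact h

/-- fused invariance test at `v` -/
def invPtF (nbc : ℕ → ℕ) (d c v : ℕ) : Bool :=
  Nat.beq (maskMap w m (fun x => x) d (nbc (dig w m c v)) 0)
    (maskMap w m (dig w m c) d (nbc v) 0)

theorem invPt_of_F {nb : ℕ → List ℕ} {nbc : ℕ → ℕ} {d : ℕ}
    (hnb : ∀ v, nb v = digitsOf w m d (nbc v)) (c v : ℕ) (h : invPtF w m nbc d c v = true) :
    invPt nb w m c v = true := by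
  unfold invPtF at h
  have h' := Nat.eq_of_beq_eq_true h
  unfold invPt
  rw [beq_iff_eq]
  apply Nat.eq_of_testBit_eq
  intro y
  rw [Bool.eq_iff_iff, testBit_maskOf, testBit_maskOf, hnb, hnb]
  have e1 := testBit_maskMap w m (fun x => x) y d (nbc (dig w m c v)) 0
  have e2 := testBit_maskMap w m (dig w m c) y d (nbc v) 0
  rw [h'] at e1
  simp only [Nat.zero_testBit, Bool.false_eq_true, false_or, List.map_id'] at e1 e2
  rw [← e1, e2]

/-- fused test: the digits are strictly increasing, `≥ lo` and `< n` -/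
def incrDig (n : ℕ) : ℕ → ℕ → ℕ → Bool
  | 0, _, _ => true
  | d + 1, e, lo =>
    Nat.ble lo (Nat.land e m) && (Nat.ble (Nat.succ (Nat.land e m)) n &&
      incrDig n d (Nat.shiftRight e w) (Nat.succ (Nat.land e m)))

theorem incrDig_spec (n : ℕ) : ∀ (d e lo : ℕ), incrDig w m n d e lo = true →
    (∀ x ∈ digitsOf w m d e, lo ≤ x ∧ x < n) ∧ (digitsOf w m d e).Pairwise (· < ·)
  | 0, e, lo, _ => by simp [digitsOf]
  | d + 1, e, lo, h => by
    have h0 : incrDig w m n (d + 1) e lo = (Nat.ble lo (Nat.land e m) &&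
      (Nat.ble (Nat.succ (Nat.land e m)) n &&
        incrDig w m n d (Nat.shiftRight e w) (Nat.succ (Nat.land e m)))) := rfl
    rw [h0, Bool.and_eq_true, Bool.and_eq_true] at h
    obtain ⟨h1, h2, h3⟩ := h
    have h1' : lo ≤ Nat.land e m := Nat.le_of_ble_eq_true h1
    have h2' : Nat.succ (Nat.land e m) ≤ n := Nat.le_of_ble_eq_true h2
    obtain ⟨ih1, ih2⟩ := incrDig_spec n d (Nat.shiftRight e w) (Nat.succ (Nat.land e m)) h3
    have hd : digitsOf w m (d + 1) e = Nat.land e m :: digitsOf w m d (Nat.shiftRight e w) := rfl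
    rw [hd]
    constructor
    · intro x hx
      rcases List.mem_cons.mp hx with rfl | hx
      · exact ⟨h1', h2'⟩
      · have := ih1 x hx
        exact ⟨by omega, this.2⟩
    · rw [List.pairwise_cons]
      refine ⟨?_, ih2⟩
      intro x hx
      have := ih1 x hx
      omega

theorem graphPt_of_F {n : ℕ} {nb : ℕ → List ℕ} {nbc : ℕ → ℕ} {d : ℕ}
    (hnb : ∀ v, nb v = digitsOf w m d (nbc v)) (v : ℕ)
    (h : incrDig w m n d (nbc v) 0 = true) : graphPt n nb v = true := by
  obtain ⟨h1, h2⟩ := incrDig_spec w m n d (nbc v) 0 h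
  unfold graphPt
  rw [hnb, Bool.and_eq_true, List.all_eq_true]
  refine ⟨?_, strictIncr_of_pairwise _ h2⟩
  intro x hx
  exact decide_eq_true (h1 x hx).2

/-- fused sum of `f x` over the digits `x` of `e` -/
def sumMap (f : ℕ → ℕ) : ℕ → ℕ → ℕ → ℕ
  | 0, _, acc => acc
  | d + 1, e, acc => sumMap f d (Nat.shiftRight e w) (Nat.add acc (f (Nat.land e m)))

theorem sumMap_eq (f : ℕ → ℕ) : ∀ (d e acc : ℕ),
    sumMap w m f d e acc = acc + ((digitsOf w m d e).map f).sum
  | 0, e, acc => by simp [sumMap, digitsOf]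
  | d + 1, e, acc => by
    have h0 : sumMap w m f (d + 1) e acc =
      sumMap w m f d (Nat.shiftRight e w) (Nat.add acc (f (Nat.land e m))) := rfl
    have hd : digitsOf w m (d + 1) e = Nat.land e m :: digitsOf w m d (Nat.shiftRight e w) := rfl
    rw [h0, sumMap_eq f d, hd, List.map_cons, List.sum_cons]
    show acc + f (Nat.land e m) + _ = _
    rw [Nat.add_assoc]

/-- fused refinement test at `v` -/
def roundPtF (nbc : ℕ → ℕ) (d : ℕ) (gcol : ℕ → ℕ) (Ff : ℕ → ℕ → ℕ) (col col' : ℕ → ℕ)
    (v : ℕ) : Bool :=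
  Nat.beq (col' v) (Ff (col v) (sumMap w m gcol d (nbc v) 0))

theorem roundPt_of_F {nb : ℕ → List ℕ} {nbc : ℕ → ℕ} {d : ℕ}
    (hnb : ∀ v, nb v = digitsOf w m d (nbc v)) (gf : ℕ → ℕ) (Ff : ℕ → ℕ → ℕ) (col col' : ℕ → ℕ)
    (v : ℕ) (h : roundPtF w m nbc d (fun u => gf (col u)) Ff col col' v = true) :
    roundPt nb gf Ff col col' v = true := by
  unfold roundPtF at h
  have h' := Nat.eq_of_beq_eq_true h
  unfold roundPt
  rw [beq_iff_eq, h', sumMap_eq, Nat.zero_add, hnb]

end fused

end Cfsg.Agent.Helper56.PermW
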