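import Cfsg.Agent.Helper56.PermW3

/-!
# Cheaper certificates for dense graphs

* `pattPt` / `patt_invariant` : a refinement round which only looks at the adjacency to the base
  points (through the neighbour masks of the base points).
* `applyNet` : a bit-permutation network (`stage` = delta swap in and/or/shift form); it is additive
  for `|||`, so a permutation `σ` with `applyNet net (1 <<< u) = 1 <<< σ u` moves neighbour masks as
  `σ` moves neighbour lists: invariance of the graph is then checked on masks (`invPt_of_net`).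
-/

set_option autoImplicit false

namespace Cfsg.Agent.Helper56.PermW

open Cfsg.Agent.Helper56

section patt

variable {n : ℕ} {nb : ℕ → List ℕ}

/-- adjacency pattern of `v` to the vertices whose neighbour masks are listed -/
def patt : List ℕ → ℕ → ℕ
  | [], _ => 0
  | M :: rest, v => Nat.add (Nat.mul 2 (patt rest v)) (cond (Nat.testBit M v) 1 0)

/-- refinement by the adjacency pattern to the base points -/
def pattPt (masks : List ℕ) (Ff : ℕ → ℕ → ℕ) (col col' : ℕ → ℕ) (v : ℕ) : Bool :=
  Nat.beq (col' v) (Ff (col v) (patt masks v))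

theorem patt_congr (nbf : ℕ → List ℕ) (B : List ℕ) (v v' : ℕ)
    (h : ∀ b ∈ B, (v ∈ nbf b ↔ v' ∈ nbf b)) :
    patt (B.map fun b => maskOf (nbf b)) v = patt (B.map fun b => maskOf (nbf b)) v' := by
  induction B with
  | nil => rfl
  | cons b B ih =>
    have ih' := ih (fun b' hb' => h b' (List.mem_cons_of_mem _ hb'))
    have hb := h b List.mem_cons_self
    have e : (maskOf (nbf b)).testBit v = (maskOf (nbf b)).testBit v' := by
      rw [Bool.eq_iff_iff, testBit_maskOf, testBit_maskOf]; exact hb
    show Nat.add (Nat.mul 2 (patt _ v)) (cond ((maskOf (nbf b)).testBit v) 1 0) =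
      Nat.add (Nat.mul 2 (patt _ v')) (cond ((maskOf (nbf b)).testBit v') 1 0)
    rw [ih', e]

theorem patt_invariant {B : List ℕ} {Ff : ℕ → ℕ → ℕ} {col col' : ℕ → ℕ}
    (hB : ∀ b ∈ B, b < n)
    (h : ∀ v, v < n → pattPt (B.map fun b => maskOf (nb b)) Ff col col' v = true)
    (σ : Equiv.Perm (Fin n)) (hσ : σ ∈ autGroup n nb)
    (hfix : ∀ b ∈ B, ∀ hb : b < n, σ ⟨b, hb⟩ = ⟨b, hb⟩)
    (hinv : ∀ v : Fin n, col (σ v).val = col v.val) (v : Fin n) :
    col' (σ v).val = col' v.val := by
  unfold pattPt at h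
  have h1 := Nat.eq_of_beq_eq_true (h (σ v).val (σ v).isLt)
  have h2 := Nat.eq_of_beq_eq_true (h v.val v.isLt)
  rw [h1, h2, hinv v]
  congr 1
  apply patt_congr
  intro b hb
  have hbn := hB b hb
  have hadj := hσ ⟨b, hbn⟩ v
  rw [hfix b hb hbn] at hadj
  exact hadj.symm

end patt

section net

/-- one stage: the bits of `m` move up by `s`, the bits of `m <<< s` move down, `keep` stays -/
def stage (keep m s x : ℕ) : ℕ :=
  Nat.lor (Nat.lor (Nat.land x keep) (Nat.shiftLeft (Nat.land x m) s)) (Nat.land (Nat.shiftRight x s) m)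

/-- a network of stages -/
def applyNet : List (ℕ × ℕ × ℕ) → ℕ → ℕ
  | [], x => x
  | (keep, m, s) :: rest, x => applyNet rest (stage keep m s x)

theorem stage_or (keep m s x y : ℕ) :
    stage keep m s (x ||| y) = stage keep m s x ||| stage keep m s y := by
  have e : ∀ z, stage keep m s z = ((z &&& keep) ||| ((z &&& m) <<< s)) ||| ((z >>> s) &&& m) :=
    fun _ => rfl
  rw [e, e, e]
  apply Nat.eq_of_testBit_eq
  intro i
  simp only [Nat.testBit_or, Nat.testBit_and, Nat.testBit_shiftLeft, Nat.testBit_shiftRight]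
  generalize x.testBit i = a1
  generalize y.testBit i = a2
  generalize keep.testBit i = a3
  generalize decide (i ≥ s) = a4
  generalize x.testBit (i - s) = a5
  generalize y.testBit (i - s) = a6
  generalize m.testBit (i - s) = a7
  generalize x.testBit (s + i) = a8
  generalize y.testBit (s + i) = a9
  generalize m.testBit i = a10
  revert a1 a2 a3 a4 a5 a6 a7 a8 a9 a10
  decide

theorem stage_zero (keep m s : ℕ) : stage keep m s 0 = 0 := by
  have e : stage keep m s 0 = ((0 &&& keep) ||| ((0 &&& m) <<< s)) ||| ((0 >>> s) &&& m) := rfl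
  rw [e]
  simp

theorem applyNet_or : ∀ (net : List (ℕ × ℕ × ℕ)) (x y : ℕ),
    applyNet net (x ||| y) = applyNet net x ||| applyNet net y
  | [], _, _ => rfl
  | (keep, m, s) :: rest, x, y => by
    show applyNet rest (stage keep m s (x ||| y)) = _
    rw [stage_or, applyNet_or rest]
    rfl

theorem applyNet_zero : ∀ (net : List (ℕ × ℕ × ℕ)), applyNet net 0 = 0
  | [] => rfl
  | (keep, m, s) :: rest => by
    show applyNet rest (stage keep m s 0) = 0
    rw [stage_zero, applyNet_zero rest]

theorem applyNet_maskOf (net : List (ℕ × ℕ × ℕ)) (σ : ℕ → ℕ) (l : List ℕ)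
    (h : ∀ u ∈ l, applyNet net (1 <<< u) = 1 <<< σ u) :
    applyNet net (maskOf l) = maskOf (l.map σ) := by
  induction l with
  | nil => exact applyNet_zero net
  | cons x l ih =>
    have e1 : maskOf (x :: l) = maskOf l ||| (1 <<< x) := rfl
    have e2 : maskOf ((x :: l).map σ) = maskOf (l.map σ) ||| (1 <<< σ x) := rfl
    rw [e1, e2, applyNet_or, ih (fun u hu => h u (List.mem_cons_of_mem _ hu)),
      h x List.mem_cons_self]

variable (w m : ℕ)

/-- the network moves the bit `u` as the coded permutation does -/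
def netPt1 (net : List (ℕ × ℕ × ℕ)) (c u : ℕ) : Bool :=
  Nat.beq (applyNet net (Nat.shiftLeft 1 u)) (Nat.shiftLeft 1 (dig w m c u))

/-- the network maps the neighbour mask of `v` to that of its image -/
def netPt2 (net : List (ℕ × ℕ × ℕ)) (rowm : ℕ → ℕ) (c v : ℕ) : Bool :=
  Nat.beq (applyNet net (rowm v)) (rowm (dig w m c v))

/-- `rowm v` is the mask of the packed neighbour list -/
def rowPt (rowm nbc : ℕ → ℕ) (d v : ℕ) : Bool :=
  Nat.beq (rowm v) (maskMap w m (fun x => x) d (nbc v) 0)

variable {w m}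

theorem rowm_eq {nb : ℕ → List ℕ} {rowm nbc : ℕ → ℕ} {d : ℕ}
    (hnb : ∀ v, nb v = digitsOf w m d (nbc v)) (v : ℕ) (h : rowPt w m rowm nbc d v = true) :
    rowm v = maskOf (nb v) := by
  unfold rowPt at h
  rw [Nat.eq_of_beq_eq_true h]
  apply Nat.eq_of_testBit_eq
  intro y
  rw [Bool.eq_iff_iff, testBit_maskOf, hnb]
  have e := testBit_maskMap w m (fun x => x) y d (nbc v) 0
  simp only [Nat.zero_testBit, Bool.false_eq_true, false_or, List.map_id'] at e
  exact e

theorem invPt_of_net {n : ℕ} {nb : ℕ → List ℕ} {rowm nbc : ℕ → ℕ} {d : ℕ}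
    (hG : GraphOK n nb) (hnb : ∀ v, nb v = digitsOf w m d (nbc v)) {c ci : ℕ}
    (hv : validCode w m n c ci = true) (net : List (ℕ × ℕ × ℕ))
    (h1 : ∀ u, u < n → netPt1 w m net c u = true)
    (h2 : ∀ v, v < n → netPt2 w m net rowm c v = true)
    (h3 : ∀ v, v < n → rowPt w m rowm nbc d v = true) :
    ∀ v, v < n → invPt nb w m c v = true := by
  intro v hvn
  have hcv : dig w m c v < n := (validCode_spec hv v hvn).1
  unfold invPt
  rw [beq_iff_eq, ← rowm_eq hnb (dig w m c v) (h3 _ hcv),
    ← Nat.eq_of_beq_eq_true (h2 v hvn), rowm_eq hnb v (h3 v hvn)]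
  apply applyNet_maskOf
  intro u hu
  have hun : u < n := (graphOK_spec n nb hG v hvn).1 u hu
  exact Nat.eq_of_beq_eq_true (h1 u hun)

end net

end Cfsg.Agent.Helper56.PermW
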