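import Mathlib

/-!
# The equation `q ^ n - 1 = p ^ b` for primes `p`, `q`

Elementary case analysis (no Zsigmondy): if `q ^ n = p ^ b + 1` with `p`, `q` prime and `1 ≤ n` then
`q = 2 ∧ b ≤ 1`, or `p = 2 ∧ n = 1`, or `p = 2 ∧ q = 3 ∧ n = 2`.
-/

set_option autoImplicit false

namespace Cfsg.Agent.Helper56

/-- for `x ≥ 1`, `x ^ (2c+1) = x + (x^2 - 1) * t` for some `t` -/
theorem pow_odd_eq (x c : ℕ) (hx : 1 ≤ x) : ∃ t, x ^ (2 * c + 1) = x + (x ^ 2 - 1) * t := by
  obtain ⟨y, hy⟩ : ∃ y, x ^ 2 = y + 1 := ⟨x ^ 2 - 1, by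
    have : 1 ≤ x ^ 2 := Nat.one_le_pow _ _ hx
    omega⟩
  have hy' : x ^ 2 - 1 = y := by omega
  rw [hy']
  induction c with
  | zero => exact ⟨0, by simp⟩
  | succ c ih =>
    obtain ⟨t, ht⟩ := ih
    refine ⟨x + x ^ 2 * t, ?_⟩
    have : x ^ (2 * (c + 1) + 1) = x ^ 2 * x ^ (2 * c + 1) := by ring
    rw [this, ht, hy]
    ring

theorem odd_dvd_two_pow {m n : ℕ} (hm : Odd m) (h : m ∣ 2 ^ n) : m = 1 := by
  obtain ⟨j, _, rfl⟩ := (Nat.dvd_prime_pow Nat.prime_two).1 h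
  rcases j with _ | j
  · simp
  · exfalso
    rw [pow_succ] at hm
    exact (Nat.not_even_iff_odd.2 hm) (even_two.mul_left _)

/-- `p ^ b + 1 = 2 ^ n`, `p` odd, `b` odd: then `b = 1` -/
theorem exp_eq_one_of_pow_add_one {p c n : ℕ} (hp2 : 2 ≤ p) (hpodd : Odd p)
    (h : p ^ (2 * c + 1) + 1 = 2 ^ n) : c = 0 := by
  obtain ⟨t, ht⟩ := pow_odd_eq p c (by omega)
  obtain ⟨r, hr⟩ : ∃ r, p = r + 1 := ⟨p - 1, by omega⟩
  have hsq : p ^ 2 - 1 = r * (p + 1) := by
    have : p ^ 2 = r * (p + 1) + 1 := by rw [hr]; ring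
    omega
  have hfac : p ^ (2 * c + 1) + 1 = (p + 1) * (1 + r * t) := by
    rw [ht, hsq]; ring
  have hodd : Odd (1 + r * t) := by
    have hr_even : Even r := by
      rcases hpodd with ⟨k, hk⟩
      exact ⟨k, by omega⟩
    exact odd_one.add_even (hr_even.mul_right t)
  have hdvd : (1 + r * t) ∣ 2 ^ n := ⟨p + 1, by rw [← h, hfac]; ring⟩
  have h1 := odd_dvd_two_pow hodd hdvd
  have hrt : r * t = 0 := by omega
  have hpow : p ^ (2 * c + 1) = p ^ 1 := by
    rw [ht, hsq, mul_assoc, mul_comm (p + 1), ← mul_assoc, hrt]; simp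
  have := Nat.pow_right_injective hp2 hpow
  omega

/-- `q ^ n = 2 ^ b + 1`, `q` odd, `n` odd: then `n = 1` -/
theorem exp_eq_one_of_pow_sub_one {q c b : ℕ} (hq2 : 2 ≤ q) (hqodd : Odd q)
    (h : q ^ (2 * c + 1) = 2 ^ b + 1) : c = 0 := by
  obtain ⟨t, ht⟩ := pow_odd_eq q c (by omega)
  obtain ⟨r, hr⟩ : ∃ r, q = r + 1 := ⟨q - 1, by omega⟩
  have hsq : q ^ 2 - 1 = r * (q + 1) := by
    have : q ^ 2 = r * (q + 1) + 1 := by rw [hr]; ring
    omega
  have hfac : 2 ^ b = r * (1 + (q + 1) * t) := by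
    have : q ^ (2 * c + 1) = r * (1 + (q + 1) * t) + 1 := by
      rw [ht, hsq]; nth_rewrite 1 [hr]; ring
    omega
  have hodd : Odd (1 + (q + 1) * t) := by
    have : Even (q + 1) := hqodd.add_one
    exact odd_one.add_even (this.mul_right t)
  have hdvd : (1 + (q + 1) * t) ∣ 2 ^ b := ⟨r, by rw [hfac]; ring⟩
  have h1 := odd_dvd_two_pow hodd hdvd
  have hrt : (q + 1) * t = 0 := by omega
  have ht0 : t = 0 := by
    rcases Nat.mul_eq_zero.1 hrt with h | h
    · omega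
    · exact h
  have hpow : q ^ (2 * c + 1) = q ^ 1 := by
    rw [ht, ht0]; simp
  have := Nat.pow_right_injective hq2 hpow
  omega

theorem odd_sq_mod_four {x : ℕ} (hx : Odd x) : x ^ 2 % 4 = 1 := by
  obtain ⟨k, rfl⟩ := hx
  have : (2 * k + 1) ^ 2 = 4 * (k * (k + 1)) + 1 := by ring
  rw [this]; omega

theorem two_pow_mod_four {n : ℕ} (hn : 2 ≤ n) : 2 ^ n % 4 = 0 := by
  obtain ⟨m, rfl⟩ : ∃ m, n = m + 2 := ⟨n - 2, by omega⟩
  rw [pow_add]; norm_num

/-- `p ^ (2c) + 1 = 2 ^ n` with `p` odd forces `c = 0` -/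
theorem exp_eq_zero_of_sq_add_one {p c n : ℕ} (hp2 : 2 ≤ p) (hpodd : Odd p)
    (h : p ^ (2 * c) + 1 = 2 ^ n) : c = 0 := by
  have hx : Odd (p ^ c) := hpodd.pow
  have h4 := odd_sq_mod_four hx
  rw [← pow_mul, mul_comm] at h4
  have hmod : 2 ^ n % 4 = 2 := by rw [← h]; omega
  have hn : n = 1 := by
    by_contra hne
    rcases Nat.lt_or_ge n 2 with h2 | h2
    · have : n = 0 := by omega
      subst this
      simp at hmod
    · rw [two_pow_mod_four h2] at hmod; omega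
  subst hn
  have : p ^ (2 * c) = 1 := by omega
  by_contra hc
  have : 1 < p ^ (2 * c) := Nat.one_lt_pow (by omega) (by omega)
  omega

/-- `q ^ (2c) = 2 ^ b + 1` with `q` an odd prime and `c ≥ 1` forces `q = 3`, `c = 1` -/
theorem eq_three_of_sq_sub_one {q c b : ℕ} (hq : q.Prime) (hqodd : Odd q) (hc : 1 ≤ c)
    (h : q ^ (2 * c) = 2 ^ b + 1) : q = 3 ∧ c = 1 := by
  set x := q ^ c with hx
  have hx3 : 3 ≤ x := by
    have h2 : 2 ≤ q := hq.two_le
    have hq3 : 3 ≤ q := by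
      rcases hqodd with ⟨k, hk⟩
      omega
    calc 3 ≤ q := hq3
      _ = q ^ 1 := (pow_one q).symm
      _ ≤ q ^ c := Nat.pow_le_pow_right (by omega) hc
  have hfac : (x - 1) * (x + 1) = 2 ^ b := by
    have : x ^ 2 = 2 ^ b + 1 := by rw [hx, ← pow_mul, mul_comm]; exact h
    obtain ⟨r, hr⟩ : ∃ r, x = r + 1 := ⟨x - 1, by omega⟩
    have : (r + 1) ^ 2 = 2 ^ b + 1 := by rw [← hr]; exact this
    have h2 : x - 1 = r := by omega
    rw [h2, hr]
    have : (r + 1) ^ 2 = r * (r + 1 + 1) + 1 := by ring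
    omega
  obtain ⟨i, _, hi⟩ := (Nat.dvd_prime_pow Nat.prime_two).1 ⟨x + 1, hfac.symm⟩
  obtain ⟨j, _, hj⟩ := (Nat.dvd_prime_pow Nat.prime_two).1 ⟨x - 1, by rw [← hfac]; exact mul_comm _ _⟩
  -- 2^j = 2^i + 2
  have hij : 2 ^ j = 2 ^ i + 2 := by omega
  have hi1 : i = 1 := by
    by_contra hne
    rcases Nat.lt_or_ge i 2 with h2 | h2
    · have : i = 0 := by omega
      subst this
      simp at hi; omega
    · have h4 : 2 ^ i % 4 = 0 := two_pow_mod_four h2
      have hjm : 2 ^ j % 4 = 2 := by rw [hij]; omega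
      rcases Nat.lt_or_ge j 2 with h3 | h3
      · interval_cases j
        · simp at hij
        · have : 2 ^ i = 0 := by omega
          exact absurd this (by positivity)
      · rw [two_pow_mod_four h3] at hjm; omega
  subst hi1
  have hx3' : x = 3 := by omega
  have hq3 : q = 3 := by
    have : q ∣ 3 := by
      rw [← hx3', hx]; exact dvd_pow_self q (by omega)
    exact (Nat.prime_dvd_prime_iff_eq hq Nat.prime_three).1 this
  refine ⟨hq3, ?_⟩
  subst hq3
  have : 3 ^ c = 3 ^ 1 := by rw [← hx, hx3']; norm_num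
  exact Nat.pow_right_injective (le_refl 2 |>.trans (by norm_num)) this

/-- main case analysis -/
theorem prime_pow_sub_one_cases {p q n b : ℕ} (hp : p.Prime) (hq : q.Prime) (hn : 1 ≤ n)
    (h : q ^ n = p ^ b + 1) :
    (q = 2 ∧ b ≤ 1) ∨ (q ≠ 2 ∧ p = 2 ∧ n = 1) ∨ (p = 2 ∧ q = 3 ∧ n = 2) := by
  by_cases hq2 : q = 2
  · left
    refine ⟨hq2, ?_⟩
    subst hq2
    by_contra hb
    have hb2 : 2 ≤ b := by omega
    -- p is odd
    have hpodd : Odd p := by
      rcases hp.eq_two_or_odd' with rfl | ho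
      · exfalso
        have h1 : Even (2 ^ n) := (Nat.even_pow' (by omega)).2 even_two
        have h2 : Even (2 ^ b) := (Nat.even_pow' (by omega)).2 even_two
        rw [h] at h1
        exact (Nat.not_even_iff_odd.2 (h2.add_one)) h1
      · exact ho
    rcases Nat.even_or_odd' b with ⟨c, rfl | rfl⟩
    · have := exp_eq_zero_of_sq_add_one hp.two_le hpodd h.symm
      omega
    · have := exp_eq_one_of_pow_add_one hp.two_le hpodd h.symm
      omega
  · right
    have hqodd : Odd q := hq.odd_of_ne_two hq2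
    -- p ^ b is even, so p = 2 and b ≥ 1
    have hev : Even (p ^ b) := by
      have : Odd (q ^ n) := hqodd.pow
      rw [h] at this
      by_contra hne
      exact (Nat.not_even_iff_odd.2 this) ((Nat.not_even_iff_odd.1 hne).add_one)
    have hp2 : p = 2 := by
      rcases hp.eq_two_or_odd' with rfl | ho
      · rfl
      · exact absurd hev (Nat.not_even_iff_odd.2 ho.pow)
    subst hp2
    rcases Nat.even_or_odd' n with ⟨c, rfl | rfl⟩
    · right
      obtain ⟨h3, hc⟩ := eq_three_of_sq_sub_one hq hqodd (by omega) h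
      exact ⟨rfl, h3, by omega⟩
    · left
      have := exp_eq_one_of_pow_sub_one hq.two_le hqodd h
      exact ⟨hq2, rfl, by omega⟩

end Cfsg.Agent.Helper56
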