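import Mathlib
import Cfsg.Agent.Helper27.GF4
import Cfsg.Prelude.Def_Classical

/-!
# Vectors of length 6 over the field with four elements, coded by natural numbers (2 bits per entry)
-/

set_option autoImplicit false

namespace Cfsg.Agent.Helper56.Quad

open Cfsg.Agent.Helper27

/-- the concrete field with four elements -/
abbrev K : Type := GF4

/-- the element coded by the two lowest bits of `c` -/
def elt (c : ℕ) : K :=
  if c.testBit 1 = true then (if c.testBit 0 = true then GF4.w2 else GF4.w)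
  else (if c.testBit 0 = true then GF4.o else GF4.z)

theorem elt_xor (a b : ℕ) : elt (a ^^^ b) = elt a + elt b := by
  unfold elt
  rw [Nat.testBit_xor, Nat.testBit_xor]
  cases a.testBit 0 <;> cases a.testBit 1 <;> cases b.testBit 0 <;> cases b.testBit 1 <;> decide

theorem elt_zero : elt 0 = 0 := by decide

theorem elt_and3 (a : ℕ) : elt (a &&& 3) = elt a := by
  unfold elt
  rw [Nat.testBit_and, Nat.testBit_and]
  have h0 : Nat.testBit 3 0 = true := by decide
  have h1 : Nat.testBit 3 1 = true := by decide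
  rw [h0, h1, Bool.and_true, Bool.and_true]

/-- the vector coded by `c` -/
def vecOf (c : ℕ) : Fin 6 → K := fun i => elt (c >>> (2 * i.val))

theorem vecOf_xor (x y : ℕ) : vecOf (x ^^^ y) = vecOf x + vecOf y := by
  funext i
  simp only [vecOf, Pi.add_apply, Nat.shiftRight_xor_distrib, elt_xor]

theorem vecOf_zero : vecOf 0 = 0 := by
  funext i
  simp only [vecOf, Nat.zero_shiftRight, Pi.zero_apply]
  exact elt_zero

/-- the code of a field element -/
def codeE : K → ℕ
  | GF4.z => 0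
  | GF4.o => 1
  | GF4.w => 2
  | GF4.w2 => 3

theorem elt_codeE (a : K) : elt (codeE a) = a := by cases a <;> decide

theorem codeE_lt (a : K) : codeE a < 4 := by cases a <;> decide

/-- six codes packed -/
def pack (a0 a1 a2 a3 a4 a5 : ℕ) : ℕ :=
  a0 ||| (a1 <<< 2) ||| (a2 <<< 4) ||| (a3 <<< 6) ||| (a4 <<< 8) ||| (a5 <<< 10)

/-- the code of a vector -/
def codeV (u : Fin 6 → K) : ℕ :=
  pack (codeE (u 0)) (codeE (u 1)) (codeE (u 2)) (codeE (u 3)) (codeE (u 4)) (codeE (u 5))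

/-- the check behind `codeV_aux` -/
def packOk (a0 a1 a2 a3 a4 a5 : ℕ) : Bool :=
  decide (pack a0 a1 a2 a3 a4 a5 < 4096) && ((pack a0 a1 a2 a3 a4 a5 >>> 0) &&& 3 == a0) &&
    ((pack a0 a1 a2 a3 a4 a5 >>> 2) &&& 3 == a1) && ((pack a0 a1 a2 a3 a4 a5 >>> 4) &&& 3 == a2) &&
    ((pack a0 a1 a2 a3 a4 a5 >>> 6) &&& 3 == a3) && ((pack a0 a1 a2 a3 a4 a5 >>> 8) &&& 3 == a4) &&
    ((pack a0 a1 a2 a3 a4 a5 >>> 10) &&& 3 == a5)

theorem packOk_all : ((List.range 4).all fun a0 => (List.range 4).all fun a1 => (List.range 4).all fun a2 =>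
    (List.range 4).all fun a3 => (List.range 4).all fun a4 => (List.range 4).all fun a5 =>
      packOk a0 a1 a2 a3 a4 a5) = true := by decide +kernel

theorem codeV_aux (a0 a1 a2 a3 a4 a5 : ℕ) (h0 : a0 < 4) (h1 : a1 < 4) (h2 : a2 < 4) (h3 : a3 < 4)
    (h4 : a4 < 4) (h5 : a5 < 4) :
    pack a0 a1 a2 a3 a4 a5 < 4096 ∧ (pack a0 a1 a2 a3 a4 a5 >>> 0) &&& 3 = a0 ∧
      (pack a0 a1 a2 a3 a4 a5 >>> 2) &&& 3 = a1 ∧ (pack a0 a1 a2 a3 a4 a5 >>> 4) &&& 3 = a2 ∧
      (pack a0 a1 a2 a3 a4 a5 >>> 6) &&& 3 = a3 ∧ (pack a0 a1 a2 a3 a4 a5 >>> 8) &&& 3 = a4 ∧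
      (pack a0 a1 a2 a3 a4 a5 >>> 10) &&& 3 = a5 := by
  have h := packOk_all
  simp only [List.all_eq_true, List.mem_range] at h
  have h' := h a0 h0 a1 h1 a2 h2 a3 h3 a4 h4 a5 h5
  unfold packOk at h'
  simp only [Bool.and_eq_true, decide_eq_true_eq, beq_iff_eq] at h'
  obtain ⟨⟨⟨⟨⟨⟨e0, e1⟩, e2⟩, e3⟩, e4⟩, e5⟩, e6⟩ := h'
  exact ⟨e0, e1, e2, e3, e4, e5, e6⟩

theorem codeV_lt (u : Fin 6 → K) : codeV u < 4096 :=
  (codeV_aux _ _ _ _ _ _ (codeE_lt (u 0)) (codeE_lt (u 1)) (codeE_lt (u 2)) (codeE_lt (u 3))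
    (codeE_lt (u 4)) (codeE_lt (u 5))).1

theorem vecOf_codeV (u : Fin 6 → K) : vecOf (codeV u) = u := by
  obtain ⟨_, h0, h1, h2, h3, h4, h5⟩ := codeV_aux _ _ _ _ _ _ (codeE_lt (u 0)) (codeE_lt (u 1))
    (codeE_lt (u 2)) (codeE_lt (u 3)) (codeE_lt (u 4)) (codeE_lt (u 5))
  funext i
  unfold vecOf
  rw [← elt_and3]
  fin_cases i
  · exact (congrArg elt h0).trans (elt_codeE _)
  · exact (congrArg elt h1).trans (elt_codeE _)
  · exact (congrArg elt h2).trans (elt_codeE _)
  · exact (congrArg elt h3).trans (elt_codeE _)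
  · exact (congrArg elt h4).trans (elt_codeE _)
  · exact (congrArg elt h5).trans (elt_codeE _)

/-- multiplication of every entry by `w` -/
def mulw (c : ℕ) : ℕ := ((((c >>> 1) ^^^ c) &&& 0x555) <<< 1) ||| ((c >>> 1) &&& 0x555)

/-- multiplication of every entry by the element coded by `s` -/
def smulCode (s c : ℕ) : ℕ :=
  if s.testBit 1 = true then (if s.testBit 0 = true then mulw c ^^^ c else mulw c)
  else (if s.testBit 0 = true then c else 0)

theorem mulw_ok : ((List.range 4096).all fun c => decide (vecOf (mulw c) = (GF4.w : K) • vecOf c)) = true := by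
  decide +kernel

theorem vecOf_mulw (c : ℕ) (hc : c < 4096) : vecOf (mulw c) = (GF4.w : K) • vecOf c := by
  have h := mulw_ok
  rw [List.all_eq_true] at h
  exact of_decide_eq_true (h c (List.mem_range.mpr hc))

theorem vecOf_smulCode (s c : ℕ) (hc : c < 4096) : vecOf (smulCode s c) = elt s • vecOf c := by
  unfold smulCode elt
  by_cases h1 : s.testBit 1 = true
  · by_cases h0 : s.testBit 0 = true
    · rw [if_pos h1, if_pos h0, if_pos h1, if_pos h0, vecOf_xor, vecOf_mulw c hc]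
      have : (GF4.w2 : K) = GF4.w + 1 := by decide
      rw [this, add_smul, one_smul]
    · rw [if_pos h1, if_neg h0, if_pos h1, if_neg h0, vecOf_mulw c hc]
  · by_cases h0 : s.testBit 0 = true
    · rw [if_neg h1, if_pos h0, if_neg h1, if_pos h0]
      exact (one_smul K _).symm
    · rw [if_neg h1, if_neg h0, if_neg h1, if_neg h0, vecOf_zero]
      exact (zero_smul K _).symm

/-- entrywise squaring (the Frobenius map) -/
def sq (c : ℕ) : ℕ := c ^^^ ((c >>> 1) &&& 0x555)

/-- the multiplication table of the codes -/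
def mulDig (a b : ℕ) : ℕ := (0x9c78e400 >>> (2 * (4 * (a &&& 3) + (b &&& 3)))) &&& 3

theorem elt_mulDig (a b : ℕ) : elt (mulDig a b) = elt a * elt b := by
  have key : ∀ a' < 4, ∀ b' < 4, elt ((0x9c78e400 >>> (2 * (4 * a' + b'))) &&& 3) = elt a' * elt b' := by
    decide
  have ha : a &&& 3 < 4 := Nat.lt_of_le_of_lt Nat.and_le_right (by norm_num)
  have hb : b &&& 3 < 4 := Nat.lt_of_le_of_lt Nat.and_le_right (by norm_num)
  unfold mulDig
  rw [key _ ha _ hb, elt_and3, elt_and3]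

theorem sq_ok : ((List.range 4096).all fun c => (List.range 6).all fun i =>
    decide (elt (sq c >>> (2 * i)) = (elt (c >>> (2 * i))) ^ 2)) = true := by
  decide +kernel

theorem elt_sq (c : ℕ) (hc : c < 4096) (i : ℕ) (hi : i < 6) :
    elt (sq c >>> (2 * i)) = (elt (c >>> (2 * i))) ^ 2 := by
  have h := sq_ok
  rw [List.all_eq_true] at h
  have h2 := h c (List.mem_range.mpr hc)
  rw [List.all_eq_true] at h2
  exact of_decide_eq_true (h2 i (List.mem_range.mpr hi))

/-- one term of the hermitian form -/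
def hermTerm (x y i : ℕ) : ℕ := mulDig (x >>> (2 * i)) (sq y >>> (2 * i))

/-- the code of the value of the hermitian form -/
def hermCode (x y : ℕ) : ℕ :=
  hermTerm x y 0 ^^^ hermTerm x y 1 ^^^ hermTerm x y 2 ^^^ hermTerm x y 3 ^^^ hermTerm x y 4 ^^^ hermTerm x y 5

theorem elt_hermTerm (x y : ℕ) (hy : y < 4096) (i : Fin 6) :
    elt (hermTerm x y i.val) = vecOf x i * (vecOf y i) ^ 2 := by
  unfold hermTerm vecOf
  rw [elt_mulDig, elt_sq y hy i.val i.isLt]

theorem elt_hermCode (x y : ℕ) (hy : y < 4096) :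
    elt (hermCode x y) = Cfsg.hermForm 6 K 2 (vecOf x) (vecOf y) := by
  unfold hermCode Cfsg.hermForm
  rw [Fin.sum_univ_six]
  simp only [elt_xor]
  rw [← elt_hermTerm x y hy 0, ← elt_hermTerm x y hy 1, ← elt_hermTerm x y hy 2, ← elt_hermTerm x y hy 3,
    ← elt_hermTerm x y hy 4, ← elt_hermTerm x y hy 5]
  rfl

/-- the unitary transvection with centre `v`, in codes -/
def tvCode (v x : ℕ) : ℕ := x ^^^ smulCode (hermCode x v) v

theorem vecOf_tvCode (v x : ℕ) (hv : v < 4096) :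
    vecOf (tvCode v x) = vecOf x + (Cfsg.hermForm 6 K 2 (vecOf x) (vecOf v)) • vecOf v := by
  unfold tvCode
  rw [vecOf_xor, vecOf_smulCode _ _ hv, elt_hermCode x v hv]

/-- proportionality of codes -/
def propTo (t u : ℕ) : Bool := (t == u) || (t == mulw u) || (t == (mulw u ^^^ u))

theorem propTo_spec {t u : ℕ} (hu : u < 4096) (h : propTo t u = true) :
    ∃ a : K, a ≠ 0 ∧ vecOf t = a • vecOf u := by
  unfold propTo at h
  rw [Bool.or_eq_true, Bool.or_eq_true] at h
  rcases h with (h | h) | h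
  · refine ⟨1, one_ne_zero, ?_⟩
    rw [beq_iff_eq.mp h, one_smul]
  · refine ⟨GF4.w, by decide, ?_⟩
    rw [beq_iff_eq.mp h, vecOf_mulw u hu]
  · refine ⟨GF4.w2, by decide, ?_⟩
    rw [beq_iff_eq.mp h, vecOf_xor, vecOf_mulw u hu]
    have : (GF4.w2 : K) = GF4.w + 1 := by decide
    rw [this, add_smul, one_smul]

end Cfsg.Agent.Helper56.Quad
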