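import Cfsg.Agent.Helper56.RuGWord1P0

set_option autoImplicit false
set_option maxRecDepth 1000000

namespace Cfsg.Agent.Helper56.Ru

open Cfsg.Agent.Helper56 Cfsg.Agent.Helper56.PermW

theorem wordG1_p2 : rangeAll 1200 1800 (wordPt 12 4095 csG 1 wordG1) = true := by decide +kernel

theorem wordG1_p3 : rangeAll 1800 2400 (wordPt 12 4095 csG 1 wordG1) = true := by decide +kernel

end Cfsg.Agent.Helper56.Ru
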