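import Cfsg.Agent.Helper56.RuGWord3P3

set_option autoImplicit false
set_option maxRecDepth 1000000

namespace Cfsg.Agent.Helper56.Ru

open Cfsg.Agent.Helper56 Cfsg.Agent.Helper56.PermW

theorem wordG3_p8 : rangeAll 3200 3600 (wordPt 12 4095 csG 3 wordG3) = true := by decide +kernel

theorem wordG3_p9 : rangeAll 3600 4000 (wordPt 12 4095 csG 3 wordG3) = true := by decide +kernel

end Cfsg.Agent.Helper56.Ru
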