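import Cfsg.Agent.Helper56.RuGWord3P0
import Cfsg.Agent.Helper56.RuGWord3P1
import Cfsg.Agent.Helper56.RuGWord3P2
import Cfsg.Agent.Helper56.RuGWord3P3
import Cfsg.Agent.Helper56.RuGWord3P4
import Cfsg.Agent.Helper56.RuGWord3P5

set_option autoImplicit false
set_option maxRecDepth 1000000

namespace Cfsg.Agent.Helper56.Ru

open Cfsg.Agent.Helper56 Cfsg.Agent.Helper56.PermW

theorem wordG3_p : ∀ x, x < 4060 → wordPt 12 4095 csG 3 wordG3 x = true :=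
  fun x hx => ptwise2 wordG3_p0 (ptwise2 wordG3_p1 (ptwise2 wordG3_p2 (ptwise2 wordG3_p3 (ptwise2 wordG3_p4 (ptwise2 wordG3_p5 (ptwise2 wordG3_p6 (ptwise2 wordG3_p7 (ptwise2 wordG3_p8 (ptwise2 wordG3_p9 (ptwise1 wordG3_p10)))))))))) x (Nat.zero_le x) hx

end Cfsg.Agent.Helper56.Ru
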