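import Cfsg.Agent.Helper56.RuGWord4P0

set_option autoImplicit false
set_option maxRecDepth 1000000

namespace Cfsg.Agent.Helper56.Ru

open Cfsg.Agent.Helper56 Cfsg.Agent.Helper56.PermW

theorem wordG4_p2 : rangeAll 900 1350 (wordPt 12 4095 csG 4 wordG4) = true := by decide +kernel

theorem wordG4_p3 : rangeAll 1350 1800 (wordPt 12 4095 csG 4 wordG4) = true := by decide +kernel

end Cfsg.Agent.Helper56.Ru
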