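import Cfsg.Agent.Helper56.RuGWord4P2

set_option autoImplicit false
set_option maxRecDepth 1000000

namespace Cfsg.Agent.Helper56.Ru

open Cfsg.Agent.Helper56 Cfsg.Agent.Helper56.PermW

theorem wordG4_p6 : rangeAll 2700 3150 (wordPt 12 4095 csG 4 wordG4) = true := by decide +kernel

theorem wordG4_p7 : rangeAll 3150 3600 (wordPt 12 4095 csG 4 wordG4) = true := by decide +kernel

end Cfsg.Agent.Helper56.Ru
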