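import Cfsg.Agent.Helper56.RuGWord5P0
import Cfsg.Agent.Helper56.RuGWord5P1
import Cfsg.Agent.Helper56.RuGWord5P2

set_option autoImplicit false
set_option maxRecDepth 1000000

namespace Cfsg.Agent.Helper56.Ru

open Cfsg.Agent.Helper56 Cfsg.Agent.Helper56.PermW

theorem wordG5_p : ∀ x, x < 4060 → wordPt 12 4095 csG 5 wordG5 x = true :=
  fun x hx => ptwise2 wordG5_p0 (ptwise2 wordG5_p1 (ptwise2 wordG5_p2 (ptwise2 wordG5_p3 (ptwise1 wordG5_p4)))) x (Nat.zero_le x) hx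

end Cfsg.Agent.Helper56.Ru
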