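import Cfsg.Agent.Helper56.RuGraph
import Cfsg.Agent.Helper56.RuGraphOKP3

set_option autoImplicit false
set_option maxRecDepth 1000000

namespace Cfsg.Agent.Helper56.Ru

open Cfsg.Agent.Helper56 Cfsg.Agent.Helper56.PermW

theorem graph_ok_p16 : rangeAll 1600 1700 (fun v => incrDig 12 4095 4060 1755 (nbc v) 0) = true := by decide +kernel

theorem graph_ok_p17 : rangeAll 1700 1800 (fun v => incrDig 12 4095 4060 1755 (nbc v) 0) = true := by decide +kernel

theorem graph_ok_p18 : rangeAll 1800 1900 (fun v => incrDig 12 4095 4060 1755 (nbc v) 0) = true := by decide +kernel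

theorem graph_ok_p19 : rangeAll 1900 2000 (fun v => incrDig 12 4095 4060 1755 (nbc v) 0) = true := by decide +kernel

end Cfsg.Agent.Helper56.Ru
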