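import Cfsg.Agent.Helper56.RuGraphOKP0
import Cfsg.Agent.Helper56.RuGraphOKP1
import Cfsg.Agent.Helper56.RuGraphOKP2
import Cfsg.Agent.Helper56.RuGraphOKP3
import Cfsg.Agent.Helper56.RuGraphOKP4
import Cfsg.Agent.Helper56.RuGraphOKP5
import Cfsg.Agent.Helper56.RuGraphOKP6
import Cfsg.Agent.Helper56.RuGraphOKP7
import Cfsg.Agent.Helper56.RuGraphOKP8
import Cfsg.Agent.Helper56.RuGraphOKP9
import Cfsg.Agent.Helper56.RuGraphOKP10

set_option autoImplicit false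
set_option maxRecDepth 1000000

namespace Cfsg.Agent.Helper56.Ru

open Cfsg.Agent.Helper56 Cfsg.Agent.Helper56.PermW

theorem graph_ok : ∀ v, v < 4060 → graphPt 4060 nb v = true :=
  fun v hv => graphPt_of_F 12 4095 nb_eq v (ptwise2 graph_ok_p0 (ptwise2 graph_ok_p1 (ptwise2 graph_ok_p2 (ptwise2 graph_ok_p3 (ptwise2 graph_ok_p4 (ptwise2 graph_ok_p5 (ptwise2 graph_ok_p6 (ptwise2 graph_ok_p7 (ptwise2 graph_ok_p8 (ptwise2 graph_ok_p9 (ptwise2 graph_ok_p10 (ptwise2 graph_ok_p11 (ptwise2 graph_ok_p12 (ptwise2 graph_ok_p13 (ptwise2 graph_ok_p14 (ptwise2 graph_ok_p15 (ptwise2 graph_ok_p16 (ptwise2 graph_ok_p17 (ptwise2 graph_ok_p18 (ptwise2 graph_ok_p19 (ptwise2 graph_ok_p20 (ptwise2 graph_ok_p21 (ptwise2 graph_ok_p22 (ptwise2 graph_ok_p23 (ptwise2 graph_ok_p24 (ptwise2 graph_ok_p25 (ptwise2 graph_ok_p26 (ptwise2 graph_ok_p27 (ptwise2 graph_ok_p28 (ptwise2 graph_ok_p29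 (ptwise2 graph_ok_p30 (ptwise2 graph_ok_p31 (ptwise2 graph_ok_p32 (ptwise2 graph_ok_p33 (ptwise2 graph_ok_p34 (ptwise2 graph_ok_p35 (ptwise2 graph_ok_p36 (ptwise2 graph_ok_p37 (ptwise2 graph_ok_p38 (ptwise2 graph_ok_p39 (ptwise1 graph_ok_p40)))))))))))))))))))))))))))))))))))))))) v (Nat.zero_le v) hv)

end Cfsg.Agent.Helper56.Ru
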