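import Cfsg.Agent.Helper56.RuRows
import Cfsg.Agent.Helper56.RuRowP4

set_option autoImplicit false
set_option maxRecDepth 1000000

namespace Cfsg.Agent.Helper56.Ru

open Cfsg.Agent.Helper56 Cfsg.Agent.Helper56.PermW

theorem row_ok_p15 : rangeAll 1500 1600 (rowPt 12 4095 rowm nbc 1755) = true := by decide +kernel

theorem row_ok_p16 : rangeAll 1600 1700 (rowPt 12 4095 rowm nbc 1755) = true := by decide +kernel

theorem row_ok_p17 : rangeAll 1700 1800 (rowPt 12 4095 rowm nbc 1755) = true := by decide +kernel

end Cfsg.Agent.Helper56.Ru
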