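import Cfsg.Agent.Helper56.RuRows
import Cfsg.Agent.Helper56.RuRowP6

set_option autoImplicit false
set_option maxRecDepth 1000000

namespace Cfsg.Agent.Helper56.Ru

open Cfsg.Agent.Helper56 Cfsg.Agent.Helper56.PermW

theorem row_ok_p21 : rangeAll 2100 2200 (rowPt 12 4095 rowm nbc 1755) = true := by decide +kernel

theorem row_ok_p22 : rangeAll 2200 2300 (rowPt 12 4095 rowm nbc 1755) = true := by decide +kernel

theorem row_ok_p23 : rangeAll 2300 2400 (rowPt 12 4095 rowm nbc 1755) = true := by decide +kernel

end Cfsg.Agent.Helper56.Ru
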