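import Cfsg.Agent.Helper56.RuRows
import Cfsg.Agent.Helper56.RuRowP10

set_option autoImplicit false
set_option maxRecDepth 1000000

namespace Cfsg.Agent.Helper56.Ru

open Cfsg.Agent.Helper56 Cfsg.Agent.Helper56.PermW

theorem row_ok_p33 : rangeAll 3300 3400 (rowPt 12 4095 rowm nbc 1755) = true := by decide +kernel

theorem row_ok_p34 : rangeAll 3400 3500 (rowPt 12 4095 rowm nbc 1755) = true := by decide +kernel

theorem row_ok_p35 : rangeAll 3500 3600 (rowPt 12 4095 rowm nbc 1755) = true := by decide +kernel

end Cfsg.Agent.Helper56.Ru
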