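import Cfsg.Agent.Helper56.RuNetA1
import Cfsg.Agent.Helper56.RuNetA2
import Cfsg.Agent.Helper56.RuRow
import Cfsg.Agent.Helper56.RuGraphOK

set_option autoImplicit false
set_option maxRecDepth 1000000

namespace Cfsg.Agent.Helper56.Ru

open Cfsg.Agent.Helper56 Cfsg.Agent.Helper56.PermW

theorem invA : ∀ v, v < 4060 → invPt nb 12 4095 cA v = true :=
  invPt_of_net (show GraphOK 4060 nb from graph_ok) nb_eq validA netA netA1 netA2 row_ok

end Cfsg.Agent.Helper56.Ru
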