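import Cfsg.Agent.Helper56.RuNetB2P0
import Cfsg.Agent.Helper56.RuNetB2P1

set_option autoImplicit false
set_option maxRecDepth 1000000

namespace Cfsg.Agent.Helper56.Ru

open Cfsg.Agent.Helper56 Cfsg.Agent.Helper56.PermW

theorem netB2 : ∀ v, v < 4060 → netPt2 12 4095 netB rowm cB v = true :=
  fun v hv => ptwise2 netB2_p0 (ptwise2 netB2_p1 (ptwise2 netB2_p2 (ptwise1 netB2_p3))) v (Nat.zero_le v) hv

end Cfsg.Agent.Helper56.Ru
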