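import Cfsg.Agent.Helper56.RuTWord0P0

set_option autoImplicit false
set_option maxRecDepth 1000000

namespace Cfsg.Agent.Helper56.Ru

open Cfsg.Agent.Helper56 Cfsg.Agent.Helper56.PermW

theorem wordT0_p : ∀ x, x < 4060 → wordPt 12 4095 csT 0 wordT0 x = true :=
  fun x hx => ptwise1 wordT0_p0 x (Nat.zero_le x) hx

end Cfsg.Agent.Helper56.Ru
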