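import Cfsg.Agent.Helper56.RuTWord3P1

set_option autoImplicit false
set_option maxRecDepth 1000000

namespace Cfsg.Agent.Helper56.Ru

open Cfsg.Agent.Helper56 Cfsg.Agent.Helper56.PermW

theorem wordT3_p4 : rangeAll 4000 4060 (wordPt 12 4095 csT 3 wordT3) = true := by decide +kernel

end Cfsg.Agent.Helper56.Ru
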