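import Cfsg.Agent.Helper56.RuRigid
import Cfsg.Agent.Helper56.RuInvA
import Cfsg.Agent.Helper56.RuInvB
import Cfsg.Agent.Helper56.RuGWord0
import Cfsg.Agent.Helper56.RuGWord1
import Cfsg.Agent.Helper56.RuGWord2
import Cfsg.Agent.Helper56.RuGWord3
import Cfsg.Agent.Helper56.RuGWord4
import Cfsg.Agent.Helper56.RuGWord5
import Cfsg.Agent.Helper56.RuGWord6
import Cfsg.Agent.Helper56.RuTWord0
import Cfsg.Agent.Helper56.RuTWord1
import Cfsg.Agent.Helper56.RuTWord2
import Cfsg.Agent.Helper56.RuTWord3
import Cfsg.Agent.Helper56.RuTWord4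
import Cfsg.Agent.Helper56.RuTWord5
import Cfsg.Agent.Helper56.RuTWord6
import Cfsg.Agent.Helper56.RuTWord7
import Cfsg.Agent.Helper56.RuTWord8
import Cfsg.Agent.Helper56.RuTWord9
import Cfsg.Agent.Helper56.RuTWord10
import Cfsg.Agent.Helper56.RuTWord11

set_option autoImplicit false
set_option maxRecDepth 1000000

namespace Cfsg.Agent.Helper56.Ru

open Cfsg.Agent.Helper56 Cfsg.Agent.Helper56.PermW

/-- the generators of the chain of `Ru` -/
abbrev genG : ℕ → Equiv.Perm (Fin 4060) := genOf 12 4095 4060 csG cisG

/-- the generators of the chain of the Tits group (the last entries are auxiliary) -/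
abbrev genT : ℕ → Equiv.Perm (Fin 4060) := genOf 12 4095 4060 csT cisT

theorem aut_of_word {cs cis : List ℕ} (hv : allValid 12 4095 4060 cs cis = true) (NA : ℕ)
    (hlen : cs.length = NA) (j : ℕ) (hj : j < NA) (l : List ℕ) (hl : lettersLt NA l = true)
    (h : ∀ x, x < 4060 → wordPt 12 4095 cs j l x = true)
    (A : Subgroup (Equiv.Perm (Fin 4060)))
    (hA : ∀ i ∈ l, genOf 12 4095 4060 cs cis i ∈ A) : genOf 12 4095 4060 cs cis j ∈ A := by
  have e := genOf_eq_wprod hv j (by rw [hlen]; exact hj) l
    (by rw [hlen]; exact lettersLt_spec hl) h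
  rw [e]
  exact wprod_mem_of_forall _ A l hA

theorem autA : permOfCode 12 4095 4060 cA cAi ∈ autGroup 4060 nb :=
  mem_autGroup_of_check graphOK validA invA

theorem autB : permOfCode 12 4095 4060 cB cBi ∈ autGroup 4060 nb :=
  mem_autGroup_of_check graphOK validB invB

theorem autG8 : genG 8 ∈ autGroup 4060 nb := autB

theorem autG7 : genG 7 ∈ autGroup 4060 nb := autA

theorem autG6 : genG 6 ∈ autGroup 4060 nb :=
  aut_of_word validG 9 csG_length 6 (by norm_num) wordG6 (by decide) wordG6_p _ (by
    have key : ∀ i ∈ wordG6, i = 7 ∨ i = 8 := by decide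
    intro i hi
    rcases key i hi with rfl | rfl
    · exact autG7
    · exact autG8)

theorem autG5 : genG 5 ∈ autGroup 4060 nb :=
  aut_of_word validG 9 csG_length 5 (by norm_num) wordG5 (by decide) wordG5_p _ (by
    have key : ∀ i ∈ wordG5, i = 7 ∨ i = 8 := by decide
    intro i hi
    rcases key i hi with rfl | rfl
    · exact autG7
    · exact autG8)

theorem autG4 : genG 4 ∈ autGroup 4060 nb :=
  aut_of_word validG 9 csG_length 4 (by norm_num) wordG4 (by decide) wordG4_p _ (by
    have key : ∀ i ∈ wordG4, i = 5 ∨ i = 6 := by decide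
    intro i hi
    rcases key i hi with rfl | rfl
    · exact autG5
    · exact autG6)

theorem autG3 : genG 3 ∈ autGroup 4060 nb :=
  aut_of_word validG 9 csG_length 3 (by norm_num) wordG3 (by decide) wordG3_p _ (by
    have key : ∀ i ∈ wordG3, i = 5 ∨ i = 6 := by decide
    intro i hi
    rcases key i hi with rfl | rfl
    · exact autG5
    · exact autG6)

theorem autG2 : genG 2 ∈ autGroup 4060 nb :=
  aut_of_word validG 9 csG_length 2 (by norm_num) wordG2 (by decide) wordG2_p _ (by
    have key : ∀ i ∈ wordG2, i = 3 ∨ i = 4 := by decide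
    intro i hi
    rcases key i hi with rfl | rfl
    · exact autG3
    · exact autG4)

theorem autG1 : genG 1 ∈ autGroup 4060 nb :=
  aut_of_word validG 9 csG_length 1 (by norm_num) wordG1 (by decide) wordG1_p _ (by
    have key : ∀ i ∈ wordG1, i = 3 ∨ i = 4 := by decide
    intro i hi
    rcases key i hi with rfl | rfl
    · exact autG3
    · exact autG4)

theorem autG0 : genG 0 ∈ autGroup 4060 nb :=
  aut_of_word validG 9 csG_length 0 (by norm_num) wordG0 (by decide) wordG0_p _ (by
    have key : ∀ i ∈ wordG0, i = 1 := by decide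
    intro i hi
    have := key i hi
    subst this
    exact autG1)

theorem genG_aut : ∀ j < csG.length, genG j ∈ autGroup 4060 nb := by
  intro j hj
  rw [csG_length] at hj
  interval_cases j
  · exact autG0
  · exact autG1
  · exact autG2
  · exact autG3
  · exact autG4
  · exact autG5
  · exact autG6
  · exact autG7
  · exact autG8

theorem autT13 : genT 13 ∈ autGroup 4060 nb := autB

theorem autT12 : genT 12 ∈ autGroup 4060 nb := autA

theorem autT11 : genT 11 ∈ autGroup 4060 nb :=
  aut_of_word validT 14 csT_length 11 (by norm_num) wordT11 (by decide) wordT11_p _ (by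
    have key : ∀ i ∈ wordT11, i = 12 ∨ i = 13 := by decide
    intro i hi
    rcases key i hi with rfl | rfl
    · exact autT12
    · exact autT13)

theorem autT10 : genT 10 ∈ autGroup 4060 nb :=
  aut_of_word validT 14 csT_length 10 (by norm_num) wordT10 (by decide) wordT10_p _ (by
    have key : ∀ i ∈ wordT10, i = 12 ∨ i = 13 := by decide
    intro i hi
    rcases key i hi with rfl | rfl
    · exact autT12
    · exact autT13)

theorem autT9 : genT 9 ∈ autGroup 4060 nb :=
  aut_of_word validT 14 csT_length 9 (by norm_num) wordT9 (by decide) wordT9_p _ (by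
    have key : ∀ i ∈ wordT9, i = 10 ∨ i = 11 := by decide
    intro i hi
    rcases key i hi with rfl | rfl
    · exact autT10
    · exact autT11)

theorem autT8 : genT 8 ∈ autGroup 4060 nb :=
  aut_of_word validT 14 csT_length 8 (by norm_num) wordT8 (by decide) wordT8_p _ (by
    have key : ∀ i ∈ wordT8, i = 10 ∨ i = 11 := by decide
    intro i hi
    rcases key i hi with rfl | rfl
    · exact autT10
    · exact autT11)

theorem autT7 : genT 7 ∈ autGroup 4060 nb :=
  aut_of_word validT 14 csT_length 7 (by norm_num) wordT7 (by decide) wordT7_p _ (by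
    have key : ∀ i ∈ wordT7, i = 10 ∨ i = 11 := by decide
    intro i hi
    rcases key i hi with rfl | rfl
    · exact autT10
    · exact autT11)

theorem autT6 : genT 6 ∈ autGroup 4060 nb :=
  aut_of_word validT 14 csT_length 6 (by norm_num) wordT6 (by decide) wordT6_p _ (by
    have key : ∀ i ∈ wordT6, i = 8 ∨ i = 9 := by decide
    intro i hi
    rcases key i hi with rfl | rfl
    · exact autT8
    · exact autT9)

theorem autT5 : genT 5 ∈ autGroup 4060 nb :=
  aut_of_word validT 14 csT_length 5 (by norm_num) wordT5 (by decide) wordT5_p _ (by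
    have key : ∀ i ∈ wordT5, i = 7 := by decide
    intro i hi
    have := key i hi
    subst this
    exact autT7)

theorem autT4 : genT 4 ∈ autGroup 4060 nb :=
  aut_of_word validT 14 csT_length 4 (by norm_num) wordT4 (by decide) wordT4_p _ (by
    have key : ∀ i ∈ wordT4, i = 5 ∨ i = 6 := by decide
    intro i hi
    rcases key i hi with rfl | rfl
    · exact autT5
    · exact autT6)

theorem autT3 : genT 3 ∈ autGroup 4060 nb :=
  aut_of_word validT 14 csT_length 3 (by norm_num) wordT3 (by decide) wordT3_p _ (by
    have key : ∀ i ∈ wordT3, i = 5 ∨ i = 6 := by decide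
    intro i hi
    rcases key i hi with rfl | rfl
    · exact autT5
    · exact autT6)

theorem autT2 : genT 2 ∈ autGroup 4060 nb :=
  aut_of_word validT 14 csT_length 2 (by norm_num) wordT2 (by decide) wordT2_p _ (by
    have key : ∀ i ∈ wordT2, i = 3 ∨ i = 4 := by decide
    intro i hi
    rcases key i hi with rfl | rfl
    · exact autT3
    · exact autT4)

theorem autT1 : genT 1 ∈ autGroup 4060 nb :=
  aut_of_word validT 14 csT_length 1 (by norm_num) wordT1 (by decide) wordT1_p _ (by
    have key : ∀ i ∈ wordT1, i = 3 ∨ i = 4 := by decide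
    intro i hi
    rcases key i hi with rfl | rfl
    · exact autT3
    · exact autT4)

theorem autT0 : genT 0 ∈ autGroup 4060 nb :=
  aut_of_word validT 14 csT_length 0 (by norm_num) wordT0 (by decide) wordT0_p _ (by
    have key : ∀ i ∈ wordT0, i = 1 := by decide
    intro i hi
    have := key i hi
    subst this
    exact autT1)

theorem genT_aut : ∀ j < csT.length, genT j ∈ autGroup 4060 nb := by
  intro j hj
  rw [csT_length] at hj
  interval_cases j
  · exact autT0
  · exact autT1
  · exact autT2
  · exact autT3
  · exact autT4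
  · exact autT5
  · exact autT6
  · exact autT7
  · exact autT8
  · exact autT9
  · exact autT10
  · exact autT11
  · exact autT12
  · exact autT13

/-- the group `Ru` -/
def G0 : Subgroup (Equiv.Perm (Fin 4060)) := Subgroup.closure {genG 7, genG 8}

theorem memA : permOfCode 12 4095 4060 cA cAi ∈ G0 := Subgroup.subset_closure (Or.inl rfl)

theorem memB : permOfCode 12 4095 4060 cB cBi ∈ G0 := Subgroup.subset_closure (Or.inr rfl)

theorem memT13 : genT 13 ∈ G0 := memB

theorem memT12 : genT 12 ∈ G0 := memA

theorem memT11 : genT 11 ∈ G0 :=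
  aut_of_word validT 14 csT_length 11 (by norm_num) wordT11 (by decide) wordT11_p _ (by
    have key : ∀ i ∈ wordT11, i = 12 ∨ i = 13 := by decide
    intro i hi
    rcases key i hi with rfl | rfl
    · exact memT12
    · exact memT13)

theorem memT10 : genT 10 ∈ G0 :=
  aut_of_word validT 14 csT_length 10 (by norm_num) wordT10 (by decide) wordT10_p _ (by
    have key : ∀ i ∈ wordT10, i = 12 ∨ i = 13 := by decide
    intro i hi
    rcases key i hi with rfl | rfl
    · exact memT12
    · exact memT13)

theorem memT9 : genT 9 ∈ G0 :=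
  aut_of_word validT 14 csT_length 9 (by norm_num) wordT9 (by decide) wordT9_p _ (by
    have key : ∀ i ∈ wordT9, i = 10 ∨ i = 11 := by decide
    intro i hi
    rcases key i hi with rfl | rfl
    · exact memT10
    · exact memT11)

theorem memT8 : genT 8 ∈ G0 :=
  aut_of_word validT 14 csT_length 8 (by norm_num) wordT8 (by decide) wordT8_p _ (by
    have key : ∀ i ∈ wordT8, i = 10 ∨ i = 11 := by decide
    intro i hi
    rcases key i hi with rfl | rfl
    · exact memT10
    · exact memT11)

theorem memT7 : genT 7 ∈ G0 :=
  aut_of_word validT 14 csT_length 7 (by norm_num) wordT7 (by decide) wordT7_p _ (by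
    have key : ∀ i ∈ wordT7, i = 10 ∨ i = 11 := by decide
    intro i hi
    rcases key i hi with rfl | rfl
    · exact memT10
    · exact memT11)

theorem memT6 : genT 6 ∈ G0 :=
  aut_of_word validT 14 csT_length 6 (by norm_num) wordT6 (by decide) wordT6_p _ (by
    have key : ∀ i ∈ wordT6, i = 8 ∨ i = 9 := by decide
    intro i hi
    rcases key i hi with rfl | rfl
    · exact memT8
    · exact memT9)

theorem memT5 : genT 5 ∈ G0 :=
  aut_of_word validT 14 csT_length 5 (by norm_num) wordT5 (by decide) wordT5_p _ (by
    have key : ∀ i ∈ wordT5, i = 7 := by decide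
    intro i hi
    have := key i hi
    subst this
    exact memT7)

end Cfsg.Agent.Helper56.Ru
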