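import Cfsg.Agent.Helper56.RuGLevelData0
import Cfsg.Agent.Helper56.RuGLevelData1
import Cfsg.Agent.Helper56.RuGLevelData2
import Cfsg.Agent.Helper56.RuGLevelData3
import Cfsg.Agent.Helper56.RuGLevelData4
import Cfsg.Agent.Helper56.RuGLevel0S7P3

set_option autoImplicit false
set_option maxRecDepth 1000000

namespace Cfsg.Agent.Helper56.Ru

open Cfsg.Agent.Helper56 Cfsg.Agent.Helper56.PermW

theorem lG0_s7_r4000 : walk orbMG0 (schreierOK 12 4095 B csG cisG 7 orbMG0 svG0 6 [(svG1, 6), (svG2, 7), (svG3, 4), (svG4, 1)] 7) (List.range' 4000 60) [158643266791681, 158643266791681, 158659290691922, 158643266791681, 158659306662953, 158644830948020, 158728011488820, 158644830936000, 158645266234114, 158643266791681, 158643891064410, 158643266791681, 158658669092216, 158713565223434, 158643266791681, 158659289315862, 158728009832798, 158643266791681, 158711986383587, 158643266791681, 158643266791681, 158659309145811, 158713982942997, 158643266791681, 158727389277778, 158713565650640, 158643266791681, 158713547762202, 158645266189872, 158712610691936, 158728867835423, 158659291492245, 158643266948157, 158712609492448, 158643266791681, 158713984011888, 158713549081266, 158712608816966, 158643268955405, 158728865614980, 158644828559827,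 158643266791681, 158643266791681, 158643266791681, 158643266791681, 158727390436251, 158643266791681, 158643266791681, 158728011373336, 158659307724050, 158645265086953, 158713566272514, 158727388310371, 158643266791681, 158643266791681, 158643891624647, 158643266791681, 158643266791681, 158643266791681, 158659307334926] = true := by decide +kernel

end Cfsg.Agent.Helper56.Ru
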