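import Cfsg.Agent.Helper56.RuGLevelData0
import Cfsg.Agent.Helper56.RuGLevelData1
import Cfsg.Agent.Helper56.RuGLevelData2
import Cfsg.Agent.Helper56.RuGLevelData3
import Cfsg.Agent.Helper56.RuGLevelData4
import Cfsg.Agent.Helper56.RuGLevel0S8P3

set_option autoImplicit false
set_option maxRecDepth 1000000

namespace Cfsg.Agent.Helper56.Ru

open Cfsg.Agent.Helper56 Cfsg.Agent.Helper56.PermW

theorem lG0_s8_r4000 : walk orbMG0 (schreierOK 12 4095 B csG cisG 7 orbMG0 svG0 6 [(svG1, 6), (svG2, 7), (svG3, 4), (svG4, 1)] 8) (List.range' 4000 60) [158645267455078, 158644844707421, 158643268402893, 158643266791681, 158643266791681, 158712608844458, 158659308693841, 158643266791681, 158713567456185, 158643266791681, 158660145466075, 158645265459702, 158728009764663, 158644829871429, 158643266791681, 158643889135144, 158660148362616, 158644828196338, 158644829654363, 158643266791681, 158643270216258, 158728012385976, 158643891646177, 158712623979012, 158643269446380, 158659292760531, 158643266791681, 158727390637729, 158645263628714, 158643266791681, 158644830543610, 158712608181134, 158712626277197, 158643266791681, 158643269900781, 158643907583116, 158643266791681, 158643266791681, 158727388581079, 158643269168233, 158727390133938,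 158643266791681, 158643266791681, 158643266791681, 158643266791681, 158728864438682, 158643266791681, 158644846714166, 158659293023495, 158658669903760, 158712627850532, 158728028522916, 158713564212561, 158727390637901, 158728868269660, 158643267230839, 158643266791681, 158660145065792, 158728868314631, 158660148645199] = true := by decide +kernel

end Cfsg.Agent.Helper56.Ru
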