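import Cfsg.Agent.Helper56.RuGLevel0S7P0
import Cfsg.Agent.Helper56.RuGLevel0S7P1
import Cfsg.Agent.Helper56.RuGLevel0S7P2
import Cfsg.Agent.Helper56.RuGLevel0S7P3
import Cfsg.Agent.Helper56.RuGLevel0S7P4
import Cfsg.Agent.Helper56.RuGLevel0S8P0
import Cfsg.Agent.Helper56.RuGLevel0S8P1
import Cfsg.Agent.Helper56.RuGLevel0S8P2
import Cfsg.Agent.Helper56.RuGLevel0S8P3
import Cfsg.Agent.Helper56.RuGLevel0S8P4

set_option autoImplicit false
set_option maxRecDepth 1000000

namespace Cfsg.Agent.Helper56.Ru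

open Cfsg.Agent.Helper56 Cfsg.Agent.Helper56.PermW

theorem baseG0 : baseCheck 12 4095 csG 7 9 0 orbMG0 svG0 = true := by decide +kernel

theorem trG0_p : rangeAll 0 4060 (trPt 12 4095 csG cisG 9 0 orbMG0 svG0 6) = true := by decide +kernel

theorem cntG0 : (List.range 4060).countP (fun x => orbMG0.testBit x) = 4060 := by decide +kernel

theorem lG0_s7 : ∀ x, x < 4060 → orbMG0.testBit x = true → ∃ c, schreierOK 12 4095 B csG cisG 7 orbMG0 svG0 6 [(svG1, 6), (svG2, 7), (svG3, 4), (svG4, 1)] 7 x c = true :=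
  fun x hx => (join_range (walk_range _ _ 0 250 _ lG0_s7_r0) (join_range (walk_range _ _ 250 250 _ lG0_s7_r250) (join_range (walk_range _ _ 500 250 _ lG0_s7_r500) (join_range (walk_range _ _ 750 250 _ lG0_s7_r750) (join_range (walk_range _ _ 1000 250 _ lG0_s7_r1000) (join_range (walk_range _ _ 1250 250 _ lG0_s7_r1250) (join_range (walk_range _ _ 1500 250 _ lG0_s7_r1500) (join_range (walk_range _ _ 1750 250 _ lG0_s7_r1750) (join_range (walk_range _ _ 2000 250 _ lG0_s7_r2000) (join_range (walk_range _ _ 2250 250 _ lG0_s7_r2250) (join_range (walk_range _ _ 2500 250 _ lG0_s7_r2500) (join_range (walk_range _ _ 2750 250 _ lG0_s7_r2750) (join_range (walk_range _ _ 3000 250 _ lG0_s7_r3000) (join_range (walk_range _ _ 3250 250 _ lG0_s7_r3250) (join_range (walk_range _ _ 3500 250 _ lG0_s7_r3500) (join_range (walk_range _ _ 3750 250 _ lG0_s7_r3750) (walk_range _ _ 4000 60 _ lG0_s7_r4000))))))))))))))))) x (Nat.zero_le x) hx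

theorem lG0_s8 : ∀ x, x < 4060 → orbMG0.testBit x = true → ∃ c, schreierOK 12 4095 B csG cisG 7 orbMG0 svG0 6 [(svG1, 6), (svG2, 7), (svG3, 4), (svG4, 1)] 8 x c = true :=
  fun x hx => (join_range (walk_range _ _ 0 250 _ lG0_s8_r0) (join_range (walk_range _ _ 250 250 _ lG0_s8_r250) (join_range (walk_range _ _ 500 250 _ lG0_s8_r500) (join_range (walk_range _ _ 750 250 _ lG0_s8_r750) (join_range (walk_range _ _ 1000 250 _ lG0_s8_r1000) (join_range (walk_range _ _ 1250 250 _ lG0_s8_r1250) (join_range (walk_range _ _ 1500 250 _ lG0_s8_r1500) (join_range (walk_range _ _ 1750 250 _ lG0_s8_r1750) (join_range (walk_range _ _ 2000 250 _ lG0_s8_r2000) (join_range (walk_range _ _ 2250 250 _ lG0_s8_r2250) (join_range (walk_range _ _ 2500 250 _ lG0_s8_r2500) (join_range (walk_range _ _ 2750 250 _ lG0_s8_r2750) (join_range (walk_range _ _ 3000 250 _ lG0_s8_r3000) (join_range (walk_range _ _ 3250 250 _ lG0_s8_r3250) (join_range (walk_range _ _ 3500 250 _ lG0_s8_r3500)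 (join_range (walk_range _ _ 3750 250 _ lG0_s8_r3750) (walk_range _ _ 4000 60 _ lG0_s8_r4000))))))))))))))))) x (Nat.zero_le x) hx

end Cfsg.Agent.Helper56.Ru
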