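import Cfsg.Agent.Helper56.RuGLevel1S5P0
import Cfsg.Agent.Helper56.RuGLevel1S5P1
import Cfsg.Agent.Helper56.RuGLevel1S6P0
import Cfsg.Agent.Helper56.RuGLevel1S6P1

set_option autoImplicit false
set_option maxRecDepth 1000000

namespace Cfsg.Agent.Helper56.Ru

open Cfsg.Agent.Helper56 Cfsg.Agent.Helper56.PermW

theorem baseG1 : baseCheck 12 4095 csG 5 7 2305 orbMG1 svG1 = true := by decide +kernel

theorem trG1_p : rangeAll 0 4060 (trPt 12 4095 csG cisG 7 2305 orbMG1 svG1 6) = true := by decide +kernel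

theorem cntG1 : (List.range 4060).countP (fun x => orbMG1.testBit x) = 1755 := by decide +kernel

theorem lG1_s5 : ∀ x, x < 4060 → orbMG1.testBit x = true → ∃ c, schreierOK 12 4095 B csG cisG 5 orbMG1 svG1 6 [(svG2, 7), (svG3, 4), (svG4, 1)] 5 x c = true :=
  fun x hx => (join_range (walk_range _ _ 0 2555 _ lG1_s5_r0) (join_range (walk_range _ _ 2555 250 _ lG1_s5_r2555) (join_range (walk_range _ _ 2805 250 _ lG1_s5_r2805) (join_range (walk_range _ _ 3055 250 _ lG1_s5_r3055) (join_range (walk_range _ _ 3305 250 _ lG1_s5_r3305) (join_range (walk_range _ _ 3555 250 _ lG1_s5_r3555) (join_range (walk_range _ _ 3805 250 _ lG1_s5_r3805) (walk_range _ _ 4055 5 _ lG1_s5_r4055)))))))) x (Nat.zero_le x) hx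

theorem lG1_s6 : ∀ x, x < 4060 → orbMG1.testBit x = true → ∃ c, schreierOK 12 4095 B csG cisG 5 orbMG1 svG1 6 [(svG2, 7), (svG3, 4), (svG4, 1)] 6 x c = true :=
  fun x hx => (join_range (walk_range _ _ 0 2555 _ lG1_s6_r0) (join_range (walk_range _ _ 2555 250 _ lG1_s6_r2555) (join_range (walk_range _ _ 2805 250 _ lG1_s6_r2805) (join_range (walk_range _ _ 3055 250 _ lG1_s6_r3055) (join_range (walk_range _ _ 3305 250 _ lG1_s6_r3305) (join_range (walk_range _ _ 3555 250 _ lG1_s6_r3555) (join_range (walk_range _ _ 3805 250 _ lG1_s6_r3805) (walk_range _ _ 4055 5 _ lG1_s6_r4055)))))))) x (Nat.zero_le x) hx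

end Cfsg.Agent.Helper56.Ru
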