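import Cfsg.Agent.Helper56.RuGLevelData2
import Cfsg.Agent.Helper56.RuGLevelData3
import Cfsg.Agent.Helper56.RuGLevelData4
import Cfsg.Agent.Helper56.RuGLevel2S3P0

set_option autoImplicit false
set_option maxRecDepth 1000000

namespace Cfsg.Agent.Helper56.Ru

open Cfsg.Agent.Helper56 Cfsg.Agent.Helper56.PermW

theorem lG2_s3_r3306 : walk orbMG2 (schreierOK 12 4095 B csG cisG 3 orbMG2 svG2 7 [(svG3, 4), (svG4, 1)] 3) (List.range' 3306 754) [9455875, 9455994, 9455875, 9455913, 9455875, 9455875, 9455875, 9455875, 9455875, 9455969, 9460889, 9455994, 9455969, 9460926, 9460977, 9459971, 9460977, 9455994, 9460090, 9455875, 9456831, 9455969, 9460926, 9455912] = true := by decide +kernel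

end Cfsg.Agent.Helper56.Ru
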