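import Cfsg.Agent.Helper56.RuGLevel2S3P0
import Cfsg.Agent.Helper56.RuGLevel2S3P1
import Cfsg.Agent.Helper56.RuGLevel2S4P0
import Cfsg.Agent.Helper56.RuGLevel2S4P1

set_option autoImplicit false
set_option maxRecDepth 1000000

namespace Cfsg.Agent.Helper56.Ru

open Cfsg.Agent.Helper56 Cfsg.Agent.Helper56.PermW

theorem baseG2 : baseCheck 12 4095 csG 3 5 2306 orbMG2 svG2 = true := by decide +kernel

theorem trG2_p : rangeAll 0 4060 (trPt 12 4095 csG cisG 5 2306 orbMG2 svG2 7) = true := by decide +kernel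

theorem cntG2 : (List.range 4060).countP (fun x => orbMG2.testBit x) = 1024 := by decide +kernel

theorem lG2_s3 : ∀ x, x < 4060 → orbMG2.testBit x = true → ∃ c, schreierOK 12 4095 B csG cisG 3 orbMG2 svG2 7 [(svG3, 4), (svG4, 1)] 3 x c = true :=
  fun x hx => (join_range (walk_range _ _ 0 2556 _ lG2_s3_r0) (join_range (walk_range _ _ 2556 250 _ lG2_s3_r2556) (join_range (walk_range _ _ 2806 250 _ lG2_s3_r2806) (join_range (walk_range _ _ 3056 250 _ lG2_s3_r3056) (walk_range _ _ 3306 754 _ lG2_s3_r3306))))) x (Nat.zero_le x) hx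

theorem lG2_s4 : ∀ x, x < 4060 → orbMG2.testBit x = true → ∃ c, schreierOK 12 4095 B csG cisG 3 orbMG2 svG2 7 [(svG3, 4), (svG4, 1)] 4 x c = true :=
  fun x hx => (join_range (walk_range _ _ 0 2556 _ lG2_s4_r0) (join_range (walk_range _ _ 2556 250 _ lG2_s4_r2556) (join_range (walk_range _ _ 2806 250 _ lG2_s4_r2806) (join_range (walk_range _ _ 3056 250 _ lG2_s4_r3056) (walk_range _ _ 3306 754 _ lG2_s4_r3306))))) x (Nat.zero_le x) hx

end Cfsg.Agent.Helper56.Ru
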