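import Cfsg.Agent.Helper56.RuGLevel3S1P0
import Cfsg.Agent.Helper56.RuGLevel3S2P0

set_option autoImplicit false
set_option maxRecDepth 1000000

namespace Cfsg.Agent.Helper56.Ru

open Cfsg.Agent.Helper56 Cfsg.Agent.Helper56.PermW

theorem baseG3 : baseCheck 12 4095 csG 1 3 2307 orbMG3 svG3 = true := by decide +kernel

theorem trG3_p : rangeAll 0 4060 (trPt 12 4095 csG cisG 3 2307 orbMG3 svG3 4) = true := by decide +kernel

theorem cntG3 : (List.range 4060).countP (fun x => orbMG3.testBit x) = 10 := by decide +kernel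

theorem lG3_s1 : ∀ x, x < 4060 → orbMG3.testBit x = true → ∃ c, schreierOK 12 4095 B csG cisG 1 orbMG3 svG3 4 [(svG4, 1)] 1 x c = true :=
  fun x hx => (walk_range _ _ 0 4060 _ lG3_s1_r0) x (Nat.zero_le x) hx

theorem lG3_s2 : ∀ x, x < 4060 → orbMG3.testBit x = true → ∃ c, schreierOK 12 4095 B csG cisG 1 orbMG3 svG3 4 [(svG4, 1)] 2 x c = true :=
  fun x hx => (walk_range _ _ 0 4060 _ lG3_s2_r0) x (Nat.zero_le x) hx

end Cfsg.Agent.Helper56.Ru
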