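import Cfsg.Agent.Helper56.RuGLevel4S0P0

set_option autoImplicit false
set_option maxRecDepth 1000000

namespace Cfsg.Agent.Helper56.Ru

open Cfsg.Agent.Helper56 Cfsg.Agent.Helper56.PermW

theorem baseG4 : baseCheck 12 4095 csG 0 1 2308 orbMG4 svG4 = true := by decide +kernel

theorem trG4_p : rangeAll 0 4060 (trPt 12 4095 csG cisG 1 2308 orbMG4 svG4 1) = true := by decide +kernel

theorem cntG4 : (List.range 4060).countP (fun x => orbMG4.testBit x) = 2 := by decide +kernel

theorem lG4_s0 : ∀ x, x < 4060 → orbMG4.testBit x = true → ∃ c, schreierOK 12 4095 B csG cisG 0 orbMG4 svG4 1 [] 0 x c = true :=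
  fun x hx => (walk_range _ _ 0 4060 _ lG4_s0_r0) x (Nat.zero_le x) hx

end Cfsg.Agent.Helper56.Ru
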