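import Cfsg.Agent.Helper56.RuTLevelData1
import Cfsg.Agent.Helper56.RuTLevelData2
import Cfsg.Agent.Helper56.RuTLevelData3
import Cfsg.Agent.Helper56.RuTLevel1S3P0

set_option autoImplicit false
set_option maxRecDepth 1000000

namespace Cfsg.Agent.Helper56.Ru

open Cfsg.Agent.Helper56 Cfsg.Agent.Helper56.PermW

theorem lT1_s3_r3306 : walk orbMT1 (schreierOK 12 4095 B csT cisT 3 orbMT1 svT1 8 [(svT2, 4), (svT3, 1)] 3) (List.range' 3306 754) [9460064, 9455875, 9455968, 9460977, 9459971, 9455875, 9455913, 9460977, 9460889, 9455875, 9460889, 9455875, 9455875, 9455875, 9456793, 9455875, 9455875, 9456793, 9455875, 9460889, 9455875, 9455913, 9455968, 9460009] = true := by decide +kernel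

end Cfsg.Agent.Helper56.Ru
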