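import Cfsg.Agent.Helper56.RuTLevelData2
import Cfsg.Agent.Helper56.RuTLevelData3

set_option autoImplicit false
set_option maxRecDepth 1000000

namespace Cfsg.Agent.Helper56.Ru

open Cfsg.Agent.Helper56 Cfsg.Agent.Helper56.PermW

theorem lT2_s1_r0 : walk orbMT2 (schreierOK 12 4095 B csT cisT 1 orbMT2 svT2 4 [(svT3, 1)] 1) (List.range' 0 4060) [2309, 2308, 2308, 2308, 2308] = true := by decide +kernel

end Cfsg.Agent.Helper56.Ru
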