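import Cfsg.Agent.Helper56.RuTLevel2S1P0
import Cfsg.Agent.Helper56.RuTLevel2S2P0

set_option autoImplicit false
set_option maxRecDepth 1000000

namespace Cfsg.Agent.Helper56.Ru

open Cfsg.Agent.Helper56 Cfsg.Agent.Helper56.PermW

theorem baseT2 : baseCheck 12 4095 csT 1 3 2307 orbMT2 svT2 = true := by decide +kernel

theorem trT2_p : rangeAll 0 4060 (trPt 12 4095 csT cisT 3 2307 orbMT2 svT2 4) = true := by decide +kernel

theorem cntT2 : (List.range 4060).countP (fun x => orbMT2.testBit x) = 5 := by decide +kernel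

theorem lT2_s1 : ∀ x, x < 4060 → orbMT2.testBit x = true → ∃ c, schreierOK 12 4095 B csT cisT 1 orbMT2 svT2 4 [(svT3, 1)] 1 x c = true :=
  fun x hx => (walk_range _ _ 0 4060 _ lT2_s1_r0) x (Nat.zero_le x) hx

theorem lT2_s2 : ∀ x, x < 4060 → orbMT2.testBit x = true → ∃ c, schreierOK 12 4095 B csT cisT 1 orbMT2 svT2 4 [(svT3, 1)] 2 x c = true :=
  fun x hx => (walk_range _ _ 0 4060 _ lT2_s2_r0) x (Nat.zero_le x) hx

end Cfsg.Agent.Helper56.Ru
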