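import Cfsg.Agent.Helper56.RuAut
import Cfsg.Agent.Helper56.RuGLevel0
import Cfsg.Agent.Helper56.RuGLevel1
import Cfsg.Agent.Helper56.RuGLevel2
import Cfsg.Agent.Helper56.RuGLevel3
import Cfsg.Agent.Helper56.RuGLevel4
import Cfsg.Agent.Helper56.RuTLevel0
import Cfsg.Agent.Helper56.RuTLevel1
import Cfsg.Agent.Helper56.RuTLevel2
import Cfsg.Agent.Helper56.RuTLevel3
import Cfsg.Agent.Helper56.RuGExtra
import Cfsg.Agent.Helper56.RuTExtra

set_option autoImplicit false
set_option maxRecDepth 1000000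

namespace Cfsg.Agent.Helper56.Ru

open Cfsg.Agent.Helper56 Cfsg.Agent.Helper56.PermW

/-- conclusion of `levelB_sound` -/
def LevelOK (gen : ℕ → Equiv.Perm (Fin 4060)) (k' k : ℕ) (β : Fin 4060) (orbM : ℕ) : Prop :=
  (genGroup gen k ⊓ MulAction.stabilizer (Equiv.Perm (Fin 4060)) β = genGroup gen k') ∧
  Nat.card (genGroup gen k) =
    (List.range 4060).countP (fun x => orbM.testBit x) * Nat.card (genGroup gen k') ∧
  ∀ δ : Fin 4060, orbM.testBit δ.val = true ↔ ∃ g ∈ genGroup gen k, g β = δ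

theorem hHKG4 : genGroup genG 0 ≤ Subgroup.closure (genG '' Set.Ico 0 1) := by
  rw [genGroup_zero]; exact bot_le

theorem hHKG3 : genGroup genG 1 ≤ Subgroup.closure (genG '' Set.Ico 1 3) :=
  stepCheckB_sound validG rigid genG_aut schkG3 (genGroup_eq_closure_Ico genG hHKG4)

theorem hHKG2 : genGroup genG 3 ≤ Subgroup.closure (genG '' Set.Ico 3 5) :=
  stepCheckB_sound validG rigid genG_aut schkG2 (genGroup_eq_closure_Ico genG hHKG3)

theorem hHKG1 : genGroup genG 5 ≤ Subgroup.closure (genG '' Set.Ico 5 7) :=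
  stepCheckB_sound validG rigid genG_aut schkG1 (genGroup_eq_closure_Ico genG hHKG2)

theorem hHKG0 : genGroup genG 7 ≤ Subgroup.closure (genG '' Set.Ico 7 9) :=
  stepCheckB_sound validG rigid genG_aut schkG0 (genGroup_eq_closure_Ico genG hHKG1)

theorem trG0 : ∀ x, x < 4060 → trPt 12 4095 csG cisG 9 0 orbMG0 svG0 6 x = true :=
  fun x hx => ptwise1 trG0_p x (Nat.zero_le x) hx

theorem trG1 : ∀ x, x < 4060 → trPt 12 4095 csG cisG 7 2305 orbMG1 svG1 6 x = true :=
  fun x hx => ptwise1 trG1_p x (Nat.zero_le x) hx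

theorem trG2 : ∀ x, x < 4060 → trPt 12 4095 csG cisG 5 2306 orbMG2 svG2 7 x = true :=
  fun x hx => ptwise1 trG2_p x (Nat.zero_le x) hx

theorem trG3 : ∀ x, x < 4060 → trPt 12 4095 csG cisG 3 2307 orbMG3 svG3 4 x = true :=
  fun x hx => ptwise1 trG3_p x (Nat.zero_le x) hx

theorem trG4 : ∀ x, x < 4060 → trPt 12 4095 csG cisG 1 2308 orbMG4 svG4 1 x = true :=
  fun x hx => ptwise1 trG4_p x (Nat.zero_le x) hx

theorem lvlG4 : LevelOK genG 0 1 ⟨2308, by norm_num⟩ orbMG4 :=
  levelB_sound validG rigid genG_aut (β := ⟨2308, by norm_num⟩) (deeper := []) baseG4 trG4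
    (by
      intro s h1 h2
      interval_cases s
      · exact lG4_s0) hHKG4

theorem cardG4 : Nat.card (genGroup genG 1) = 2 := by
  have h := lvlG4.2.1
  rw [h, cntG4, genGroup_zero, Subgroup.card_bot]

theorem lvlG3 : LevelOK genG 1 3 ⟨2307, by norm_num⟩ orbMG3 :=
  levelB_sound validG rigid genG_aut (β := ⟨2307, by norm_num⟩) (deeper := [(svG4, 1)]) baseG3 trG3
    (by
      intro s h1 h2
      interval_cases s
      · exact lG3_s1
      · exact lG3_s2) hHKG3

theorem cardG3 : Nat.card (genGroup genG 3) = 20 := by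
  have h := lvlG3.2.1
  rw [h, cntG3, cardG4]

theorem lvlG2 : LevelOK genG 3 5 ⟨2306, by norm_num⟩ orbMG2 :=
  levelB_sound validG rigid genG_aut (β := ⟨2306, by norm_num⟩) (deeper := [(svG3, 4), (svG4, 1)]) baseG2 trG2
    (by
      intro s h1 h2
      interval_cases s
      · exact lG2_s3
      · exact lG2_s4) hHKG2

theorem cardG2 : Nat.card (genGroup genG 5) = 20480 := by
  have h := lvlG2.2.1
  rw [h, cntG2, cardG3]

theorem lvlG1 : LevelOK genG 5 7 ⟨2305, by norm_num⟩ orbMG1 :=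
  levelB_sound validG rigid genG_aut (β := ⟨2305, by norm_num⟩) (deeper := [(svG2, 7), (svG3, 4), (svG4, 1)]) baseG1 trG1
    (by
      intro s h1 h2
      interval_cases s
      · exact lG1_s5
      · exact lG1_s6) hHKG1

theorem cardG1 : Nat.card (genGroup genG 7) = 35942400 := by
  have h := lvlG1.2.1
  rw [h, cntG1, cardG2]

theorem lvlG0 : LevelOK genG 7 9 ⟨0, by norm_num⟩ orbMG0 :=
  levelB_sound validG rigid genG_aut (β := ⟨0, by norm_num⟩) (deeper := [(svG1, 6), (svG2, 7), (svG3, 4), (svG4, 1)]) baseG0 trG0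
    (by
      intro s h1 h2
      interval_cases s
      · exact lG0_s7
      · exact lG0_s8) hHKG0

theorem cardG0 : Nat.card (genGroup genG 9) = 145926144000 := by
  have h := lvlG0.2.1
  rw [h, cntG0, cardG1]

theorem hHKT3 : genGroup genT 0 ≤ Subgroup.closure (genT '' Set.Ico 0 1) := by
  rw [genGroup_zero]; exact bot_le

theorem hHKT2 : genGroup genT 1 ≤ Subgroup.closure (genT '' Set.Ico 1 3) :=
  stepCheckB_sound validT rigid genT_aut schkT2 (genGroup_eq_closure_Ico genT hHKT3)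

theorem hHKT1 : genGroup genT 3 ≤ Subgroup.closure (genT '' Set.Ico 3 5) :=
  stepCheckB_sound validT rigid genT_aut schkT1 (genGroup_eq_closure_Ico genT hHKT2)

theorem hHKT0 : genGroup genT 5 ≤ Subgroup.closure (genT '' Set.Ico 5 7) :=
  stepCheckB_sound validT rigid genT_aut schkT0 (genGroup_eq_closure_Ico genT hHKT1)

theorem trT0 : ∀ x, x < 4060 → trPt 12 4095 csT cisT 7 2305 orbMT0 svT0 8 x = true :=
  fun x hx => ptwise1 trT0_p x (Nat.zero_le x) hx

theorem trT1 : ∀ x, x < 4060 → trPt 12 4095 csT cisT 5 2306 orbMT1 svT1 8 x = true :=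
  fun x hx => ptwise1 trT1_p x (Nat.zero_le x) hx

theorem trT2 : ∀ x, x < 4060 → trPt 12 4095 csT cisT 3 2307 orbMT2 svT2 4 x = true :=
  fun x hx => ptwise1 trT2_p x (Nat.zero_le x) hx

theorem trT3 : ∀ x, x < 4060 → trPt 12 4095 csT cisT 1 2308 orbMT3 svT3 1 x = true :=
  fun x hx => ptwise1 trT3_p x (Nat.zero_le x) hx

theorem lvlT3 : LevelOK genT 0 1 ⟨2308, by norm_num⟩ orbMT3 :=
  levelB_sound validT rigid genT_aut (β := ⟨2308, by norm_num⟩) (deeper := []) baseT3 trT3
    (by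
      intro s h1 h2
      interval_cases s
      · exact lT3_s0) hHKT3

theorem cardT3 : Nat.card (genGroup genT 1) = 2 := by
  have h := lvlT3.2.1
  rw [h, cntT3, genGroup_zero, Subgroup.card_bot]

theorem lvlT2 : LevelOK genT 1 3 ⟨2307, by norm_num⟩ orbMT2 :=
  levelB_sound validT rigid genT_aut (β := ⟨2307, by norm_num⟩) (deeper := [(svT3, 1)]) baseT2 trT2
    (by
      intro s h1 h2
      interval_cases s
      · exact lT2_s1
      · exact lT2_s2) hHKT2

theorem cardT2 : Nat.card (genGroup genT 3) = 10 := by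
  have h := lvlT2.2.1
  rw [h, cntT2, cardT3]

theorem lvlT1 : LevelOK genT 3 5 ⟨2306, by norm_num⟩ orbMT1 :=
  levelB_sound validT rigid genT_aut (β := ⟨2306, by norm_num⟩) (deeper := [(svT2, 4), (svT3, 1)]) baseT1 trT1
    (by
      intro s h1 h2
      interval_cases s
      · exact lT1_s3
      · exact lT1_s4) hHKT1

theorem cardT1 : Nat.card (genGroup genT 5) = 10240 := by
  have h := lvlT1.2.1
  rw [h, cntT1, cardT2]

theorem lvlT0 : LevelOK genT 5 7 ⟨2305, by norm_num⟩ orbMT0 :=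
  levelB_sound validT rigid genT_aut (β := ⟨2305, by norm_num⟩) (deeper := [(svT1, 8), (svT2, 4), (svT3, 1)]) baseT0 trT0
    (by
      intro s h1 h2
      interval_cases s
      · exact lT0_s5
      · exact lT0_s6) hHKT0

theorem cardT0 : Nat.card (genGroup genT 7) = 17971200 := by
  have h := lvlT0.2.1
  rw [h, cntT0, cardT1]

end Cfsg.Agent.Helper56.Ru
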