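import Cfsg.Agent.Helper56.RuGData

set_option autoImplicit false
set_option maxRecDepth 1000000

namespace Cfsg.Agent.Helper56.Ru

open Cfsg.Agent.Helper56 Cfsg.Agent.Helper56.PermW

def wordG5 : List ℕ := [7, 8, 8, 8, 8, 7, 8, 8, 8, 8, 7, 8, 8, 7, 8, 8, 8, 8, 7, 8, 8, 7, 8, 8, 8, 8, 7, 8, 8, 7, 8, 8, 7, 8, 8, 8, 8, 7, 8, 8, 7, 8, 8, 7, 8, 8, 7, 8, 7, 8, 7, 8, 8, 7, 8, 7, 8, 8, 7, 8, 7, 8, 8, 7]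

end Cfsg.Agent.Helper56.Ru
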