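import Cfsg.Agent.Helper56.RuTab0
import Cfsg.Agent.Helper56.RuTab1
import Cfsg.Agent.Helper56.RuTab2
import Cfsg.Agent.Helper56.PermW3

set_option autoImplicit false
set_option maxRecDepth 1000000

namespace Cfsg.Agent.Helper56.Ru

open Cfsg.Agent.Helper56 Cfsg.Agent.Helper56.PermW

/-- the table, one number per block of 64 vertices -/
def blockN : List ℕ := (tabL0 ++ tabL1 ++ tabL2).map (joinChunks 21060)

/-- mask of one table entry (21060 bits) -/
def mb : ℕ := Nat.pred (Nat.pow 2 21060)

/-- packed neighbour list -/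
def nbc (v : ℕ) : ℕ :=
  Nat.land (Nat.shiftRight (blockN.getD (Nat.div v 64) 0) (Nat.mul 21060 (Nat.mod v 64))) mb

/-- neighbour list -/
def nb (v : ℕ) : List ℕ := digitsOf 12 4095 1755 (nbc v)

theorem nb_eq : ∀ v, nb v = digitsOf 12 4095 1755 (nbc v) := fun _ => rfl

end Cfsg.Agent.Helper56.Ru
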