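import Cfsg.Agent.Helper56.SimpleCrit2

/-!
# Simplicity from the action on one orbit

`G` acts on `X`, faithfully on the orbit `Ω` of `α`; the points of `Ω` other than `α` split into sets
`Δ i` on each of which the stabilizer of `α` is transitive, no proper nonempty union
`{α} ∪ ⋃_{i ∈ I} Δ i` has cardinality dividing `|Ω|`; `G = ⟨a, b⟩` with `a² = b³ = (ab)^p = 1`,
`p` coprime to `|G| / |Ω|`. Then `G` is simple.
-/

set_option autoImplicit false

namespace Cfsg.Agent.Helper56

open MulAction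

theorem isSimpleGroup_of_orbit_action {G X : Type*} [Group G] [Finite G] [Fintype X]
    [DecidableEq X] [MulAction G X] (α : X)
    (hfaith : ∀ g : G, (∀ x ∈ orbit G α, g • x = x) → g = 1)
    {r : ℕ} (Δ : Fin r → Finset X) (m : ℕ) (hm : Nat.card (orbit G α) = m)
    (hcov : ∀ δ ∈ orbit G α, δ = α ∨ ∃ i, δ ∈ Δ i)
    (hsub : ∀ i, ∀ δ ∈ Δ i, δ ∈ orbit G α)
    (hα : ∀ i, α ∉ Δ i) (hdisj : ∀ i j, i ≠ j → Disjoint (Δ i) (Δ j))
    (hconn : ∀ i, ∀ δ ∈ Δ i, ∀ δ' ∈ Δ i, ∃ h : G, h • α = α ∧ h • δ = δ')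
    (harith : ∀ I : Finset (Fin r), (1 + ∑ i ∈ I, (Δ i).card) ∣ m → I = ∅ ∨ I = Finset.univ)
    (a b : G) (hgen : Subgroup.closure {a, b} = ⊤) (ha : a ^ 2 = 1) (hb : b ^ 3 = 1)
    (p : ℕ) (hab : (a * b) ^ p = 1) (hcop : Nat.Coprime p (Nat.card G / m))
    (hnt : Nontrivial G) : IsSimpleGroup G := by
  classical
  refine { exists_pair_ne := hnt.exists_pair_ne, eq_bot_or_eq_top_of_normal := ?_ }
  intro N hN
  by_cases hNbot : N = ⊥
  · left; exact hNbot
  right
  -- the orbit as a type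
  let Y := orbit G α
  haveI : Fintype Y := Fintype.ofFinite Y
  have hcardY : Fintype.card Y = m := by rw [← Nat.card_eq_fintype_card]; exact hm
  haveI : FaithfulSMul G Y := ⟨fun {g₁ g₂} h => by
    have : g₂⁻¹ * g₁ = 1 := by
      apply hfaith
      intro x hx
      have := h ⟨x, hx⟩
      have h' : g₁ • x = g₂ • x := congrArg Subtype.val this
      rw [mul_smul, h', inv_smul_smul]
    calc g₁ = g₂ * (g₂⁻¹ * g₁) := by group
      _ = g₂ := by rw [this, mul_one]⟩
  let α' : Y := ⟨α, mem_orbit_self α⟩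
  let Δ' : Fin r → Finset Y := fun i => Finset.univ.filter fun y : Y => y.val ∈ Δ i
  have hcardΔ : ∀ i, (Δ' i).card = (Δ i).card := by
    intro i
    apply Finset.card_bij (fun (y : Y) _ => y.val)
    · intro y hy; exact (Finset.mem_filter.mp hy).2
    · intro y₁ _ y₂ _ h; exact Subtype.ext h
    · intro x hx
      exact ⟨⟨x, hsub i x hx⟩, Finset.mem_filter.mpr ⟨Finset.mem_univ _, hx⟩, rfl⟩
  have htrN : orbit N α' = Set.univ := by
    refine normal_transitive_of_suborbits (G := G) (X := Y) α' ?_ Δ' ?_ ?_ ?_ ?_ ?_ N hNbot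
    · rintro ⟨δ, g, rfl⟩
      exact ⟨g, Subtype.ext rfl⟩
    · rintro ⟨δ, hδ⟩
      rcases hcov δ hδ with h | ⟨i, hi⟩
      · left; exact Subtype.ext h
      · right; exact ⟨i, Finset.mem_filter.mpr ⟨Finset.mem_univ _, hi⟩⟩
    · intro i hmem
      exact hα i (Finset.mem_filter.mp hmem).2
    · intro i j hij
      rw [Finset.disjoint_left]
      intro y h1 h2
      exact (Finset.disjoint_left.mp (hdisj i j hij)) (Finset.mem_filter.mp h1).2
        (Finset.mem_filter.mp h2).2
    · intro i δ hδ δ' hδ'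
      obtain ⟨h, h1, h2⟩ := hconn i δ.val (Finset.mem_filter.mp hδ).2 δ'.val
        (Finset.mem_filter.mp hδ').2
      exact ⟨h, Subtype.ext h1, Subtype.ext h2⟩
    · intro I hI
      apply harith I
      rw [hcardY] at hI
      have : ∑ i ∈ I, (Δ' i).card = ∑ i ∈ I, (Δ i).card :=
        Finset.sum_congr rfl (fun i _ => hcardΔ i)
      rw [← this]; exact hI
  have habN : a * b ∈ N := by
    refine mem_normal_of_coprime (G := G) (X := Y) α' N htrN _ p hab ?_
    rw [hcardY]; exact hcop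
  exact normal_eq_top_of_triangle a b hgen ha hb N habN

end Cfsg.Agent.Helper56
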