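import Cfsg.Agent.Helper56.RuChain
import Cfsg.Agent.Helper56.SimpleCrit3

/-!
# The Rudvalis group on 4060 points: order, transitivity, simplicity, and a Tits subgroup of the
point stabilizer
-/

set_option autoImplicit false
set_option maxRecDepth 1000000

namespace Cfsg.Agent.Helper56.Ru

open Cfsg.Agent.Helper56 Cfsg.Agent.Helper56.PermW

/-- the base points -/
abbrev pt0 : Fin 4060 := ⟨0, by norm_num⟩
abbrev ptb : Fin 4060 := ⟨2305, by norm_num⟩

theorem card_filter_fin (n : ℕ) (p : ℕ → Bool) :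
    (Finset.univ.filter (fun δ : Fin n => p δ.val = true)).card = (List.range n).countP p := by
  rw [← Finset.card_map Fin.valEmbedding, List.countP_eq_length_filter,
    ← List.toFinset_card_of_nodup (List.nodup_range.filter _)]
  congr 1
  ext x
  simp only [Finset.mem_map, Finset.mem_filter, Finset.mem_univ, true_and, Fin.valEmbedding_apply,
    List.mem_toFinset, List.mem_filter, List.mem_range]
  constructor
  · rintro ⟨δ, hδ, rfl⟩; exact ⟨δ.isLt, hδ⟩
  · rintro ⟨hx, hb⟩; exact ⟨⟨x, hx⟩, hb, rfl⟩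

theorem closure_pair_top {G : Type*} [Group G] (H : Subgroup G) (a b : G) (hH : H = Subgroup.closure {a, b})
    (ha : a ∈ H) (hb : b ∈ H) : Subgroup.closure ({⟨a, ha⟩, ⟨b, hb⟩} : Set H) = ⊤ := by
  subst hH
  have h : Subgroup.closure ((Subtype.val : Subgroup.closure {a, b} → G) ⁻¹' {a, b}) = ⊤ :=
    Subgroup.closure_closure_coe_preimage
  have hset : ((Subtype.val : Subgroup.closure {a, b} → G) ⁻¹' {a, b}) =
      ({⟨a, ha⟩, ⟨b, hb⟩} : Set (Subgroup.closure {a, b})) := by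
    ext ⟨g, hg⟩
    simp only [Set.mem_insert_iff, Set.mem_singleton_iff, Set.mem_preimage, Subtype.mk.injEq]
  rw [← hset]; exact h

theorem wprod_rep {gen : ℕ → Equiv.Perm (Fin 4060)} (l : List ℕ) (k : ℕ) :
    wprod gen (List.replicate k l).flatten = wprod gen l ^ k := by
  induction k with
  | zero => simp [wprod_nil]
  | succ k ih => rw [List.replicate_succ, List.flatten_cons, wprod_append, ih, pow_succ']

/-! ### the group `Ru` -/

theorem ltG {l : List ℕ} (h : lettersLt 9 l = true) : ∀ j ∈ l, j < csG.length := by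
  rw [csG_length]; exact lettersLt_spec h

theorem G0_eq : G0 = genGroup genG 9 := by
  rw [genGroup_eq_closure_Ico genG hHKG0]
  unfold G0
  congr 1
  ext g
  simp only [Set.mem_insert_iff, Set.mem_singleton_iff, Set.mem_image, Set.mem_Ico]
  constructor
  · rintro (rfl | rfl)
    · exact ⟨7, by norm_num, rfl⟩
    · exact ⟨8, by norm_num, rfl⟩
  · rintro ⟨j, ⟨h1, h2⟩, rfl⟩
    have : j = 7 ∨ j = 8 := by omega
    rcases this with rfl | rfl
    · left; rfl
    · right; rfl

theorem card_G0 : Nat.card G0 = 145926144000 := by rw [G0_eq]; exact cardG0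

theorem genG_mem_G0 (j : ℕ) (hj : j < 9) : genG j ∈ G0 := by
  rw [G0_eq]; exact Subgroup.subset_closure ⟨j, hj, rfl⟩

theorem le_G0 : genGroup genG 7 ≤ G0 := by
  rw [G0_eq]; exact genGroup_mono genG (by norm_num)

theorem fix7 : ∀ h ∈ genGroup genG 7, h pt0 = pt0 := by
  intro h hh
  have h1 := lvlG0.1
  rw [← h1] at hh
  exact hh.2

theorem all_orbG0 (x : ℕ) (hx : x < 4060) : orbMG0.testBit x = true := by
  have h := cntG0
  have hl : (List.range 4060).countP (fun x => orbMG0.testBit x) = (List.range 4060).length := by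
    rw [h, List.length_range]
  rw [List.countP_eq_length] at hl
  exact hl x (List.mem_range.mpr hx)

theorem trans9 (δ : Fin 4060) : ∃ g ∈ G0, g pt0 = δ := by
  have h1 := lvlG0.2.2 δ
  rw [G0_eq]
  exact h1.mp (all_orbG0 δ.val δ.isLt)

instance pretrans : MulAction.IsPretransitive G0 (Fin 4060) := by
  refine ⟨fun x y => ?_⟩
  obtain ⟨g, hg, rfl⟩ := trans9 x
  obtain ⟨g', hg', rfl⟩ := trans9 y
  refine ⟨⟨g' * g⁻¹, Subgroup.mul_mem _ hg' (Subgroup.inv_mem _ hg)⟩, ?_⟩
  show (g' * g⁻¹) (g pt0) = g' pt0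
  simp

theorem card_stab : Nat.card (MulAction.stabilizer G0 (0 : Fin 4060)) = 35942400 := by
  have h1 : (MulAction.stabilizer G0 (0 : Fin 4060)).index = Nat.card (Fin 4060) :=
    MulAction.index_stabilizer_of_transitive G0 (0 : Fin 4060)
  have h2 := Subgroup.index_mul_card (MulAction.stabilizer G0 (0 : Fin 4060))
  rw [h1, card_G0, Nat.card_eq_fintype_card, Fintype.card_fin] at h2
  omega

theorem a_sq : genG 7 ^ 2 = 1 := by
  have h := eqOn_sound validG rigid genG_aut (w1 := [7, 7]) (w2 := []) (ltG (by decide))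
    (ltG (by decide)) idG_a2
  rw [wprod_cons, wprod_cons, wprod_nil, mul_one] at h
  rw [pow_two]; exact h

theorem b_cube : genG 8 ^ 3 = 1 := by
  have h := eqOn_sound validG rigid genG_aut (w1 := [8, 8, 8]) (w2 := []) (ltG (by decide))
    (ltG (by decide)) idG_b3
  rw [wprod_cons, wprod_cons, wprod_cons, wprod_nil, mul_one] at h
  rw [pow_succ, pow_two, mul_assoc]; exact h

theorem ab_pow7 : (genG 7 * genG 8) ^ 7 = 1 := by
  have h := eqOn_sound validG rigid genG_aut
    (w1 := [7, 8, 7, 8, 7, 8, 7, 8, 7, 8, 7, 8, 7, 8]) (w2 := []) (ltG (by decide))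
    (ltG (by decide)) idG_abp
  have e : ([7, 8, 7, 8, 7, 8, 7, 8, 7, 8, 7, 8, 7, 8] : List ℕ) =
      (List.replicate 7 [7, 8]).flatten := by decide
  rw [e, wprod_rep, wprod_nil, wprod_cons, wprod_cons, wprod_nil, mul_one] at h
  exact h

/-- the suborbits of `Ru` -/
def DlG (i : Fin 2) : Finset (Fin 4060) :=
  Finset.univ.filter fun δ : Fin 4060 => (dig 4 15 clsPG δ.val == i.val + 1) = true

theorem mem_DlG (i : Fin 2) (δ : Fin 4060) : δ ∈ DlG i ↔ dig 4 15 clsPG δ.val = i.val + 1 := by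
  unfold DlG
  rw [Finset.mem_filter, beq_iff_eq]
  simp

theorem card_DlG (i : Fin 2) : (DlG i).card = sizesG.getD i.val 0 := by
  unfold DlG
  rw [card_filter_fin 4060 (fun x => dig 4 15 clsPG x == i.val + 1)]
  have h := clscntG
  rw [List.all_eq_true] at h
  exact beq_iff_eq.mp (h i.val (List.mem_range.mpr i.isLt))

theorem repsG_length : repsG.length = 2 := rfl

theorem cls_specG (x : Fin 4060) (hx : x ≠ pt0) :
    ∃ i : Fin 2, x ∈ DlG i ∧ ∃ hr : repsG.getD i.val 0 < 4060, ∃ g ∈ genGroup genG 7,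
      g ⟨repsG.getD i.val 0, hr⟩ = x := by
  have hx' : x.val ≠ 0 := fun h => hx (Fin.ext h)
  obtain ⟨i, hi, hd, hr, g, hg, hgx⟩ := clsCheck_sound validG cls_okG x hx'
  rw [repsG_length] at hi
  exact ⟨⟨i, hi⟩, (mem_DlG _ _).mpr hd, hr, g, hg, hgx⟩

theorem harithG : ∀ I : Finset (Fin 2), (1 + ∑ i ∈ I, sizesG.getD i.val 0) ∣ 4060 →
    I = ∅ ∨ I = Finset.univ := by decide

theorem simple_G0 : IsSimpleGroup G0 := by
  have hcard : Nat.card G0 = 145926144000 := card_G0
  have hnt : Nontrivial G0 := by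
    rw [← Finite.one_lt_card_iff_nontrivial, hcard]; norm_num
  refine { exists_pair_ne := hnt.exists_pair_ne, eq_bot_or_eq_top_of_normal := ?_ }
  intro N hN
  by_cases hNbot : N = ⊥
  · left; exact hNbot
  right
  have ha : genG 7 ∈ G0 := genG_mem_G0 7 (by norm_num)
  have hb : genG 8 ∈ G0 := genG_mem_G0 8 (by norm_num)
  have hgen : Subgroup.closure ({⟨genG 7, ha⟩, ⟨genG 8, hb⟩} : Set G0) = ⊤ :=
    closure_pair_top G0 (genG 7) (genG 8) rfl ha hb
  have h0 : dig 4 15 clsPG (pt0 : Fin 4060).val = 0 := cls0G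
  have htrN : MulAction.orbit N pt0 = Set.univ := by
    refine normal_transitive_of_suborbits (G := G0) (X := Fin 4060) pt0 ?_ DlG ?_ ?_ ?_ ?_ ?_ N hNbot
    · intro δ
      obtain ⟨g, hg, hgδ⟩ := trans9 δ
      exact ⟨⟨g, hg⟩, hgδ⟩
    · intro δ
      by_cases hδ : δ = pt0
      · left; exact hδ
      · right
        obtain ⟨i, hi, _⟩ := cls_specG δ hδ
        exact ⟨i, hi⟩
    · intro i hmem
      rw [mem_DlG, h0] at hmem
      omega
    · intro i j hij
      rw [Finset.disjoint_left]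
      intro δ h1 h2
      rw [mem_DlG] at h1 h2
      apply hij
      apply Fin.ext
      omega
    · intro i δ hδ δ' hδ'
      have hne : ∀ ε : Fin 4060, ε ∈ DlG i → ε ≠ pt0 := by
        intro ε hε he
        rw [he, mem_DlG, h0] at hε
        omega
      obtain ⟨i1, hi1, hr1, g1, hg1, hgx1⟩ := cls_specG δ (hne δ hδ)
      obtain ⟨i2, hi2, hr2, g2, hg2, hgx2⟩ := cls_specG δ' (hne δ' hδ')
      have e1 : i1 = i := by
        rw [mem_DlG] at hi1 hδ
        apply Fin.ext; omega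
      have e2 : i2 = i := by
        rw [mem_DlG] at hi2 hδ'
        apply Fin.ext; omega
      subst e1
      subst e2
      refine ⟨⟨g2 * g1⁻¹, le_G0 (Subgroup.mul_mem _ hg2 (Subgroup.inv_mem _ hg1))⟩, ?_, ?_⟩
      · show (g2 * g1⁻¹) pt0 = pt0
        exact fix7 _ (Subgroup.mul_mem _ hg2 (Subgroup.inv_mem _ hg1))
      · show (g2 * g1⁻¹) δ = δ'
        rw [← hgx1, ← hgx2]
        simp
    · intro I hI
      apply harithG I
      rw [Fintype.card_fin] at hI
      have : ∑ i ∈ I, (DlG i).card = ∑ i ∈ I, sizesG.getD i.val 0 :=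
        Finset.sum_congr rfl (fun i _ => card_DlG i)
      rw [← this]; exact hI
  have habN : (⟨genG 7, ha⟩ * ⟨genG 8, hb⟩ : G0) ∈ N := by
    refine mem_normal_of_coprime (G := G0) (X := Fin 4060) pt0 N htrN _ 7 ?_ ?_
    · apply Subtype.ext
      exact ab_pow7
    · rw [hcard, Fintype.card_fin]; norm_num
  exact normal_eq_top_of_triangle (⟨genG 7, ha⟩ : G0) ⟨genG 8, hb⟩ hgen (Subtype.ext a_sq)
    (Subtype.ext b_cube) N habN

/-! ### the Tits group -/

theorem ltT {l : List ℕ} (h : lettersLt 14 l = true) : ∀ j ∈ l, j < csT.length := by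
  rw [csT_length]; exact lettersLt_spec h

/-- the Tits group -/
def T0 : Subgroup (Equiv.Perm (Fin 4060)) := Subgroup.closure {genT 5, genT 6}

theorem T0_eq : T0 = genGroup genT 7 := by
  rw [genGroup_eq_closure_Ico genT hHKT0]
  unfold T0
  congr 1
  ext g
  simp only [Set.mem_insert_iff, Set.mem_singleton_iff, Set.mem_image, Set.mem_Ico]
  constructor
  · rintro (rfl | rfl)
    · exact ⟨5, by norm_num, rfl⟩
    · exact ⟨6, by norm_num, rfl⟩
  · rintro ⟨j, ⟨h1, h2⟩, rfl⟩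
    have : j = 5 ∨ j = 6 := by omega
    rcases this with rfl | rfl
    · left; rfl
    · right; rfl

theorem card_T0 : Nat.card T0 = 17971200 := by rw [T0_eq]; exact cardT0

theorem T0_le_G0 : T0 ≤ G0 := by
  unfold T0
  rw [Subgroup.closure_le]
  rintro x (rfl | rfl)
  · exact memT5
  · exact memT6

theorem genT_fix0 (j : ℕ) (hj : j < 7) : genT j pt0 = pt0 := by
  apply Fin.ext
  rw [genOf_apply validT j (by rw [csT_length]; omega)]
  have h := fix0T
  rw [List.all_eq_true] at h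
  exact beq_iff_eq.mp (h j (List.mem_range.mpr hj))

theorem T0_fix0 : ∀ g ∈ T0, g pt0 = pt0 := by
  have : T0 ≤ MulAction.stabilizer (Equiv.Perm (Fin 4060)) pt0 := by
    unfold T0
    rw [Subgroup.closure_le]
    rintro x (rfl | rfl)
    · exact genT_fix0 5 (by norm_num)
    · exact genT_fix0 6 (by norm_num)
  intro g hg
  exact this hg

theorem genT_mem_T0 (j : ℕ) (hj : j < 7) : genT j ∈ T0 := by
  rw [T0_eq]; exact Subgroup.subset_closure ⟨j, hj, rfl⟩

theorem le_T0 : genGroup genT 5 ≤ T0 := by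
  rw [T0_eq]; exact genGroup_mono genT (by norm_num)

theorem fixT5 : ∀ h ∈ genGroup genT 5, h ptb = ptb := by
  intro h hh
  have h1 := lvlT0.1
  rw [← h1] at hh
  exact hh.2

theorem t_sq : genT 5 ^ 2 = 1 := by
  have h := eqOn_sound validT rigid genT_aut (w1 := [5, 5]) (w2 := []) (ltT (by decide))
    (ltT (by decide)) idT_a2
  rw [wprod_cons, wprod_cons, wprod_nil, mul_one] at h
  rw [pow_two]; exact h

theorem t_cube : genT 6 ^ 3 = 1 := by
  have h := eqOn_sound validT rigid genT_aut (w1 := [6, 6, 6]) (w2 := []) (ltT (by decide))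
    (ltT (by decide)) idT_b3
  rw [wprod_cons, wprod_cons, wprod_cons, wprod_nil, mul_one] at h
  rw [pow_succ, pow_two, mul_assoc]; exact h

theorem t_pow13 : (genT 5 * genT 6) ^ 13 = 1 := by
  have h := eqOn_sound validT rigid genT_aut
    (w1 := [5, 6, 5, 6, 5, 6, 5, 6, 5, 6, 5, 6, 5, 6, 5, 6, 5, 6, 5, 6, 5, 6, 5, 6, 5, 6])
    (w2 := []) (ltT (by decide)) (ltT (by decide)) idT_abp
  have e : ([5, 6, 5, 6, 5, 6, 5, 6, 5, 6, 5, 6, 5, 6, 5, 6, 5, 6, 5, 6, 5, 6, 5, 6, 5, 6] : List ℕ) =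
      (List.replicate 13 [5, 6]).flatten := by decide
  rw [e, wprod_rep, wprod_nil, wprod_cons, wprod_cons, wprod_nil, mul_one] at h
  exact h

/-- the orbit of `ptb` under the Tits group -/
theorem orbitT (δ : Fin 4060) : δ ∈ MulAction.orbit T0 ptb ↔ orbMT0.testBit δ.val = true := by
  rw [lvlT0.2.2 δ, ← T0_eq]
  constructor
  · rintro ⟨g, rfl⟩
    exact ⟨g.val, g.property, rfl⟩
  · rintro ⟨g, hg, rfl⟩
    exact ⟨⟨g, hg⟩, rfl⟩

theorem card_orbitT : Nat.card (MulAction.orbit T0 ptb) = 1755 := by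
  have h1 := card_testBit 4060 orbMT0
  rw [cntT0] at h1
  rw [← h1]
  apply Nat.card_congr
  exact Equiv.subtypeEquivRight (fun δ => orbitT δ)

/-- the suborbits of the Tits group on the orbit of `ptb` -/
def DlT (i : Fin 4) : Finset (Fin 4060) :=
  Finset.univ.filter fun δ : Fin 4060 => (dig 4 15 clsPT δ.val == clsinT.getD i.val 0) = true

theorem mem_DlT (i : Fin 4) (δ : Fin 4060) :
    δ ∈ DlT i ↔ dig 4 15 clsPT δ.val = clsinT.getD i.val 0 := by
  unfold DlT
  rw [Finset.mem_filter, beq_iff_eq]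
  simp

theorem clsin_spec (x : ℕ) (hx : x < 4060) :
    orbMT0.testBit x = ((x == 2305) || clsinT.contains (dig 4 15 clsPT x)) := by
  have h := clsin_ok
  rw [List.all_eq_true] at h
  exact beq_iff_eq.mp (h x (List.mem_range.mpr hx))

theorem clsinT_pos : ∀ i : Fin 4, 1 ≤ clsinT.getD i.val 0 ∧ clsinT.getD i.val 0 ≤ 8 := by decide

theorem clsinT_inj : ∀ i j : Fin 4, clsinT.getD i.val 0 = clsinT.getD j.val 0 → i = j := by decide

theorem clsinT_mem : ∀ c : ℕ, clsinT.contains c = true → ∃ i : Fin 4, clsinT.getD i.val 0 = c := by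
  intro c hc
  have hc' : c ∈ clsinT := List.contains_iff_mem.mp hc
  have key : ∀ c ∈ clsinT, ∃ i : Fin 4, clsinT.getD i.val 0 = c := by decide
  exact key c hc'

theorem card_DlT (i : Fin 4) : (DlT i).card = sizesT.getD (clsinT.getD i.val 0 - 1) 0 := by
  unfold DlT
  rw [card_filter_fin 4060 (fun x => dig 4 15 clsPT x == clsinT.getD i.val 0)]
  have h := clscntT
  rw [List.all_eq_true] at h
  obtain ⟨h1, h2⟩ := clsinT_pos i
  have h3 := beq_iff_eq.mp (h (clsinT.getD i.val 0 - 1) (List.mem_range.mpr (by omega)))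
  rw [Nat.sub_add_cancel h1] at h3
  exact h3

theorem repsT_length : repsT.length = 8 := rfl

theorem cls_specT (x : Fin 4060) (hx : x ≠ ptb) :
    ∃ c, c < 8 ∧ dig 4 15 clsPT x.val = c + 1 ∧ ∃ hr : repsT.getD c 0 < 4060,
      ∃ g ∈ genGroup genT 5, g ⟨repsT.getD c 0, hr⟩ = x := by
  have hx' : x.val ≠ 2305 := fun h => hx (Fin.ext h)
  obtain ⟨i, hi, hd, hr, g, hg, hgx⟩ := clsCheck_sound validT cls_okT x hx'
  rw [repsT_length] at hi
  exact ⟨i, hi, hd, hr, g, hg, hgx⟩

theorem harithT : ∀ I : Finset (Fin 4),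
    (1 + ∑ i ∈ I, sizesT.getD (clsinT.getD i.val 0 - 1) 0) ∣ 1755 → I = ∅ ∨ I = Finset.univ := by
  decide

theorem base_in_orbit : orbMT0.testBit 2306 = true ∧ orbMT0.testBit 2307 = true ∧
    orbMT0.testBit 2308 = true := by decide +kernel

theorem faithfulT (g : T0) (h : ∀ x ∈ MulAction.orbit T0 ptb, g • x = x) : g = 1 := by
  have hb0 : g.val ptb = ptb := h ptb (MulAction.mem_orbit_self ptb)
  have hb1 : g.val ⟨2306, by norm_num⟩ = ⟨2306, by norm_num⟩ :=
    h _ ((orbitT _).mpr base_in_orbit.1)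
  have hb2 : g.val ⟨2307, by norm_num⟩ = ⟨2307, by norm_num⟩ :=
    h _ ((orbitT _).mpr base_in_orbit.2.1)
  have hb3 : g.val ⟨2308, by norm_num⟩ = ⟨2308, by norm_num⟩ :=
    h _ ((orbitT _).mpr base_in_orbit.2.2)
  have m7 : g.val ∈ genGroup genT 7 := by rw [← T0_eq]; exact g.property
  have m5 : g.val ∈ genGroup genT 5 := by
    rw [← lvlT0.1]; exact ⟨m7, hb0⟩
  have m3 : g.val ∈ genGroup genT 3 := by
    rw [← lvlT1.1]; exact ⟨m5, hb1⟩
  have m1 : g.val ∈ genGroup genT 1 := by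
    rw [← lvlT2.1]; exact ⟨m3, hb2⟩
  have m0 : g.val ∈ genGroup genT 0 := by
    rw [← lvlT3.1]; exact ⟨m1, hb3⟩
  rw [genGroup_zero, Subgroup.mem_bot] at m0
  exact Subtype.ext m0

theorem simple_T0 : IsSimpleGroup T0 := by
  have hcard : Nat.card T0 = 17971200 := card_T0
  have hnt : Nontrivial T0 := by
    rw [← Finite.one_lt_card_iff_nontrivial, hcard]; norm_num
  have ha : genT 5 ∈ T0 := genT_mem_T0 5 (by norm_num)
  have hb : genT 6 ∈ T0 := genT_mem_T0 6 (by norm_num)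
  have hgen : Subgroup.closure ({⟨genT 5, ha⟩, ⟨genT 6, hb⟩} : Set T0) = ⊤ :=
    closure_pair_top T0 (genT 5) (genT 6) rfl ha hb
  have h0 : dig 4 15 clsPT (ptb : Fin 4060).val = 0 := cls0T
  have hne : ∀ i, ∀ ε : Fin 4060, ε ∈ DlT i → ε ≠ ptb := by
    intro i ε hε he
    rw [he, mem_DlT, h0] at hε
    have := (clsinT_pos i).1
    omega
  refine isSimpleGroup_of_orbit_action (G := T0) (X := Fin 4060) ptb faithfulT DlT 1755
    card_orbitT ?_ ?_ ?_ ?_ ?_ ?_ ⟨genT 5, ha⟩ ⟨genT 6, hb⟩ hgen (Subtype.ext t_sq)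
    (Subtype.ext t_cube) 13 (Subtype.ext t_pow13) ?_ hnt
  · intro δ hδ
    rw [orbitT, clsin_spec δ.val δ.isLt, Bool.or_eq_true, beq_iff_eq] at hδ
    rcases hδ with hδ | hδ
    · left; exact Fin.ext hδ
    · right
      obtain ⟨i, hi⟩ := clsinT_mem _ hδ
      exact ⟨i, (mem_DlT i δ).mpr hi.symm⟩
  · intro i δ hδ
    rw [orbitT, clsin_spec δ.val δ.isLt, Bool.or_eq_true]
    right
    rw [mem_DlT] at hδ
    rw [hδ]
    apply List.contains_iff_mem.mpr
    have key : ∀ i : Fin 4, clsinT.getD i.val 0 ∈ clsinT := by decide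
    exact key i
  · intro i hmem
    exact hne i ptb hmem rfl
  · intro i j hij
    rw [Finset.disjoint_left]
    intro δ h1 h2
    rw [mem_DlT] at h1 h2
    exact hij (clsinT_inj i j (h1.symm.trans h2))
  · intro i δ hδ δ' hδ'
    obtain ⟨c1, hc1, hd1, hr1, g1, hg1, hgx1⟩ := cls_specT δ (hne i δ hδ)
    obtain ⟨c2, hc2, hd2, hr2, g2, hg2, hgx2⟩ := cls_specT δ' (hne i δ' hδ')
    rw [mem_DlT] at hδ hδ'
    have e : c1 = c2 := by omega
    subst e
    refine ⟨⟨g2 * g1⁻¹, le_T0 (Subgroup.mul_mem _ hg2 (Subgroup.inv_mem _ hg1))⟩, ?_, ?_⟩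
    · show (g2 * g1⁻¹) ptb = ptb
      exact fixT5 _ (Subgroup.mul_mem _ hg2 (Subgroup.inv_mem _ hg1))
    · show (g2 * g1⁻¹) δ = δ'
      rw [← hgx1, ← hgx2]
      simp
  · intro I hI
    apply harithT I
    have : ∑ i ∈ I, (DlT i).card = ∑ i ∈ I, sizesT.getD (clsinT.getD i.val 0 - 1) 0 :=
      Finset.sum_congr rfl (fun i _ => card_DlT i)
    rw [← this]; exact hI
  · rw [hcard]; norm_num

/-- a simple subgroup of order `17971200` of the point stabilizer -/
theorem tits_in_stab : ∃ T : Subgroup (MulAction.stabilizer G0 (0 : Fin 4060)),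
    IsSimpleGroup T ∧ Nat.card T = 17971200 := by
  have hT1S : T0.subgroupOf G0 ≤ MulAction.stabilizer G0 (0 : Fin 4060) := by
    intro x hx
    rw [Subgroup.mem_subgroupOf] at hx
    rw [MulAction.mem_stabilizer_iff]
    exact T0_fix0 x.val hx
  let e1 := Subgroup.subgroupOfEquivOfLe hT1S
  let e2 := Subgroup.subgroupOfEquivOfLe T0_le_G0
  let e := e1.trans e2
  refine ⟨(T0.subgroupOf G0).subgroupOf (MulAction.stabilizer G0 (0 : Fin 4060)), ?_, ?_⟩
  · haveI := simple_T0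
    exact e.isSimpleGroup
  · rw [Nat.card_congr e.toEquiv]; exact card_T0

end Cfsg.Agent.Helper56.Ru
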