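import Cfsg.Agent.Helper56.RuNetADef

set_option autoImplicit false
set_option maxRecDepth 1000000

namespace Cfsg.Agent.Helper56.Ru

open Cfsg.Agent.Helper56 Cfsg.Agent.Helper56.PermW

theorem netA1_p0 : rangeAll 0 1015 (netPt1 12 4095 netA cA) = true := by decide +kernel

theorem netA1_p1 : rangeAll 1015 2030 (netPt1 12 4095 netA cA) = true := by decide +kernel

end Cfsg.Agent.Helper56.Ru
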