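import Cfsg.Agent.Helper56.RuNetADef
import Cfsg.Agent.Helper56.RuNetA1P0

set_option autoImplicit false
set_option maxRecDepth 1000000

namespace Cfsg.Agent.Helper56.Ru

open Cfsg.Agent.Helper56 Cfsg.Agent.Helper56.PermW

theorem netA1_p2 : rangeAll 2030 3045 (netPt1 12 4095 netA cA) = true := by decide +kernel

theorem netA1_p3 : rangeAll 3045 4060 (netPt1 12 4095 netA cA) = true := by decide +kernel

end Cfsg.Agent.Helper56.Ru
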