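import Cfsg.Agent.Helper56.RuNetA1P0
import Cfsg.Agent.Helper56.RuNetA1P1

set_option autoImplicit false
set_option maxRecDepth 1000000

namespace Cfsg.Agent.Helper56.Ru

open Cfsg.Agent.Helper56 Cfsg.Agent.Helper56.PermW

theorem netA1 : ∀ v, v < 4060 → netPt1 12 4095 netA cA v = true :=
  fun v hv => ptwise2 netA1_p0 (ptwise2 netA1_p1 (ptwise2 netA1_p2 (ptwise1 netA1_p3))) v (Nat.zero_le v) hv

end Cfsg.Agent.Helper56.Ru
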