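import Cfsg.Agent.Helper56.RuRound1P0
import Cfsg.Agent.Helper56.RuRound1P1
import Cfsg.Agent.Helper56.RuRound1P2
import Cfsg.Agent.Helper56.RuRound1P3
import Cfsg.Agent.Helper56.RuRound1P4
import Cfsg.Agent.Helper56.RuRound1P5
import Cfsg.Agent.Helper56.RuRound1P6
import Cfsg.Agent.Helper56.RuRound1P7
import Cfsg.Agent.Helper56.RuRound1P8
import Cfsg.Agent.Helper56.RuRound1P9
import Cfsg.Agent.Helper56.RuRound1P10
import Cfsg.Agent.Helper56.RuRound1P11
import Cfsg.Agent.Helper56.RuRound1P12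
import Cfsg.Agent.Helper56.RuRound1P13
import Cfsg.Agent.Helper56.RuRound1P14
import Cfsg.Agent.Helper56.RuRound1P15
import Cfsg.Agent.Helper56.RuRound1P16
import Cfsg.Agent.Helper56.RuRound1P17
import Cfsg.Agent.Helper56.RuRound1P18
import Cfsg.Agent.Helper56.RuRound1P19
import Cfsg.Agent.Helper56.RuRound1P20

set_option autoImplicit false
set_option maxRecDepth 1000000

namespace Cfsg.Agent.Helper56.Ru

open Cfsg.Agent.Helper56 Cfsg.Agent.Helper56.PermW

theorem round1 : ∀ v, v < 4060 → roundPt nb gf Ff (col P1) (col P2) v = true :=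
  fun v hv => roundPt_of_F 12 4095 nb_eq gf Ff (col P1) (col P2) v (ptwise2 round1_p0 (ptwise2 round1_p1 (ptwise2 round1_p2 (ptwise2 round1_p3 (ptwise2 round1_p4 (ptwise2 round1_p5 (ptwise2 round1_p6 (ptwise2 round1_p7 (ptwise2 round1_p8 (ptwise2 round1_p9 (ptwise2 round1_p10 (ptwise2 round1_p11 (ptwise2 round1_p12 (ptwise2 round1_p13 (ptwise2 round1_p14 (ptwise2 round1_p15 (ptwise2 round1_p16 (ptwise2 round1_p17 (ptwise2 round1_p18 (ptwise2 round1_p19 (ptwise2 round1_p20 (ptwise2 round1_p21 (ptwise2 round1_p22 (ptwise2 round1_p23 (ptwise2 round1_p24 (ptwise2 round1_p25 (ptwise2 round1_p26 (ptwise2 round1_p27 (ptwise2 round1_p28 (ptwise2 round1_p29 (ptwise2 round1_p30 (ptwise2 round1_p31 (ptwise2 round1_p32 (ptwise2 round1_p33 (ptwise2 round1_p34 (ptwise2 round1_p35 (ptwise2 round1_p36 (ptwise2 round1_p37 (ptwise2 round1_p38 (ptwise2 round1_p39 (ptwise2 round1_p40 (ptwise2 round1_p41 (ptwise2 round1_p42 (ptwise2 round1_p43 (ptwise2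 round1_p44 (ptwise2 round1_p45 (ptwise2 round1_p46 (ptwise2 round1_p47 (ptwise2 round1_p48 (ptwise2 round1_p49 (ptwise2 round1_p50 (ptwise2 round1_p51 (ptwise2 round1_p52 (ptwise2 round1_p53 (ptwise2 round1_p54 (ptwise2 round1_p55 (ptwise2 round1_p56 (ptwise2 round1_p57 (ptwise2 round1_p58 (ptwise2 round1_p59 (ptwise2 round1_p60 (ptwise2 round1_p61 (ptwise2 round1_p62 (ptwise2 round1_p63 (ptwise2 round1_p64 (ptwise2 round1_p65 (ptwise2 round1_p66 (ptwise2 round1_p67 (ptwise2 round1_p68 (ptwise2 round1_p69 (ptwise2 round1_p70 (ptwise2 round1_p71 (ptwise2 round1_p72 (ptwise2 round1_p73 (ptwise2 round1_p74 (ptwise2 round1_p75 (ptwise2 round1_p76 (ptwise2 round1_p77 (ptwise2 round1_p78 (ptwise2 round1_p79 (ptwise2 round1_p80 (ptwise1 round1_p81))))))))))))))))))))))))))))))))))))))))))))))))))))))))))))))))))))))))))))))))) v (Nat.zero_le v) hv)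

end Cfsg.Agent.Helper56.Ru
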