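import Cfsg.Agent.Helper56.RuCol
import Cfsg.Agent.Helper56.RuRound2P10

set_option autoImplicit false
set_option maxRecDepth 1000000

namespace Cfsg.Agent.Helper56.Ru

open Cfsg.Agent.Helper56 Cfsg.Agent.Helper56.PermW

theorem round2_p44 : rangeAll 2200 2250 (roundPtF 12 4095 nbc 1755 (fun u => gf (col P2 u)) Ff (col P2) (col P3)) = true := by decide +kernel

theorem round2_p45 : rangeAll 2250 2300 (roundPtF 12 4095 nbc 1755 (fun u => gf (col P2 u)) Ff (col P2) (col P3)) = true := by decide +kernel

theorem round2_p46 : rangeAll 2300 2350 (roundPtF 12 4095 nbc 1755 (fun u => gf (col P2 u)) Ff (col P2) (col P3)) = true := by decide +kernel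

theorem round2_p47 : rangeAll 2350 2400 (roundPtF 12 4095 nbc 1755 (fun u => gf (col P2 u)) Ff (col P2) (col P3)) = true := by decide +kernel

end Cfsg.Agent.Helper56.Ru
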