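import Cfsg.Agent.Helper56.RuRound2P0
import Cfsg.Agent.Helper56.RuRound2P1
import Cfsg.Agent.Helper56.RuRound2P2
import Cfsg.Agent.Helper56.RuRound2P3
import Cfsg.Agent.Helper56.RuRound2P4
import Cfsg.Agent.Helper56.RuRound2P5
import Cfsg.Agent.Helper56.RuRound2P6
import Cfsg.Agent.Helper56.RuRound2P7
import Cfsg.Agent.Helper56.RuRound2P8
import Cfsg.Agent.Helper56.RuRound2P9
import Cfsg.Agent.Helper56.RuRound2P10
import Cfsg.Agent.Helper56.RuRound2P11
import Cfsg.Agent.Helper56.RuRound2P12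
import Cfsg.Agent.Helper56.RuRound2P13
import Cfsg.Agent.Helper56.RuRound2P14
import Cfsg.Agent.Helper56.RuRound2P15
import Cfsg.Agent.Helper56.RuRound2P16
import Cfsg.Agent.Helper56.RuRound2P17
import Cfsg.Agent.Helper56.RuRound2P18
import Cfsg.Agent.Helper56.RuRound2P19
import Cfsg.Agent.Helper56.RuRound2P20

set_option autoImplicit false
set_option maxRecDepth 1000000

namespace Cfsg.Agent.Helper56.Ru

open Cfsg.Agent.Helper56 Cfsg.Agent.Helper56.PermW

theorem round2 : ∀ v, v < 4060 → roundPt nb gf Ff (col P2) (col P3) v = true :=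
  fun v hv => roundPt_of_F 12 4095 nb_eq gf Ff (col P2) (col P3) v (ptwise2 round2_p0 (ptwise2 round2_p1 (ptwise2 round2_p2 (ptwise2 round2_p3 (ptwise2 round2_p4 (ptwise2 round2_p5 (ptwise2 round2_p6 (ptwise2 round2_p7 (ptwise2 round2_p8 (ptwise2 round2_p9 (ptwise2 round2_p10 (ptwise2 round2_p11 (ptwise2 round2_p12 (ptwise2 round2_p13 (ptwise2 round2_p14 (ptwise2 round2_p15 (ptwise2 round2_p16 (ptwise2 round2_p17 (ptwise2 round2_p18 (ptwise2 round2_p19 (ptwise2 round2_p20 (ptwise2 round2_p21 (ptwise2 round2_p22 (ptwise2 round2_p23 (ptwise2 round2_p24 (ptwise2 round2_p25 (ptwise2 round2_p26 (ptwise2 round2_p27 (ptwise2 round2_p28 (ptwise2 round2_p29 (ptwise2 round2_p30 (ptwise2 round2_p31 (ptwise2 round2_p32 (ptwise2 round2_p33 (ptwise2 round2_p34 (ptwise2 round2_p35 (ptwise2 round2_p36 (ptwise2 round2_p37 (ptwise2 round2_p38 (ptwise2 round2_p39 (ptwise2 round2_p40 (ptwise2 round2_p41 (ptwise2 round2_p42 (ptwise2 round2_p43 (ptwise2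 round2_p44 (ptwise2 round2_p45 (ptwise2 round2_p46 (ptwise2 round2_p47 (ptwise2 round2_p48 (ptwise2 round2_p49 (ptwise2 round2_p50 (ptwise2 round2_p51 (ptwise2 round2_p52 (ptwise2 round2_p53 (ptwise2 round2_p54 (ptwise2 round2_p55 (ptwise2 round2_p56 (ptwise2 round2_p57 (ptwise2 round2_p58 (ptwise2 round2_p59 (ptwise2 round2_p60 (ptwise2 round2_p61 (ptwise2 round2_p62 (ptwise2 round2_p63 (ptwise2 round2_p64 (ptwise2 round2_p65 (ptwise2 round2_p66 (ptwise2 round2_p67 (ptwise2 round2_p68 (ptwise2 round2_p69 (ptwise2 round2_p70 (ptwise2 round2_p71 (ptwise2 round2_p72 (ptwise2 round2_p73 (ptwise2 round2_p74 (ptwise2 round2_p75 (ptwise2 round2_p76 (ptwise2 round2_p77 (ptwise2 round2_p78 (ptwise2 round2_p79 (ptwise2 round2_p80 (ptwise1 round2_p81))))))))))))))))))))))))))))))))))))))))))))))))))))))))))))))))))))))))))))))))) v (Nat.zero_le v) hv)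

end Cfsg.Agent.Helper56.Ru
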