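import Cfsg.Agent.Helper56.RuGraphOK
import Cfsg.Agent.Helper56.RuCol
import Cfsg.Agent.Helper56.RuRound1
import Cfsg.Agent.Helper56.RuRound2

set_option autoImplicit false
set_option maxRecDepth 1000000

namespace Cfsg.Agent.Helper56.Ru

open Cfsg.Agent.Helper56 Cfsg.Agent.Helper56.PermW

theorem graphOK : GraphOK 4060 nb := graph_ok

theorem init_ok : ∀ v, v < 4060 → initPt B (col P0) v = true :=
  fun v hv => ptwise1 init_p v (Nat.zero_le v) hv

theorem patt_ok : ∀ v, v < 4060 → pattPt (B.map fun b => maskOf (nb b)) Ff (col P0) (col P1) v = true :=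
  fun v hv => ptwise1 patt_p v (Nat.zero_le v) hv

theorem B_lt : ∀ b ∈ B, b < 4060 := by decide

theorem rigid : Rigid 4060 nb B := by
  apply rigid_of_invariant sorted_ok
  intro σ hσ hB
  have h0 := init_invariant (n := 4060) (B := B) (col := col P0) init_ok σ hB
  have h1 := patt_invariant B_lt patt_ok σ hσ hB h0
  have h2 := round_invariant graphOK round1 σ hσ h1
  exact round_invariant graphOK round2 σ hσ h2

end Cfsg.Agent.Helper56.Ru
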