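import Mathlib
import Cfsg.Agent.Helper56.GL23

/-!
# Brute-force facts about `SL(2,3)` via quadruples over `ZMod 3`
-/

set_option autoImplicit false

namespace Cfsg.Agent.Helper56.SL23

open Cfsg.Agent.Helper56.GL23
open scoped commutatorElement

abbrev SL := Matrix.SpecialLinearGroup (Fin 2) (ZMod 3)

def qdet (x : Q3) : ZMod 3 := x.1 * x.2.2.2 - x.2.1 * x.2.2.1

def qinv (x : Q3) : Q3 := (x.2.2.2, -x.2.1, -x.2.2.1, x.1)

def qneg : Q3 := (2, 0, 0, 2)

def qcomm (x y : Q3) : Q3 := qmul (qmul (qmul x y) (qinv x)) (qinv y)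

def qconj (a h : Q3) : Q3 := qmul (qmul a h) (qinv a)

def q (g : SL) : Q3 := ofMat g.1

theorem qdet_q (g : SL) : qdet (q g) = 1 := by
  have := g.2
  rw [Matrix.det_fin_two] at this
  exact this

theorem q_mul (g h : SL) : q (g * h) = qmul (q g) (q h) := by
  unfold q
  rw [Matrix.SpecialLinearGroup.coe_mul, ofMat_mul]

theorem q_one : q 1 = qone := by
  unfold q
  rw [Matrix.SpecialLinearGroup.coe_one, ofMat_one]

theorem q_inv (g : SL) : q g⁻¹ = qinv (q g) := by
  unfold q
  rw [Matrix.SpecialLinearGroup.coe_inv, Matrix.adjugate_fin_two]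
  simp [ofMat, qinv]

theorem q_pow (g : SL) (k : ℕ) : q (g ^ k) = qpow (q g) k := by
  unfold q
  rw [Matrix.SpecialLinearGroup.coe_pow, ofMat_pow]

theorem q_injective : Function.Injective q := by
  intro g h hgh
  apply Subtype.ext
  exact ofMat_injective hgh

theorem q_comm (g h : SL) : q ⁅g, h⁆ = qcomm (q g) (q h) := by
  rw [commutatorElement_def, q_mul, q_mul, q_mul, q_inv, q_inv]
  rfl

def mk (x : Q3) (h : qdet x = 1) : SL :=
  ⟨toMat x, by rw [Matrix.det_fin_two]; simpa [toMat, qdet] using h⟩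

theorem q_mk (x : Q3) (h : qdet x = 1) : q (mk x h) = x := ofMat_toMat x

theorem eq_one_iff (g : SL) : g = 1 ↔ q g = qone := by
  rw [← q_one]
  exact q_injective.eq_iff.symm

theorem pow_eq_one_iff (g : SL) (k : ℕ) : g ^ k = 1 ↔ qpow (q g) k = qone := by
  rw [eq_one_iff, q_pow]

/-! ### The brute-force facts -/

set_option maxRecDepth 100000 in
set_option synthInstance.maxSize 4096 in
theorem k_card : Fintype.card {x : Q3 // qdet x = 1} = 24 := by
  decide +kernel

set_option maxRecDepth 100000 in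
set_option synthInstance.maxSize 4096 in
theorem k_center : ∀ z : Q3, qdet z = 1 →
    ((∀ x : Q3, qdet x = 1 → qmul x z = qmul z x) ↔ (z = qone ∨ z = qneg)) := by
  decide +kernel

set_option maxRecDepth 100000 in
set_option synthInstance.maxSize 4096 in
theorem k_comm : ∀ x y : Q3, qdet x = 1 → qdet y = 1 → qpow (qcomm x y) 4 = qone := by
  decide +kernel

set_option maxRecDepth 100000 in
set_option synthInstance.maxSize 4096 in
theorem k_comm_surj : ∀ z : Q3, qdet z = 1 → qpow z 4 = qone →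
    ∃ x y : Q3, qdet x = 1 ∧ qdet y = 1 ∧ qcomm x y = z := by
  decide +kernel

set_option maxRecDepth 100000 in
set_option synthInstance.maxSize 4096 in
theorem k_mul : ∀ x y : Q3, qdet x = 1 → qdet y = 1 → qpow x 4 = qone → qpow y 4 = qone →
    qpow (qmul x y) 4 = qone := by
  decide +kernel

set_option maxRecDepth 100000 in
set_option synthInstance.maxSize 4096 in
theorem k_conj : ∀ h : Q3, qdet h = 1 → qpow h 4 = qone → qpow h 2 ≠ qone →
    ∀ z : Q3, qdet z = 1 → qpow z 4 = qone →
    ∃ a b : Q3, qdet a = 1 ∧ qdet b = 1 ∧ z = qmul (qconj a h) (qconj b h) := by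
  decide +kernel

set_option maxRecDepth 100000 in
set_option synthInstance.maxSize 4096 in
theorem k_big : ∀ g : Q3, qdet g = 1 → qpow g 4 ≠ qone →
    ∃ a : Q3, qdet a = 1 ∧ qpow (qcomm a g) 2 ≠ qone := by
  decide +kernel

set_option maxRecDepth 100000 in
set_option synthInstance.maxSize 4096 in
theorem k_coset : ∀ g : Q3, qdet g = 1 → qpow g 4 ≠ qone → ∀ x : Q3, qdet x = 1 →
    ∃ z : Q3, qdet z = 1 ∧ qpow z 4 = qone ∧
      (x = z ∨ x = qmul z g ∨ x = qmul (qmul z g) g) := by
  decide +kernel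

set_option maxRecDepth 100000 in
set_option synthInstance.maxSize 4096 in
theorem k_sq : ∀ g : Q3, qdet g = 1 → qpow g 2 = qone → g = qone ∨ g = qneg := by
  decide +kernel

theorem qdet_qneg : qdet qneg = 1 := by decide

end Cfsg.Agent.Helper56.SL23
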