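import Mathlib

set_option autoImplicit false

namespace Cfsg.Agent.Helper56.SL25

/-- lookup table of an embedding `SL(2,5) → SL(2,11)`, indexed by the four entries -/
def tbl : List (List (List (List (ℕ × ℕ × ℕ × ℕ)))) :=
[[[[(0, 0, 0, 0), (0, 0, 0, 0), (0, 0, 0, 0), (0, 0, 0, 0), (0, 0, 0, 0)], [(0, 0, 0, 0), (0, 0, 0, 0), (0, 0, 0, 0), (0, 0, 0, 0), (0, 0, 0, 0)], [(0, 0, 0, 0), (0, 0, 0, 0), (0, 0, 0, 0), (0, 0, 0, 0), (0, 0, 0, 0)], [(0, 0, 0, 0), (0, 0, 0, 0), (0, 0, 0, 0), (0, 0, 0, 0), (0, 0, 0, 0)], [(0, 0, 0, 0), (0, 0, 0, 0), (0, 0, 0, 0), (0, 0, 0, 0), (0, 0, 0, 0)]], [[(0, 0, 0, 0), (0, 0, 0, 0), (0, 0, 0, 0), (0, 0, 0, 0), (0, 0, 0, 0)], [(0, 0, 0, 0), (0, 0, 0, 0), (0, 0, 0, 0), (0, 0, 0, 0), (0, 0,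 0, 0)], [(0, 0, 0, 0), (0, 0, 0, 0), (0, 0, 0, 0), (0, 0, 0, 0), (0, 0, 0, 0)], [(0, 0, 0, 0), (0, 0, 0, 0), (0, 0, 0, 0), (0, 0, 0, 0), (0, 0, 0, 0)], [(0, 10, 1, 0), (4, 10, 2, 8), (1, 9, 5, 2), (10, 6, 2, 9), (7, 9, 1, 3)]], [[(0, 0, 0, 0), (0, 0, 0, 0), (0, 0, 0, 0), (0, 0, 0, 0), (0, 0, 0, 0)], [(0, 0, 0, 0), (0, 0, 0, 0), (0, 0, 0, 0), (0, 0, 0, 0), (0, 0, 0, 0)], [(8, 10, 10, 3), (8, 3, 3, 4), (4, 0, 0, 3), (9, 8, 8, 6), (4, 1, 1, 6)], [(0, 0, 0, 0), (0, 0, 0, 0), (0, 0, 0, 0), (0, 0, 0, 0), (0, 0, 0, 0)], [(0, 0, 0, 0), (0, 0, 0, 0), (0, 0, 0, 0), (0, 0, 0, 0), (0, 0, 0, 0)]], [[(0, 0, 0, 0), (0, 0, 0, 0), (0, 0, 0, 0), (0, 0, 0, 0), (0, 0, 0, 0)], [(0, 0, 0, 0), (0, 0, 0, 0), (0, 0, 0, 0), (0, 0, 0, 0),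 (0, 0, 0, 0)], [(0, 0, 0, 0), (0, 0, 0, 0), (0, 0, 0, 0), (0, 0, 0, 0), (0, 0, 0, 0)], [(3, 1, 1, 8), (7, 10, 10, 5), (2, 3, 3, 5), (7, 0, 0, 8), (3, 8, 8, 7)], [(0, 0, 0, 0), (0, 0, 0, 0), (0, 0, 0, 0), (0, 0, 0, 0), (0, 0, 0, 0)]], [[(0, 0, 0, 0), (0, 0, 0, 0), (0, 0, 0, 0), (0, 0, 0, 0), (0, 0, 0, 0)], [(0, 1, 10, 0), (4, 2, 10, 8), (1, 5, 9, 2), (10, 2, 6, 9), (7, 1, 9, 3)], [(0, 0, 0, 0), (0, 0, 0, 0), (0, 0, 0, 0), (0, 0, 0, 0), (0, 0, 0, 0)], [(0, 0, 0, 0), (0, 0, 0, 0), (0, 0, 0, 0), (0, 0, 0, 0), (0, 0, 0, 0)], [(0, 0, 0, 0), (0, 0, 0, 0), (0, 0, 0, 0), (0, 0, 0, 0), (0, 0, 0, 0)]]],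
 [[[(0, 0, 0, 0), (1, 0, 0, 1), (0, 0, 0, 0), (0, 0, 0, 0), (0, 0, 0, 0)], [(0, 0, 0, 0), (1, 4, 3, 2), (0, 0, 0, 0), (0, 0, 0, 0), (0, 0, 0, 0)], [(0, 0, 0, 0), (2, 1, 9, 5), (0, 0, 0, 0), (0, 0, 0, 0), (0, 0, 0, 0)], [(0, 0, 0, 0), (5, 10, 2, 2), (0, 0, 0, 0), (0, 0, 0, 0), (0, 0, 0, 0)], [(0, 0, 0, 0), (2, 7, 8, 1), (0, 0, 0, 0), (0, 0, 0, 0), (0, 0, 0, 0)]], [[(0, 0, 0, 0), (1, 3, 4, 2), (0, 0, 0, 0), (0, 0, 0, 0), (0, 0, 0, 0)], [(0, 0, 0, 0), (0, 0, 0, 0), (6, 0, 0, 2), (0, 0, 0, 0), (0, 0, 0, 0)], [(0, 0, 0, 0), (0, 0, 0, 0), (0, 0, 0, 0), (6, 8, 7, 4), (0, 0, 0, 0)], [(0, 0, 0, 0), (0, 0, 0, 0), (0, 0, 0, 0), (0, 0, 0, 0), (1, 2, 10, 10)], [(8, 9, 1, 4), (0, 0, 0, 0), (0, 0, 0, 0), (0, 0, 0, 0), (0, 0, 0,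 0)]], [[(0, 0, 0, 0), (2, 9, 1, 5), (0, 0, 0, 0), (0, 0, 0, 0), (0, 0, 0, 0)], [(0, 0, 0, 0), (0, 0, 0, 0), (0, 0, 0, 0), (6, 7, 8, 4), (0, 0, 0, 0)], [(5, 1, 1, 7), (0, 0, 0, 0), (0, 0, 0, 0), (0, 0, 0, 0), (0, 0, 0, 0)], [(0, 0, 0, 0), (0, 0, 0, 0), (9, 7, 6, 6), (0, 0, 0, 0), (0, 0, 0, 0)], [(0, 0, 0, 0), (0, 0, 0, 0), (0, 0, 0, 0), (0, 0, 0, 0), (0, 9, 6, 0)]], [[(0, 0, 0, 0), (5, 2, 10, 2), (0, 0, 0, 0), (0, 0, 0, 0), (0, 0, 0, 0)], [(0, 0, 0, 0), (0, 0, 0, 0), (0, 0, 0, 0), (0, 0, 0, 0), (1, 10, 2, 10)], [(0, 0, 0, 0), (0, 0, 0, 0), (9, 6, 7, 6), (0, 0, 0, 0), (0, 0, 0, 0)], [(4, 8, 8, 8), (0, 0, 0, 0), (0, 0, 0, 0), (0, 0, 0, 0), (0, 0, 0, 0)], [(0, 0, 0, 0), (0, 0, 0, 0), (0, 0, 0, 0), (3, 7, 6, 7), (0, 0,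 0, 0)]], [[(0, 0, 0, 0), (2, 8, 7, 1), (0, 0, 0, 0), (0, 0, 0, 0), (0, 0, 0, 0)], [(8, 1, 9, 4), (0, 0, 0, 0), (0, 0, 0, 0), (0, 0, 0, 0), (0, 0, 0, 0)], [(0, 0, 0, 0), (0, 0, 0, 0), (0, 0, 0, 0), (0, 0, 0, 0), (0, 6, 9, 0)], [(0, 0, 0, 0), (0, 0, 0, 0), (0, 0, 0, 0), (3, 6, 7, 7), (0, 0, 0, 0)], [(0, 0, 0, 0), (0, 0, 0, 0), (9, 1, 1, 10), (0, 0, 0, 0), (0, 0, 0, 0)]]],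
 [[[(0, 0, 0, 0), (0, 0, 0, 0), (0, 0, 0, 0), (1, 8, 8, 10), (0, 0, 0, 0)], [(0, 0, 0, 0), (0, 0, 0, 0), (0, 0, 0, 0), (8, 8, 7, 3), (0, 0, 0, 0)], [(0, 0, 0, 0), (0, 0, 0, 0), (0, 0, 0, 0), (0, 4, 8, 0), (0, 0, 0, 0)], [(0, 0, 0, 0), (0, 0, 0, 0), (0, 0, 0, 0), (3, 9, 5, 8), (0, 0, 0, 0)], [(0, 0, 0, 0), (0, 0, 0, 0), (0, 0, 0, 0), (10, 4, 5, 1), (0, 0, 0, 0)]], [[(0, 0, 0, 0), (0, 0, 0, 0), (0, 0, 0, 0), (8, 7, 8, 3), (0, 0, 0, 0)], [(0, 0, 0, 0), (10, 10, 10, 9), (0, 0, 0, 0), (0, 0, 0, 0), (0, 0, 0, 0)], [(0, 0, 0, 0), (0, 0, 0, 0), (0, 0, 0, 0), (0, 0, 0, 0), (7, 8, 7, 5)], [(0, 0, 0, 0), (0, 0, 0, 0), (6, 2, 6, 4), (0, 0, 0, 0), (0, 0, 0, 0)], [(2, 6, 2, 1), (0, 0, 0, 0), (0, 0, 0, 0), (0, 0, 0, 0), (0, 0,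 0, 0)]], [[(0, 0, 0, 0), (0, 0, 0, 0), (0, 0, 0, 0), (0, 8, 4, 0), (0, 0, 0, 0)], [(0, 0, 0, 0), (0, 0, 0, 0), (0, 0, 0, 0), (0, 0, 0, 0), (7, 7, 8, 5)], [(5, 8, 8, 2), (0, 0, 0, 0), (0, 0, 0, 0), (0, 0, 0, 0), (0, 0, 0, 0)], [(0, 0, 0, 0), (6, 5, 4, 9), (0, 0, 0, 0), (0, 0, 0, 0), (0, 0, 0, 0)], [(0, 0, 0, 0), (0, 0, 0, 0), (4, 5, 9, 6), (0, 0, 0, 0), (0, 0, 0, 0)]], [[(0, 0, 0, 0), (0, 0, 0, 0), (0, 0, 0, 0), (3, 5, 9, 8), (0, 0, 0, 0)], [(0, 0, 0, 0), (0, 0, 0, 0), (6, 6, 2, 4), (0, 0, 0, 0), (0, 0, 0, 0)], [(0, 0, 0, 0), (6, 4, 5, 9), (0, 0, 0, 0), (0, 0, 0, 0), (0, 0, 0, 0)], [(3, 0, 0, 4), (0, 0, 0, 0), (0, 0, 0, 0), (0, 0, 0, 0), (0, 0, 0, 0)], [(0, 0, 0, 0), (0, 0, 0, 0), (0, 0, 0, 0), (0, 0, 0, 0), (4, 7,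 6, 8)]], [[(0, 0, 0, 0), (0, 0, 0, 0), (0, 0, 0, 0), (10, 5, 4, 1), (0, 0, 0, 0)], [(2, 2, 6, 1), (0, 0, 0, 0), (0, 0, 0, 0), (0, 0, 0, 0), (0, 0, 0, 0)], [(0, 0, 0, 0), (0, 0, 0, 0), (4, 9, 5, 6), (0, 0, 0, 0), (0, 0, 0, 0)], [(0, 0, 0, 0), (0, 0, 0, 0), (0, 0, 0, 0), (0, 0, 0, 0), (4, 6, 7, 8)], [(0, 0, 0, 0), (2, 0, 0, 6), (0, 0, 0, 0), (0, 0, 0, 0), (0, 0, 0, 0)]]],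
 [[[(0, 0, 0, 0), (0, 0, 0, 0), (10, 3, 3, 1), (0, 0, 0, 0), (0, 0, 0, 0)], [(0, 0, 0, 0), (0, 0, 0, 0), (1, 7, 6, 10), (0, 0, 0, 0), (0, 0, 0, 0)], [(0, 0, 0, 0), (0, 0, 0, 0), (8, 2, 6, 3), (0, 0, 0, 0), (0, 0, 0, 0)], [(0, 0, 0, 0), (0, 0, 0, 0), (0, 7, 3, 0), (0, 0, 0, 0), (0, 0, 0, 0)], [(0, 0, 0, 0), (0, 0, 0, 0), (3, 3, 4, 8), (0, 0, 0, 0), (0, 0, 0, 0)]], [[(0, 0, 0, 0), (0, 0, 0, 0), (1, 6, 7, 10), (0, 0, 0, 0), (0, 0, 0, 0)], [(0, 0, 0, 0), (0, 0, 0, 0), (0, 0, 0, 0), (0, 0, 0, 0), (9, 0, 0, 5)], [(0, 0, 0, 0), (7, 5, 4, 3), (0, 0, 0, 0), (0, 0, 0, 0), (0, 0, 0, 0)], [(0, 0, 0, 0), (0, 0, 0, 0), (0, 0, 0, 0), (7, 2, 6, 5), (0, 0, 0, 0)], [(9, 9, 5, 10), (0, 0, 0, 0), (0, 0, 0, 0), (0, 0, 0, 0), (0, 0, 0,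 0)]], [[(0, 0, 0, 0), (0, 0, 0, 0), (8, 6, 2, 3), (0, 0, 0, 0), (0, 0, 0, 0)], [(0, 0, 0, 0), (7, 4, 5, 3), (0, 0, 0, 0), (0, 0, 0, 0), (0, 0, 0, 0)], [(8, 0, 0, 7), (0, 0, 0, 0), (0, 0, 0, 0), (0, 0, 0, 0), (0, 0, 0, 0)], [(0, 0, 0, 0), (0, 0, 0, 0), (0, 0, 0, 0), (0, 0, 0, 0), (5, 7, 6, 2)], [(0, 0, 0, 0), (0, 0, 0, 0), (0, 0, 0, 0), (5, 5, 9, 7), (0, 0, 0, 0)]], [[(0, 0, 0, 0), (0, 0, 0, 0), (0, 3, 7, 0), (0, 0, 0, 0), (0, 0, 0, 0)], [(0, 0, 0, 0), (0, 0, 0, 0), (0, 0, 0, 0), (7, 6, 2, 5), (0, 0, 0, 0)], [(0, 0, 0, 0), (0, 0, 0, 0), (0, 0, 0, 0), (0, 0, 0, 0), (5, 6, 7, 2)], [(6, 3, 3, 9), (0, 0, 0, 0), (0, 0, 0, 0), (0, 0, 0, 0), (0, 0, 0, 0)], [(0, 0, 0, 0), (4, 4, 3, 6), (0, 0, 0, 0), (0, 0, 0, 0), (0, 0, 0,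 0)]], [[(0, 0, 0, 0), (0, 0, 0, 0), (3, 4, 3, 8), (0, 0, 0, 0), (0, 0, 0, 0)], [(9, 5, 9, 10), (0, 0, 0, 0), (0, 0, 0, 0), (0, 0, 0, 0), (0, 0, 0, 0)], [(0, 0, 0, 0), (0, 0, 0, 0), (0, 0, 0, 0), (5, 9, 5, 7), (0, 0, 0, 0)], [(0, 0, 0, 0), (4, 3, 4, 6), (0, 0, 0, 0), (0, 0, 0, 0), (0, 0, 0, 0)], [(0, 0, 0, 0), (0, 0, 0, 0), (0, 0, 0, 0), (0, 0, 0, 0), (1, 1, 1, 2)]]],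
 [[[(0, 0, 0, 0), (0, 0, 0, 0), (0, 0, 0, 0), (0, 0, 0, 0), (10, 0, 0, 10)], [(0, 0, 0, 0), (0, 0, 0, 0), (0, 0, 0, 0), (0, 0, 0, 0), (9, 4, 3, 10)], [(0, 0, 0, 0), (0, 0, 0, 0), (0, 0, 0, 0), (0, 0, 0, 0), (6, 1, 9, 9)], [(0, 0, 0, 0), (0, 0, 0, 0), (0, 0, 0, 0), (0, 0, 0, 0), (9, 10, 2, 6)], [(0, 0, 0, 0), (0, 0, 0, 0), (0, 0, 0, 0), (0, 0, 0, 0), (10, 7, 8, 9)]], [[(0, 0, 0, 0), (0, 0, 0, 0), (0, 0, 0, 0), (0, 0, 0, 0), (9, 3, 4, 10)], [(0, 0, 0, 0), (0, 0, 0, 0), (0, 0, 0, 0), (2, 10, 10, 1), (0, 0, 0, 0)], [(0, 0, 0, 0), (0, 0, 0, 0), (8, 5, 4, 4), (0, 0, 0, 0), (0, 0, 0, 0)], [(0, 0, 0, 0), (0, 5, 2, 0), (0, 0, 0, 0), (0, 0, 0, 0), (0, 0, 0, 0)], [(3, 10, 2, 7), (0, 0, 0, 0), (0, 0, 0, 0), (0, 0, 0, 0), (0,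 0, 0, 0)]], [[(0, 0, 0, 0), (0, 0, 0, 0), (0, 0, 0, 0), (0, 0, 0, 0), (6, 9, 1, 9)], [(0, 0, 0, 0), (0, 0, 0, 0), (8, 4, 5, 4), (0, 0, 0, 0), (0, 0, 0, 0)], [(7, 3, 3, 3), (0, 0, 0, 0), (0, 0, 0, 0), (0, 0, 0, 0), (0, 0, 0, 0)], [(0, 0, 0, 0), (0, 0, 0, 0), (0, 0, 0, 0), (2, 5, 4, 5), (0, 0, 0, 0)], [(0, 0, 0, 0), (10, 1, 9, 1), (0, 0, 0, 0), (0, 0, 0, 0), (0, 0, 0, 0)]], [[(0, 0, 0, 0), (0, 0, 0, 0), (0, 0, 0, 0), (0, 0, 0, 0), (9, 2, 10, 6)], [(0, 0, 0, 0), (0, 2, 5, 0), (0, 0, 0, 0), (0, 0, 0, 0), (0, 0, 0, 0)], [(0, 0, 0, 0), (0, 0, 0, 0), (0, 0, 0, 0), (2, 4, 5, 5), (0, 0, 0, 0)], [(6, 10, 10, 4), (0, 0, 0, 0), (0, 0, 0, 0), (0, 0, 0, 0), (0, 0, 0, 0)], [(0, 0, 0, 0), (0, 0, 0, 0), (5, 4, 3, 7), (0, 0, 0, 0),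 (0, 0, 0, 0)]], [[(0, 0, 0, 0), (0, 0, 0, 0), (0, 0, 0, 0), (0, 0, 0, 0), (10, 8, 7, 9)], [(3, 2, 10, 7), (0, 0, 0, 0), (0, 0, 0, 0), (0, 0, 0, 0), (0, 0, 0, 0)], [(0, 0, 0, 0), (10, 9, 1, 1), (0, 0, 0, 0), (0, 0, 0, 0), (0, 0, 0, 0)], [(0, 0, 0, 0), (0, 0, 0, 0), (5, 3, 4, 7), (0, 0, 0, 0), (0, 0, 0, 0)], [(0, 0, 0, 0), (0, 0, 0, 0), (0, 0, 0, 0), (5, 0, 0, 9), (0, 0, 0, 0)]]]]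

abbrev Q11 := ZMod 11 × ZMod 11 × ZMod 11 × ZMod 11

def look (a b c d : ZMod 5) : Q11 :=
  let t := (((tbl.getD a.val []).getD b.val []).getD c.val []).getD d.val (0, 0, 0, 0)
  ((t.1 : ZMod 11), (t.2.1 : ZMod 11), (t.2.2.1 : ZMod 11), (t.2.2.2 : ZMod 11))

def qmul (x y : Q11) : Q11 :=
  (x.1 * y.1 + x.2.1 * y.2.2.1, x.1 * y.2.1 + x.2.1 * y.2.2.2,
   x.2.2.1 * y.1 + x.2.2.2 * y.2.2.1, x.2.2.1 * y.2.1 + x.2.2.2 * y.2.2.2)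

set_option maxRecDepth 100000 in
theorem hom_check : ∀ a b c d : ZMod 5, a * d - b * c = 1 → ∀ a' b' c' d' : ZMod 5, a' * d' - b' * c' = 1 →
    look (a * a' + b * c') (a * b' + b * d') (c * a' + d * c') (c * b' + d * d') =
      qmul (look a b c d) (look a' b' c' d') := by
  decide +kernel

theorem one_check : look 1 0 0 1 = (1, 0, 0, 1) := by decide +kernel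

theorem fpf_check : ∀ a b c d : ZMod 5, a * d - b * c = 1 → ¬ (a = 1 ∧ b = 0 ∧ c = 0 ∧ d = 1) →
    ((look a b c d).1 - 1) * ((look a b c d).2.2.2 - 1) - (look a b c d).2.1 * (look a b c d).2.2.1 ≠ 0 := by
  decide +kernel


end Cfsg.Agent.Helper56.SL25
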