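import Mathlib

/-!
# One level of a Schreier–Sims verification

`M` is an ambient group acting on `Ω`, `S` a generating set (of elements of finite order),
`K = closure S`.  Given a base point `β`, a candidate orbit `Δ` with transversal `u`
(`u δ • β = δ`), and a subgroup `H` fixing `β` such that all Schreier generators
`(u (s • δ))⁻¹ * s * u δ` lie in `H`, we get: every `g ∈ K` factors as `u (g • β) * h` with `h ∈ H`;
the stabilizer of `β` in `K` is `H`; and `|K| = |Δ| * |H|`.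
-/

set_option autoImplicit false

namespace Cfsg.Agent.Helper56

variable {M Ω : Type*} [Group M] [MulAction M Ω]

/-- key membership statement -/
theorem schreier_level (S : Set M) (hfin : ∀ s ∈ S, IsOfFinOrder s) (H : Subgroup M) (β : Ω)
    (Δ : Set Ω) (u : Ω → M) (hβ : β ∈ Δ) (hu1 : u β ∈ H)
    (hstep : ∀ s ∈ S, ∀ δ ∈ Δ, s • δ ∈ Δ ∧ (u (s • δ))⁻¹ * s * u δ ∈ H)
    (hHβ : ∀ h ∈ H, h • β = β) :
    ∀ g ∈ Subgroup.closure S, g • β ∈ Δ ∧ (u (g • β))⁻¹ * g ∈ H := by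
  intro g hg
  have hg' : g ∈ Submonoid.closure S := by
    rw [← Subgroup.closure_toSubmonoid_of_isOfFinOrder hfin]; exact hg
  induction hg' using Submonoid.closure_induction_left with
  | one =>
    rw [one_smul, mul_one]
    exact ⟨hβ, H.inv_mem hu1⟩
  | mul_left s hs y hy ih =>
    have hyK : y ∈ Subgroup.closure S := by
      rw [← Subgroup.mem_toSubmonoid, Subgroup.closure_toSubmonoid_of_isOfFinOrder hfin]; exact hy
    obtain ⟨h1, h2⟩ := ih hyK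
    obtain ⟨h3, h4⟩ := hstep s hs (y • β) h1
    rw [mul_smul]
    refine ⟨h3, ?_⟩
    have : (u (s • y • β))⁻¹ * (s * y) =
        ((u (s • y • β))⁻¹ * s * u (y • β)) * ((u (y • β))⁻¹ * y) := by group
    rw [this]
    exact H.mul_mem h4 h2

/-- the stabilizer of the base point in `closure S` is `H` -/
theorem schreier_stabilizer (S : Set M) (hfin : ∀ s ∈ S, IsOfFinOrder s) (H : Subgroup M) (β : Ω)
    (Δ : Set Ω) (u : Ω → M) (hβ : β ∈ Δ) (hu1 : u β ∈ H)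
    (hstep : ∀ s ∈ S, ∀ δ ∈ Δ, s • δ ∈ Δ ∧ (u (s • δ))⁻¹ * s * u δ ∈ H)
    (hHβ : ∀ h ∈ H, h • β = β) :
    ∀ g ∈ Subgroup.closure S, g • β = β → g ∈ H := by
  intro g hg hgβ
  obtain ⟨_, h2⟩ := schreier_level S hfin H β Δ u hβ hu1 hstep hHβ g hg
  rw [hgβ] at h2
  have : g = u β * ((u β)⁻¹ * g) := by group
  rw [this]
  exact H.mul_mem hu1 h2

/-- `closure S ⊓ stabilizer β = H` -/
theorem schreier_inf_stabilizer (S : Set M) (hfin : ∀ s ∈ S, IsOfFinOrder s) (H : Subgroup M) (β : Ω)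
    (Δ : Set Ω) (u : Ω → M) (hβ : β ∈ Δ) (hu1 : u β ∈ H)
    (hstep : ∀ s ∈ S, ∀ δ ∈ Δ, s • δ ∈ Δ ∧ (u (s • δ))⁻¹ * s * u δ ∈ H)
    (hHβ : ∀ h ∈ H, h • β = β) (hHK : H ≤ Subgroup.closure S) :
    Subgroup.closure S ⊓ MulAction.stabilizer M β = H := by
  apply le_antisymm
  · rintro g ⟨hg, hgβ⟩
    exact schreier_stabilizer S hfin H β Δ u hβ hu1 hstep hHβ g hg hgβ
  · intro h hh
    exact ⟨hHK hh, hHβ h hh⟩

/-- order formula -/
theorem schreier_card (S : Set M) (hfin : ∀ s ∈ S, IsOfFinOrder s) (H : Subgroup M) (β : Ω)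
    (Δ : Set Ω) (u : Ω → M) (hβ : β ∈ Δ) (hu1 : u β ∈ H)
    (hstep : ∀ s ∈ S, ∀ δ ∈ Δ, s • δ ∈ Δ ∧ (u (s • δ))⁻¹ * s * u δ ∈ H)
    (hHβ : ∀ h ∈ H, h • β = β) (hHK : H ≤ Subgroup.closure S)
    (huK : ∀ δ ∈ Δ, u δ ∈ Subgroup.closure S) (huβ : ∀ δ ∈ Δ, u δ • β = δ) :
    Nat.card (Subgroup.closure S) = Nat.card Δ * Nat.card H := by
  rw [← Nat.card_prod]
  symm
  let f : Δ × H → Subgroup.closure S := fun p =>
    ⟨u p.1.1 * p.2.1, (Subgroup.closure S).mul_mem (huK p.1.1 p.1.2) (hHK p.2.2)⟩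
  apply Nat.card_eq_of_bijective f
  constructor
  · rintro ⟨⟨δ, hδ⟩, ⟨h, hh⟩⟩ ⟨⟨δ', hδ'⟩, ⟨h', hh'⟩⟩ heq
    have h1 : u δ * h = u δ' * h' := congrArg Subtype.val heq
    have h2 : δ = δ' := by
      have := congrArg (fun g : M => g • β) h1
      simp only [mul_smul, hHβ h hh, hHβ h' hh', huβ δ hδ, huβ δ' hδ'] at this
      exact this
    subst h2
    have h3 : h = h' := mul_left_cancel h1
    subst h3
    rfl
  · rintro ⟨g, hg⟩
    obtain ⟨h1, h2⟩ := schreier_level S hfin H β Δ u hβ hu1 hstep hHβ g hg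
    refine ⟨⟨⟨g • β, h1⟩, ⟨(u (g • β))⁻¹ * g, h2⟩⟩, ?_⟩
    apply Subtype.ext
    show u (g • β) * ((u (g • β))⁻¹ * g) = g
    group

/-- the orbit of the base point is `Δ` -/
theorem schreier_orbit (S : Set M) (hfin : ∀ s ∈ S, IsOfFinOrder s) (H : Subgroup M) (β : Ω)
    (Δ : Set Ω) (u : Ω → M) (hβ : β ∈ Δ) (hu1 : u β ∈ H)
    (hstep : ∀ s ∈ S, ∀ δ ∈ Δ, s • δ ∈ Δ ∧ (u (s • δ))⁻¹ * s * u δ ∈ H)
    (hHβ : ∀ h ∈ H, h • β = β)
    (huK : ∀ δ ∈ Δ, u δ ∈ Subgroup.closure S) (huβ : ∀ δ ∈ Δ, u δ • β = δ) (δ : Ω) :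
    δ ∈ Δ ↔ ∃ g ∈ Subgroup.closure S, g • β = δ := by
  constructor
  · intro hδ
    exact ⟨u δ, huK δ hδ, huβ δ hδ⟩
  · rintro ⟨g, hg, rfl⟩
    exact (schreier_level S hfin H β Δ u hβ hu1 hstep hHβ g hg).1

end Cfsg.Agent.Helper56
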