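import Cfsg.Agent.Helper56.Schreier

/-!
# Kernel-checkable Schreier–Sims levels for permutation groups on `Fin n`

`gen : ℕ → Perm (Fin n)` lists generators; `genGroup gen k` is generated by the first `k`.
`levelCheck` is a Boolean certificate check for one level of a stabilizer chain:
base point `β`, earlier base points `pre` (all fixed by the first `k` generators is NOT
needed here), transversal words `uw`, and Schreier-generator certificates `cert`
(words in the first `k'` generators).
-/

set_option autoImplicit false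

namespace Cfsg.Agent.Helper56

variable {n : ℕ}

/-- product of generators indexed by a word -/
def wprod (gen : ℕ → Equiv.Perm (Fin n)) (l : List ℕ) : Equiv.Perm (Fin n) := (l.map gen).prod

/-- the group generated by the first `k` generators -/
def genGroup (gen : ℕ → Equiv.Perm (Fin n)) (k : ℕ) : Subgroup (Equiv.Perm (Fin n)) :=
  Subgroup.closure (gen '' Set.Iio k)

theorem genGroup_mono (gen : ℕ → Equiv.Perm (Fin n)) {k k' : ℕ} (h : k' ≤ k) :
    genGroup gen k' ≤ genGroup gen k :=
  Subgroup.closure_mono (Set.image_mono (Set.Iio_subset_Iio h))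

theorem genGroup_zero (gen : ℕ → Equiv.Perm (Fin n)) : genGroup gen 0 = ⊥ := by
  unfold genGroup
  have : (Set.Iio 0 : Set ℕ) = ∅ := by ext x; simp
  rw [this, Set.image_empty, Subgroup.closure_empty]

theorem wprod_mem (gen : ℕ → Equiv.Perm (Fin n)) (k : ℕ) (l : List ℕ) (hl : ∀ j ∈ l, j < k) :
    wprod gen l ∈ genGroup gen k := by
  unfold wprod
  apply Subgroup.list_prod_mem
  intro x hx
  rw [List.mem_map] at hx
  obtain ⟨j, hj, rfl⟩ := hx
  exact Subgroup.subset_closure ⟨j, hl j hj, rfl⟩

/-- transversal element attached to a point -/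
def transv (gen : ℕ → Equiv.Perm (Fin n)) (uw : List (List ℕ)) (δ : Fin n) : Equiv.Perm (Fin n) :=
  wprod gen (uw.getD δ.val [])

/-- Boolean check of one level -/
def levelCheck (gen : ℕ → Equiv.Perm (Fin n)) (k k' : ℕ) (β : Fin n) (pre : List (Fin n))
    (uw : List (List ℕ)) (cert : List (List (List ℕ))) : Bool :=
  decide (β ∉ pre) && (uw.getD β.val []).isEmpty
  && (List.range k').all (fun j => decide (gen j β = β))
  && (List.finRange n).all (fun δ => decide (δ ∈ pre) ||
        ((uw.getD δ.val []).all (fun j => decide (j < k)) && decide (transv gen uw δ β = δ)))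
  && (List.range k).all (fun j => (List.finRange n).all (fun δ => decide (δ ∈ pre) ||
        (decide (gen j δ ∉ pre) && ((cert.getD j []).getD δ.val []).all (fun i => decide (i < k')) &&
         decide (gen j * transv gen uw δ =
           transv gen uw (gen j δ) * wprod gen ((cert.getD j []).getD δ.val [])))))

section sound

variable (gen : ℕ → Equiv.Perm (Fin n)) (k k' : ℕ) (β : Fin n) (pre : List (Fin n))
  (uw : List (List ℕ)) (cert : List (List (List ℕ)))

theorem levelCheck_spec (h : levelCheck gen k k' β pre uw cert = true) :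
    β ∉ pre ∧ transv gen uw β = 1 ∧ (∀ j < k', gen j β = β) ∧
    (∀ δ : Fin n, δ ∉ pre → transv gen uw δ ∈ genGroup gen k ∧ transv gen uw δ β = δ) ∧
    (∀ j < k, ∀ δ : Fin n, δ ∉ pre → gen j δ ∉ pre ∧
      (transv gen uw (gen j δ))⁻¹ * gen j * transv gen uw δ ∈ genGroup gen k') := by
  unfold levelCheck at h
  simp only [Bool.and_eq_true, List.all_eq_true, decide_eq_true_eq, Bool.or_eq_true,
    List.mem_range, List.mem_finRange, forall_const, List.isEmpty_iff] at h
  obtain ⟨⟨⟨⟨h1, h2⟩, h3⟩, h4⟩, h5⟩ := h
  refine ⟨h1, ?_, h3, ?_, ?_⟩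
  · unfold transv wprod
    rw [h2]; rfl
  · intro δ hδ
    rcases h4 δ with h | ⟨ha, hb⟩
    · exact absurd h hδ
    · exact ⟨wprod_mem gen k _ ha, hb⟩
  · intro j hj δ hδ
    rcases h5 j hj δ with h | ⟨⟨ha, hb⟩, hc⟩
    · exact absurd h hδ
    · refine ⟨ha, ?_⟩
      have : (transv gen uw (gen j δ))⁻¹ * gen j * transv gen uw δ =
          wprod gen ((cert.getD j []).getD δ.val []) := by
        rw [mul_assoc, hc]; group
      rw [this]
      exact wprod_mem gen k' _ hb

theorem genGroup_fixes (hfix : ∀ j < k', gen j β = β) : ∀ h ∈ genGroup gen k', h • β = β := by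
  intro h hh
  have : genGroup gen k' ≤ MulAction.stabilizer (Equiv.Perm (Fin n)) β := by
    unfold genGroup
    rw [Subgroup.closure_le]
    rintro _ ⟨j, hj, rfl⟩
    exact hfix j hj
  exact this hh

/-- all the hypotheses of the Schreier level lemmas, packaged -/
theorem level_sound_stabilizer (h : levelCheck gen k k' β pre uw cert = true) (hkk : k' ≤ k) :
    genGroup gen k ⊓ MulAction.stabilizer (Equiv.Perm (Fin n)) β = genGroup gen k' := by
  obtain ⟨h1, h2, h3, h4, h5⟩ := levelCheck_spec gen k k' β pre uw cert h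
  refine schreier_inf_stabilizer (gen '' Set.Iio k) (fun s _ => isOfFinOrder_of_finite s)
    (genGroup gen k') β {δ | δ ∉ pre} (transv gen uw) h1 (by rw [h2]; exact Subgroup.one_mem _) ?_
    (genGroup_fixes gen k' β h3) (genGroup_mono gen hkk)
  rintro _ ⟨j, hj, rfl⟩ δ hδ
  exact h5 j hj δ hδ

theorem level_sound_card (h : levelCheck gen k k' β pre uw cert = true) (hkk : k' ≤ k) :
    Nat.card (genGroup gen k) = Nat.card {δ : Fin n // δ ∉ pre} * Nat.card (genGroup gen k') := by
  obtain ⟨h1, h2, h3, h4, h5⟩ := levelCheck_spec gen k k' β pre uw cert h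
  refine schreier_card (gen '' Set.Iio k) (fun s _ => isOfFinOrder_of_finite s)
    (genGroup gen k') β {δ | δ ∉ pre} (transv gen uw) h1 (by rw [h2]; exact Subgroup.one_mem _) ?_
    (genGroup_fixes gen k' β h3) (genGroup_mono gen hkk) (fun δ hδ => (h4 δ hδ).1)
    (fun δ hδ => (h4 δ hδ).2)
  rintro _ ⟨j, hj, rfl⟩ δ hδ
  exact h5 j hj δ hδ

end sound

end Cfsg.Agent.Helper56
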