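import Mathlib

/-!
# Simplicity from suborbit arithmetic

* `normal_transitive_of_suborbits` : `G` faithful and transitive on `X`, the points `≠ α` split into
  sets `Δ i` on each of which the stabilizer of `α` is transitive; if no proper nonempty union
  `{α} ∪ ⋃_{i ∈ I} Δ i` has cardinality dividing `|X|`, then every nontrivial normal subgroup is
  transitive.
* `mem_normal_of_coprime` : then a normal subgroup contains every `x` with `x ^ p = 1`,
  `p` coprime to `|G| / |X|`.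
* `normal_eq_top_of_triangle` : `G = ⟨a, b⟩`, `a² = b³ = 1`, `a * b ∈ N` normal gives `N = ⊤`.
-/

set_option autoImplicit false

namespace Cfsg.Agent.Helper56

open MulAction

theorem normal_transitive_of_suborbits {G X : Type*} [Group G] [Fintype X] [DecidableEq X]
    [MulAction G X] [FaithfulSMul G X] (α : X) (htr : ∀ δ : X, ∃ g : G, g • α = δ)
    {r : ℕ} (Δ : Fin r → Finset X) (hcov : ∀ δ : X, δ = α ∨ ∃ i, δ ∈ Δ i)
    (hα : ∀ i, α ∉ Δ i) (hdisj : ∀ i j, i ≠ j → Disjoint (Δ i) (Δ j))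
    (hconn : ∀ i, ∀ δ ∈ Δ i, ∀ δ' ∈ Δ i, ∃ h : G, h • α = α ∧ h • δ = δ')
    (harith : ∀ I : Finset (Fin r), (1 + ∑ i ∈ I, (Δ i).card) ∣ Fintype.card X →
      I = ∅ ∨ I = Finset.univ)
    (N : Subgroup G) [hN : N.Normal] (hNbot : N ≠ ⊥) : orbit N α = Set.univ := by
  classical
  have : IsPretransitive G X := ⟨fun y z => by
    obtain ⟨g, hg⟩ := htr y
    obtain ⟨h, hh⟩ := htr z
    exact ⟨h * g⁻¹, by rw [mul_smul, ← hg, inv_smul_smul, hh]⟩⟩
  set B : Set X := orbit N α with hB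
  have hαB : α ∈ B := mem_orbit_self α
  have hblock : IsBlock G B := IsBlock.orbit_of_normal α
  have hdvd : B.ncard ∣ Fintype.card X := by
    have := hblock.ncard_dvd_card ⟨α, hαB⟩
    rwa [Nat.card_eq_fintype_card] at this
  have hinv : ∀ h : G, h • α = α → ∀ y ∈ B, h • y ∈ B := by
    intro h hh y hy
    obtain ⟨⟨m, hm⟩, rfl⟩ := hy
    refine ⟨⟨h * m * h⁻¹, hN.conj_mem m hm h⟩, ?_⟩
    show (h * m * h⁻¹) • α = h • (m • α)
    have : h⁻¹ • α = α := by rw [inv_smul_eq_iff, hh]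
    rw [mul_smul, mul_smul, this]
  set I : Finset (Fin r) := Finset.univ.filter fun i => ∃ y ∈ B, y ∈ Δ i with hI
  have hfull : ∀ i ∈ I, ∀ δ ∈ Δ i, δ ∈ B := by
    intro i hi δ hδ
    obtain ⟨y, hyB, hyΔ⟩ := (Finset.mem_filter.mp hi).2
    obtain ⟨h, hh, rfl⟩ := hconn i y hyΔ δ hδ
    exact hinv h hh y hyB
  have hBeq : B = ((insert α (I.biUnion Δ) : Finset X) : Set X) := by
    ext y
    simp only [Finset.coe_insert, Set.mem_insert_iff, Finset.mem_coe, Finset.mem_biUnion]
    constructor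
    · intro hy
      rcases hcov y with rfl | ⟨i, hi⟩
      · left; rfl
      · right
        exact ⟨i, Finset.mem_filter.mpr ⟨Finset.mem_univ _, y, hy, hi⟩, hi⟩
    · rintro (rfl | ⟨i, hi, hy⟩)
      · exact hαB
      · exact hfull i hi y hy
  have hcard : B.ncard = 1 + ∑ i ∈ I, (Δ i).card := by
    rw [hBeq, Set.ncard_coe_finset, Finset.card_insert_of_notMem, Finset.card_biUnion, add_comm]
    · intro i _ j _ hij
      exact hdisj i j hij
    · simp only [Finset.mem_biUnion, not_exists, not_and]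
      intro i _
      exact hα i
  rw [hcard] at hdvd
  rcases harith I hdvd with hI0 | hI1
  · -- N fixes α, hence everything
    exfalso
    have hfixα : ∀ m ∈ N, m • α = α := by
      intro m hm
      have hmB : m • α ∈ B := ⟨⟨m, hm⟩, rfl⟩
      rcases hcov (m • α) with h | ⟨i, hi⟩
      · exact h
      · have : i ∈ I := Finset.mem_filter.mpr ⟨Finset.mem_univ _, _, hmB, hi⟩
        rw [hI0] at this
        simp at this
    apply hNbot
    rw [eq_bot_iff]
    intro m hm
    rw [Subgroup.mem_bot]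
    apply FaithfulSMul.eq_of_smul_eq_smul (α := X)
    intro δ
    obtain ⟨g, rfl⟩ := htr δ
    rw [one_smul]
    have h5 : (g⁻¹ * m * g⁻¹⁻¹) • α = α := hfixα _ (hN.conj_mem m hm g⁻¹)
    rw [inv_inv, mul_smul, mul_smul, inv_smul_eq_iff] at h5
    exact h5
  · ext y
    simp only [Set.mem_univ, iff_true]
    rcases hcov y with rfl | ⟨i, hi⟩
    · exact hαB
    · exact hfull i (by rw [hI1]; exact Finset.mem_univ _) y hi

theorem mem_normal_of_coprime {G X : Type*} [Group G] [Finite G] [Fintype X]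
    [MulAction G X] (α : X) (N : Subgroup G) [hN : N.Normal] (hNtr : orbit N α = Set.univ)
    (x : G) (p : ℕ) (hx : x ^ p = 1) (hcop : Nat.Coprime p (Nat.card G / Fintype.card X)) :
    x ∈ N := by
  have hcard : Fintype.card X ∣ Nat.card N := by
    have h3 : (stabilizer N α).index = (orbit N α).ncard := index_stabilizer N α
    rw [hNtr, Set.ncard_univ, Nat.card_eq_fintype_card] at h3
    rw [← h3]
    exact Subgroup.index_dvd_card _
  have hidx : N.index ∣ Nat.card G / Fintype.card X := by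
    obtain ⟨t, ht⟩ := hcard
    have h4 : Nat.card N * N.index = Nat.card G := Subgroup.card_mul_index N
    have hpos : 0 < Fintype.card X := Fintype.card_pos_iff.mpr ⟨α⟩
    refine ⟨t, ?_⟩
    rw [← h4, ht]
    rw [mul_assoc, Nat.mul_div_cancel_left _ hpos, mul_comm]
  have hcop' : Nat.Coprime p N.index := Nat.Coprime.coprime_dvd_right hidx hcop
  have e1 : (QuotientGroup.mk x : G ⧸ N) ^ p = 1 := by
    rw [← QuotientGroup.mk_pow, hx, QuotientGroup.mk_one]
  have e2 : (QuotientGroup.mk x : G ⧸ N) ^ N.index = 1 := by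
    rw [← QuotientGroup.mk_pow]
    exact (QuotientGroup.eq_one_iff _).mpr (Subgroup.pow_index_mem N x)
  have hd : orderOf (QuotientGroup.mk x : G ⧸ N) ∣ Nat.gcd p N.index :=
    Nat.dvd_gcd (orderOf_dvd_of_pow_eq_one e1) (orderOf_dvd_of_pow_eq_one e2)
  rw [hcop'] at hd
  exact (QuotientGroup.eq_one_iff x).mp (orderOf_eq_one_iff.mp (Nat.dvd_one.mp hd))

theorem normal_eq_top_of_triangle {G : Type*} [Group G] (a b : G)
    (hgen : Subgroup.closure {a, b} = ⊤) (ha : a ^ 2 = 1) (hb : b ^ 3 = 1)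
    (N : Subgroup G) [N.Normal] (habN : a * b ∈ N) : N = ⊤ := by
  have h1 : (QuotientGroup.mk a : G ⧸ N) * QuotientGroup.mk b = 1 := by
    rw [← QuotientGroup.mk_mul]; exact (QuotientGroup.eq_one_iff _).mpr habN
  have h2 : (QuotientGroup.mk a : G ⧸ N) ^ 2 = 1 := by
    rw [← QuotientGroup.mk_pow, ha, QuotientGroup.mk_one]
  have h3 : (QuotientGroup.mk b : G ⧸ N) ^ 3 = 1 := by
    rw [← QuotientGroup.mk_pow, hb, QuotientGroup.mk_one]
  have hb' : (QuotientGroup.mk b : G ⧸ N) = (QuotientGroup.mk a)⁻¹ := eq_inv_of_mul_eq_one_right h1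
  have h3' : (QuotientGroup.mk a : G ⧸ N) ^ 3 = 1 := by
    have : ((QuotientGroup.mk a : G ⧸ N)⁻¹) ^ 3 = 1 := by rw [← hb']; exact h3
    rwa [inv_pow, inv_eq_one] at this
  have hd : orderOf (QuotientGroup.mk a : G ⧸ N) ∣ Nat.gcd 3 2 :=
    Nat.dvd_gcd (orderOf_dvd_of_pow_eq_one h3') (orderOf_dvd_of_pow_eq_one h2)
  have ha1 : (QuotientGroup.mk a : G ⧸ N) = 1 :=
    orderOf_eq_one_iff.mp (Nat.dvd_one.mp (by simpa using hd))
  have hb1 : (QuotientGroup.mk b : G ⧸ N) = 1 := by rw [hb', ha1, inv_one]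
  have haN : a ∈ N := (QuotientGroup.eq_one_iff a).mp ha1
  have hbN : b ∈ N := (QuotientGroup.eq_one_iff b).mp hb1
  rw [eq_top_iff, ← hgen, Subgroup.closure_le]
  rintro x (rfl | rfl)
  · exact haN
  · exact hbN

end Cfsg.Agent.Helper56
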