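import Cfsg.Agent.Helper56.TiTWord1P0
import Cfsg.Agent.Helper56.TiTWord1P1

set_option autoImplicit false
set_option maxRecDepth 1000000

namespace Cfsg.Agent.Helper56.Tits

open Cfsg.Agent.Helper56 Cfsg.Agent.Helper56.PermW

theorem wordT1_p : ∀ x, x < 1755 → wordPt 12 4095 csT 1 wordT1 x = true :=
  fun x hx => ptwise2 wordT1_p0 (ptwise2 wordT1_p1 (ptwise2 wordT1_p2 (ptwise1 wordT1_p3))) x (Nat.zero_le x) hx

end Cfsg.Agent.Helper56.Tits
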