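import Cfsg.Agent.Helper56.TiTWord2P0
import Cfsg.Agent.Helper56.TiTWord2P1

set_option autoImplicit false
set_option maxRecDepth 1000000

namespace Cfsg.Agent.Helper56.Tits

open Cfsg.Agent.Helper56 Cfsg.Agent.Helper56.PermW

theorem wordT2_p : ∀ x, x < 1755 → wordPt 12 4095 csT 2 wordT2 x = true :=
  fun x hx => ptwise2 wordT2_p0 (ptwise2 wordT2_p1 (ptwise2 wordT2_p2 (ptwise1 wordT2_p3))) x (Nat.zero_le x) hx

end Cfsg.Agent.Helper56.Tits
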