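import Cfsg.Agent.Helper56.TiRigid
import Cfsg.Agent.Helper56.TiInvA
import Cfsg.Agent.Helper56.TiInvB
import Cfsg.Agent.Helper56.TiTWord0
import Cfsg.Agent.Helper56.TiTWord1
import Cfsg.Agent.Helper56.TiTWord2
import Cfsg.Agent.Helper56.TiTWord3
import Cfsg.Agent.Helper56.TiTWord4

set_option autoImplicit false
set_option maxRecDepth 1000000

namespace Cfsg.Agent.Helper56.Tits

open Cfsg.Agent.Helper56 Cfsg.Agent.Helper56.PermW

/-- the generators of the chain of the Tits group -/
abbrev genT : ℕ → Equiv.Perm (Fin 1755) := genOf 12 4095 1755 csT cisT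

theorem aut_of_word {cs cis : List ℕ} (hv : allValid 12 4095 1755 cs cis = true) (NA : ℕ)
    (hlen : cs.length = NA) (j : ℕ) (hj : j < NA) (l : List ℕ) (hl : lettersLt NA l = true)
    (h : ∀ x, x < 1755 → wordPt 12 4095 cs j l x = true)
    (A : Subgroup (Equiv.Perm (Fin 1755)))
    (hA : ∀ i ∈ l, genOf 12 4095 1755 cs cis i ∈ A) : genOf 12 4095 1755 cs cis j ∈ A := by
  have e := genOf_eq_wprod hv j (by rw [hlen]; exact hj) l
    (by rw [hlen]; exact lettersLt_spec hl) h
  rw [e]
  exact wprod_mem_of_forall _ A l hA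

theorem autA : permOfCode 12 4095 1755 cA cAi ∈ autGroup 1755 nb :=
  mem_autGroup_of_check graphOK validA invA

theorem autB : permOfCode 12 4095 1755 cB cBi ∈ autGroup 1755 nb :=
  mem_autGroup_of_check graphOK validB invB

theorem autT6 : genT 6 ∈ autGroup 1755 nb := autB

theorem autT5 : genT 5 ∈ autGroup 1755 nb := autA

theorem autT4 : genT 4 ∈ autGroup 1755 nb :=
  aut_of_word validT 7 csT_length 4 (by norm_num) wordT4 (by decide) wordT4_p _ (by
    have key : ∀ i ∈ wordT4, i = 5 ∨ i = 6 := by decide
    intro i hi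
    rcases key i hi with rfl | rfl
    · exact autT5
    · exact autT6)

theorem autT3 : genT 3 ∈ autGroup 1755 nb :=
  aut_of_word validT 7 csT_length 3 (by norm_num) wordT3 (by decide) wordT3_p _ (by
    have key : ∀ i ∈ wordT3, i = 5 ∨ i = 6 := by decide
    intro i hi
    rcases key i hi with rfl | rfl
    · exact autT5
    · exact autT6)

theorem autT2 : genT 2 ∈ autGroup 1755 nb :=
  aut_of_word validT 7 csT_length 2 (by norm_num) wordT2 (by decide) wordT2_p _ (by
    have key : ∀ i ∈ wordT2, i = 3 ∨ i = 4 := by decide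
    intro i hi
    rcases key i hi with rfl | rfl
    · exact autT3
    · exact autT4)

theorem autT1 : genT 1 ∈ autGroup 1755 nb :=
  aut_of_word validT 7 csT_length 1 (by norm_num) wordT1 (by decide) wordT1_p _ (by
    have key : ∀ i ∈ wordT1, i = 3 ∨ i = 4 := by decide
    intro i hi
    rcases key i hi with rfl | rfl
    · exact autT3
    · exact autT4)

theorem autT0 : genT 0 ∈ autGroup 1755 nb :=
  aut_of_word validT 7 csT_length 0 (by norm_num) wordT0 (by decide) wordT0_p _ (by
    have key : ∀ i ∈ wordT0, i = 1 ∨ i = 2 := by decide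
    intro i hi
    rcases key i hi with rfl | rfl
    · exact autT1
    · exact autT2)

theorem genT_aut : ∀ j < csT.length, genT j ∈ autGroup 1755 nb := by
  intro j hj
  rw [csT_length] at hj
  interval_cases j
  · exact autT0
  · exact autT1
  · exact autT2
  · exact autT3
  · exact autT4
  · exact autT5
  · exact autT6

end Cfsg.Agent.Helper56.Tits
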