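import Cfsg.Agent.Helper56.TiTLevel0S5P0
import Cfsg.Agent.Helper56.TiTLevel0S5P1
import Cfsg.Agent.Helper56.TiTLevel0S6P0
import Cfsg.Agent.Helper56.TiTLevel0S6P1

set_option autoImplicit false
set_option maxRecDepth 1000000

namespace Cfsg.Agent.Helper56.Tits

open Cfsg.Agent.Helper56 Cfsg.Agent.Helper56.PermW

theorem baseT0 : baseCheck 12 4095 csT 5 7 0 orbMT0 svT0 = true := by decide +kernel

theorem trT0_p : rangeAll 0 1755 (trPt 12 4095 csT cisT 7 0 orbMT0 svT0 7) = true := by decide +kernel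

theorem cntT0 : (List.range 1755).countP (fun x => orbMT0.testBit x) = 1755 := by decide +kernel

theorem lT0_s5 : ∀ x, x < 1755 → orbMT0.testBit x = true → ∃ c, schreierOK 12 4095 B csT cisT 5 orbMT0 svT0 7 [(svT1, 8), (svT2, 2), (svT3, 1)] 5 x c = true :=
  fun x hx => (join_range (walk_range _ _ 0 250 _ lT0_s5_r0) (join_range (walk_range _ _ 250 250 _ lT0_s5_r250) (join_range (walk_range _ _ 500 250 _ lT0_s5_r500) (join_range (walk_range _ _ 750 250 _ lT0_s5_r750) (join_range (walk_range _ _ 1000 250 _ lT0_s5_r1000) (join_range (walk_range _ _ 1250 250 _ lT0_s5_r1250) (join_range (walk_range _ _ 1500 250 _ lT0_s5_r1500) (walk_range _ _ 1750 5 _ lT0_s5_r1750)))))))) x (Nat.zero_le x) hx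

theorem lT0_s6 : ∀ x, x < 1755 → orbMT0.testBit x = true → ∃ c, schreierOK 12 4095 B csT cisT 5 orbMT0 svT0 7 [(svT1, 8), (svT2, 2), (svT3, 1)] 6 x c = true :=
  fun x hx => (join_range (walk_range _ _ 0 250 _ lT0_s6_r0) (join_range (walk_range _ _ 250 250 _ lT0_s6_r250) (join_range (walk_range _ _ 500 250 _ lT0_s6_r500) (join_range (walk_range _ _ 750 250 _ lT0_s6_r750) (join_range (walk_range _ _ 1000 250 _ lT0_s6_r1000) (join_range (walk_range _ _ 1250 250 _ lT0_s6_r1250) (join_range (walk_range _ _ 1500 250 _ lT0_s6_r1500) (walk_range _ _ 1750 5 _ lT0_s6_r1750)))))))) x (Nat.zero_le x) hx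

end Cfsg.Agent.Helper56.Tits
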