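import Cfsg.Agent.Helper56.TiTLevelData1
import Cfsg.Agent.Helper56.TiTLevelData2
import Cfsg.Agent.Helper56.TiTLevelData3
import Cfsg.Agent.Helper56.TiTLevel1S4P0

set_option autoImplicit false
set_option maxRecDepth 1000000

namespace Cfsg.Agent.Helper56.Tits

open Cfsg.Agent.Helper56 Cfsg.Agent.Helper56.PermW

theorem lT1_s4_r1731 : walk orbMT1 (schreierOK 12 4095 B csT cisT 3 orbMT1 svT1 8 [(svT2, 2), (svT3, 1)] 4) (List.range' 1731 24) [12293, 20483, 20487, 12289, 12289, 12291, 20483, 12289, 12291, 12289, 12293, 20489, 20489, 20481, 20481, 12289, 12289, 12289, 12295, 12289, 20483, 20481, 20487, 12291] = true := by decide +kernel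

end Cfsg.Agent.Helper56.Tits
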