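import Cfsg.Agent.Helper56.TiTLevel1S3P0
import Cfsg.Agent.Helper56.TiTLevel1S3P1
import Cfsg.Agent.Helper56.TiTLevel1S4P0
import Cfsg.Agent.Helper56.TiTLevel1S4P1

set_option autoImplicit false
set_option maxRecDepth 1000000

namespace Cfsg.Agent.Helper56.Tits

open Cfsg.Agent.Helper56 Cfsg.Agent.Helper56.PermW

theorem baseT1 : baseCheck 12 4095 csT 3 5 731 orbMT1 svT1 = true := by decide +kernel

theorem trT1_p : rangeAll 0 1755 (trPt 12 4095 csT cisT 5 731 orbMT1 svT1 8) = true := by decide +kernel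

theorem cntT1 : (List.range 1755).countP (fun x => orbMT1.testBit x) = 1024 := by decide +kernel

theorem lT1_s3 : ∀ x, x < 1755 → orbMT1.testBit x = true → ∃ c, schreierOK 12 4095 B csT cisT 3 orbMT1 svT1 8 [(svT2, 2), (svT3, 1)] 3 x c = true :=
  fun x hx => (join_range (walk_range _ _ 0 981 _ lT1_s3_r0) (join_range (walk_range _ _ 981 250 _ lT1_s3_r981) (join_range (walk_range _ _ 1231 250 _ lT1_s3_r1231) (join_range (walk_range _ _ 1481 250 _ lT1_s3_r1481) (walk_range _ _ 1731 24 _ lT1_s3_r1731))))) x (Nat.zero_le x) hx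

theorem lT1_s4 : ∀ x, x < 1755 → orbMT1.testBit x = true → ∃ c, schreierOK 12 4095 B csT cisT 3 orbMT1 svT1 8 [(svT2, 2), (svT3, 1)] 4 x c = true :=
  fun x hx => (join_range (walk_range _ _ 0 981 _ lT1_s4_r0) (join_range (walk_range _ _ 981 250 _ lT1_s4_r981) (join_range (walk_range _ _ 1231 250 _ lT1_s4_r1231) (join_range (walk_range _ _ 1481 250 _ lT1_s4_r1481) (walk_range _ _ 1731 24 _ lT1_s4_r1731))))) x (Nat.zero_le x) hx

end Cfsg.Agent.Helper56.Tits
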