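import Cfsg.Agent.Helper56.TiTLevel2S1P0
import Cfsg.Agent.Helper56.TiTLevel2S2P0

set_option autoImplicit false
set_option maxRecDepth 1000000

namespace Cfsg.Agent.Helper56.Tits

open Cfsg.Agent.Helper56 Cfsg.Agent.Helper56.PermW

theorem baseT2 : baseCheck 12 4095 csT 1 3 1 orbMT2 svT2 = true := by decide +kernel

theorem trT2_p : rangeAll 0 1755 (trPt 12 4095 csT cisT 3 1 orbMT2 svT2 2) = true := by decide +kernel

theorem cntT2 : (List.range 1755).countP (fun x => orbMT2.testBit x) = 5 := by decide +kernel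

theorem lT2_s1 : ∀ x, x < 1755 → orbMT2.testBit x = true → ∃ c, schreierOK 12 4095 B csT cisT 1 orbMT2 svT2 2 [(svT3, 1)] 1 x c = true :=
  fun x hx => (walk_range _ _ 0 1755 _ lT2_s1_r0) x (Nat.zero_le x) hx

theorem lT2_s2 : ∀ x, x < 1755 → orbMT2.testBit x = true → ∃ c, schreierOK 12 4095 B csT cisT 1 orbMT2 svT2 2 [(svT3, 1)] 2 x c = true :=
  fun x hx => (walk_range _ _ 0 1755 _ lT2_s2_r0) x (Nat.zero_le x) hx

end Cfsg.Agent.Helper56.Tits
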