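import Cfsg.Agent.Helper56.TiAut
import Cfsg.Agent.Helper56.TiTLevel0
import Cfsg.Agent.Helper56.TiTLevel1
import Cfsg.Agent.Helper56.TiTLevel2
import Cfsg.Agent.Helper56.TiTLevel3
import Cfsg.Agent.Helper56.TiTExtra

set_option autoImplicit false
set_option maxRecDepth 1000000

namespace Cfsg.Agent.Helper56.Tits

open Cfsg.Agent.Helper56 Cfsg.Agent.Helper56.PermW

/-- conclusion of `levelB_sound` -/
def LevelOK (gen : ℕ → Equiv.Perm (Fin 1755)) (k' k : ℕ) (β : Fin 1755) (orbM : ℕ) : Prop :=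
  (genGroup gen k ⊓ MulAction.stabilizer (Equiv.Perm (Fin 1755)) β = genGroup gen k') ∧
  Nat.card (genGroup gen k) =
    (List.range 1755).countP (fun x => orbM.testBit x) * Nat.card (genGroup gen k') ∧
  ∀ δ : Fin 1755, orbM.testBit δ.val = true ↔ ∃ g ∈ genGroup gen k, g β = δ

theorem hHKT3 : genGroup genT 0 ≤ Subgroup.closure (genT '' Set.Ico 0 1) := by
  rw [genGroup_zero]; exact bot_le

theorem hHKT2 : genGroup genT 1 ≤ Subgroup.closure (genT '' Set.Ico 1 3) :=
  stepCheckB_sound validT rigid genT_aut schkT2 (genGroup_eq_closure_Ico genT hHKT3)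

theorem hHKT1 : genGroup genT 3 ≤ Subgroup.closure (genT '' Set.Ico 3 5) :=
  stepCheckB_sound validT rigid genT_aut schkT1 (genGroup_eq_closure_Ico genT hHKT2)

theorem hHKT0 : genGroup genT 5 ≤ Subgroup.closure (genT '' Set.Ico 5 7) :=
  stepCheckB_sound validT rigid genT_aut schkT0 (genGroup_eq_closure_Ico genT hHKT1)

theorem trT0 : ∀ x, x < 1755 → trPt 12 4095 csT cisT 7 0 orbMT0 svT0 7 x = true :=
  fun x hx => ptwise1 trT0_p x (Nat.zero_le x) hx

theorem trT1 : ∀ x, x < 1755 → trPt 12 4095 csT cisT 5 731 orbMT1 svT1 8 x = true :=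
  fun x hx => ptwise1 trT1_p x (Nat.zero_le x) hx

theorem trT2 : ∀ x, x < 1755 → trPt 12 4095 csT cisT 3 1 orbMT2 svT2 2 x = true :=
  fun x hx => ptwise1 trT2_p x (Nat.zero_le x) hx

theorem trT3 : ∀ x, x < 1755 → trPt 12 4095 csT cisT 1 3 orbMT3 svT3 1 x = true :=
  fun x hx => ptwise1 trT3_p x (Nat.zero_le x) hx

theorem lvlT3 : LevelOK genT 0 1 ⟨3, by norm_num⟩ orbMT3 :=
  levelB_sound validT rigid genT_aut (β := ⟨3, by norm_num⟩) (deeper := []) baseT3 trT3
    (by
      intro s h1 h2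
      interval_cases s
      · exact lT3_s0) hHKT3

theorem cardT3 : Nat.card (genGroup genT 1) = 2 := by
  have h := lvlT3.2.1
  rw [h, cntT3, genGroup_zero, Subgroup.card_bot]

theorem lvlT2 : LevelOK genT 1 3 ⟨1, by norm_num⟩ orbMT2 :=
  levelB_sound validT rigid genT_aut (β := ⟨1, by norm_num⟩) (deeper := [(svT3, 1)]) baseT2 trT2
    (by
      intro s h1 h2
      interval_cases s
      · exact lT2_s1
      · exact lT2_s2) hHKT2

theorem cardT2 : Nat.card (genGroup genT 3) = 10 := by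
  have h := lvlT2.2.1
  rw [h, cntT2, cardT3]

theorem lvlT1 : LevelOK genT 3 5 ⟨731, by norm_num⟩ orbMT1 :=
  levelB_sound validT rigid genT_aut (β := ⟨731, by norm_num⟩) (deeper := [(svT2, 2), (svT3, 1)]) baseT1 trT1
    (by
      intro s h1 h2
      interval_cases s
      · exact lT1_s3
      · exact lT1_s4) hHKT1

theorem cardT1 : Nat.card (genGroup genT 5) = 10240 := by
  have h := lvlT1.2.1
  rw [h, cntT1, cardT2]

theorem lvlT0 : LevelOK genT 5 7 ⟨0, by norm_num⟩ orbMT0 :=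
  levelB_sound validT rigid genT_aut (β := ⟨0, by norm_num⟩) (deeper := [(svT1, 8), (svT2, 2), (svT3, 1)]) baseT0 trT0
    (by
      intro s h1 h2
      interval_cases s
      · exact lT0_s5
      · exact lT0_s6) hHKT0

theorem cardT0 : Nat.card (genGroup genT 7) = 17971200 := by
  have h := lvlT0.2.1
  rw [h, cntT0, cardT1]

end Cfsg.Agent.Helper56.Tits
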