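import Cfsg.Agent.Helper56.TiGraph
import Cfsg.Agent.Helper56.TiGens

set_option autoImplicit false
set_option maxRecDepth 1000000

namespace Cfsg.Agent.Helper56.Tits

open Cfsg.Agent.Helper56 Cfsg.Agent.Helper56.PermW

theorem invB_p0 : rangeAll 0 1755 (invPtF 12 4095 nbc 10 cB) = true := by decide +kernel

end Cfsg.Agent.Helper56.Tits
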