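import Cfsg.Agent.Helper56.TiInvData

/-!
# The Tits group on 1755 points has exactly two classes of involutions

`1755` is odd, so an involution of `T0` fixes a point and is conjugate into the point stabiliser `genGroup genT 5`
(order 10240).  The elements of the point stabiliser are enumerated through the three levels of the stabiliser chain;
every involution among them is conjugate (by an explicit word, checked on the rigid base) to `r1` or `r2`, which have
different numbers of fixed points.
-/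

set_option autoImplicit false
set_option maxRecDepth 1000000

namespace Cfsg.Agent.Helper56.Tits

open Cfsg.Agent.Helper56 Cfsg.Agent.Helper56.PermW

theorem genT_mem_genGroup (k j : ℕ) (hj : j < k) : genT j ∈ genGroup genT k :=
  Subgroup.subset_closure ⟨j, hj, rfl⟩

/-- one level of the decomposition of an element of the point stabiliser -/
theorem level_step {k' k : ℕ} (hk : k ≤ 7) {β : Fin 1755} {orbM : ℕ} (h : LevelOK genT k' k β orbM)
    (O : List ℕ) (Wd : List (List ℕ)) (hO : maskOK orbM O = true) (hW : wordsOK k β.val O Wd = true)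
    (g : Equiv.Perm (Fin 1755)) (hg : g ∈ genGroup genT k) :
    ∃ i, i < O.length ∧ (∀ j ∈ Wd.getD i [], j < 7) ∧
      (wprod genT (Wd.getD i []))⁻¹ * g ∈ genGroup genT k' := by
  have hbit : orbM.testBit (g β).val = true := (h.2.2 (g β)).mpr ⟨g, hg, rfl⟩
  unfold maskOK at hO
  rw [List.all_eq_true] at hO
  have h1 := hO (g β).val (List.mem_range.mpr (g β).isLt)
  rw [hbit] at h1
  simp only [Bool.not_true, Bool.false_or] at h1
  have hmem : (g β).val ∈ O := by
    rw [List.contains_iff_mem] at h1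
    exact h1
  obtain ⟨i, hi, hgi⟩ := List.getElem_of_mem hmem
  unfold wordsOK at hW
  rw [List.all_eq_true] at hW
  have h2 := hW i (List.mem_range.mpr hi)
  rw [Bool.and_eq_true, beq_iff_eq] at h2
  obtain ⟨hl, ha⟩ := h2
  have hlt : ∀ j ∈ Wd.getD i [], j < k := lettersLt_spec hl
  have hlt7 : ∀ j ∈ Wd.getD i [], j < 7 := fun j hj => lt_of_lt_of_le (hlt j hj) hk
  have hmemk : wprod genT (Wd.getD i []) ∈ genGroup genT k :=
    wprod_mem_of_gens genT _ k (fun j hj => genT_mem_genGroup k j hj) _ hlt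
  refine ⟨i, hi, hlt7, ?_⟩
  rw [← h.1]
  refine ⟨Subgroup.mul_mem _ (Subgroup.inv_mem _ hmemk) hg, ?_⟩
  show (wprod genT (Wd.getD i []))⁻¹ * g ∈ MulAction.stabilizer (Equiv.Perm (Fin 1755)) β
  rw [MulAction.mem_stabilizer_iff]
  have e : wprod genT (Wd.getD i []) β = g β := by
    apply Fin.ext
    rw [wprod_apply validT _ (fun j hj => by rw [csT_length]; exact hlt7 j hj), ha,
      List.getD_eq_getElem _ _ hi, hgi]
  show ((wprod genT (Wd.getD i []))⁻¹ * g) β = β
  rw [Equiv.Perm.mul_apply, ← e, perm_inv_apply]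

/-- every element of the point stabiliser is one of the `1024 * 10` enumerated words -/
theorem stab_decomp (g : Equiv.Perm (Fin 1755)) (hg : g ∈ genGroup genT 5) :
    ∃ i k, i < 1024 ∧ k < 10 ∧ g = wprod genT (stabWord i k) := by
  obtain ⟨i1, hi1, _, hg1⟩ := level_step (by norm_num) lvlT1 O1 VW1 maskOK1 wordsOK1 g hg
  obtain ⟨i2, hi2, _, hg2⟩ := level_step (by norm_num) lvlT2 O2 VW2 maskOK2 wordsOK2 _ hg1
  obtain ⟨i3, hi3, _, hg3⟩ := level_step (by norm_num) lvlT3 O3 VW3 maskOK3 wordsOK3 _ hg2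
  rw [genGroup_zero, Subgroup.mem_bot] at hg3
  rw [O1_length] at hi1
  rw [O2_length] at hi2
  rw [O3_length] at hi3
  refine ⟨i1, 2 * i2 + i3, hi1, by omega, ?_⟩
  have e1 : (2 * i2 + i3) / 2 = i2 := by omega
  have e2 : (2 * i2 + i3) % 2 = i3 := by omega
  unfold stabWord
  rw [e1, e2, wprod_append, wprod_append]
  calc g = wprod genT (VW1.getD i1 []) * (wprod genT (VW2.getD i2 []) * (wprod genT (VW3.getD i3 []) *
        ((wprod genT (VW3.getD i3 []))⁻¹ * ((wprod genT (VW2.getD i2 []))⁻¹ *
          ((wprod genT (VW1.getD i1 []))⁻¹ * g))))) := by group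
    _ = wprod genT (VW1.getD i1 []) * wprod genT (VW2.getD i2 []) * wprod genT (VW3.getD i3 []) := by
        rw [hg3]; group

theorem B_lt : ∀ b ∈ B, b < 1755 := by decide

/-- converse of `eqOn_sound` -/
theorem eqOn_of_eq {w1 w2 : List ℕ} (h1 : ∀ j ∈ w1, j < csT.length) (h2 : ∀ j ∈ w2, j < csT.length)
    (h : wprod genT w1 = wprod genT w2) : eqOn 12 4095 B csT w1 w2 = true := by
  unfold eqOn
  rw [List.all_eq_true]
  intro b hb
  rw [beq_iff_eq]
  have hb' := B_lt b hb
  rw [← wprod_apply validT w1 h1 ⟨b, hb'⟩, ← wprod_apply validT w2 h2 ⟨b, hb'⟩, h]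

theorem lt7 {l : List ℕ} (h : ∀ j ∈ l, j < 7) : ∀ j ∈ l, j < csT.length := by
  rw [csT_length]; exact h

theorem r1_lt : ∀ j ∈ r1, j < 7 := by decide
theorem r2_lt : ∀ j ∈ r2, j < 7 := by decide

theorem wprod_mem_T0 {l : List ℕ} (h : ∀ j ∈ l, j < 7) : wprod genT l ∈ T0 :=
  wprod_mem_of_gens genT T0 7 (fun j hj => genT_mem_T0 j hj) l h

/-- an involution of the point stabiliser is conjugate to `r1` or to `r2` -/
theorem invol_class (g : Equiv.Perm (Fin 1755)) (hg : g ∈ genGroup genT 5) (h2 : g * g = 1) (h1 : g ≠ 1) :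
    ∃ c ∈ T0, c * g * c⁻¹ = wprod genT r1 ∨ c * g * c⁻¹ = wprod genT r2 := by
  obtain ⟨i, k, hi, hk, rfl⟩ := stab_decomp g hg
  have h := allOK
  rw [List.all_eq_true] at h
  have h' := h i (List.mem_range.mpr hi)
  rw [List.all_eq_true] at h'
  have hik := h' k (List.mem_range.mpr hk)
  unfold entryOK at hik
  rw [Bool.and_eq_true] at hik
  obtain ⟨hlw, hrest⟩ := hik
  have hw7 : ∀ j ∈ stabWord i k, j < 7 := lettersLt_spec hlw
  have hsq : eqOn 12 4095 B csT (stabWord i k ++ stabWord i k) [] = true := by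
    apply eqOn_of_eq
    · intro j hj
      rcases List.mem_append.mp hj with hj | hj <;> exact lt7 hw7 j hj
    · intro j hj; simp at hj
    · rw [wprod_append, wprod_nil]; exact h2
  have htriv : eqOn 12 4095 B csT (stabWord i k) [] = false := by
    by_contra hc
    rw [Bool.not_eq_false] at hc
    apply h1
    have := eqOn_sound validT rigid genT_aut (lt7 hw7) (by intro j hj; simp at hj) hc
    rw [this, wprod_nil]
  rw [hsq, htriv] at hrest
  simp only [Bool.not_true, Bool.false_or, Bool.and_eq_true, Bool.or_eq_true, beq_iff_eq] at hrest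
  obtain ⟨hlc, hcases⟩ := hrest
  have hc7 : ∀ j ∈ ((CT.getD i []).getD k ([], 0)).1, j < 7 := lettersLt_spec hlc
  refine ⟨wprod genT ((CT.getD i []).getD k ([], 0)).1, wprod_mem_T0 hc7, ?_⟩
  have key : ∀ r : List ℕ, (∀ j ∈ r, j < 7) →
      eqOn 12 4095 B csT (((CT.getD i []).getD k ([], 0)).1 ++ stabWord i k)
        (r ++ ((CT.getD i []).getD k ([], 0)).1) = true →
      wprod genT ((CT.getD i []).getD k ([], 0)).1 * wprod genT (stabWord i k) *
        (wprod genT ((CT.getD i []).getD k ([], 0)).1)⁻¹ = wprod genT r := by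
    intro r hr he
    have := eqOn_sound validT rigid genT_aut
      (w1 := ((CT.getD i []).getD k ([], 0)).1 ++ stabWord i k) (w2 := r ++ ((CT.getD i []).getD k ([], 0)).1)
      (by intro j hj; rcases List.mem_append.mp hj with hj | hj
          · exact lt7 hc7 j hj
          · exact lt7 hw7 j hj)
      (by intro j hj; rcases List.mem_append.mp hj with hj | hj
          · exact lt7 hr j hj
          · exact lt7 hc7 j hj) he
    rw [wprod_append, wprod_append] at this
    rw [this]; group
  rcases hcases with ⟨_, he⟩ | ⟨_, he⟩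
  · left; exact key r1 r1_lt he
  · right; exact key r2 r2_lt he

/-- an involution of `T0` is conjugate in `T0` to `r1` or to `r2` -/
theorem invol_T0 (g : Equiv.Perm (Fin 1755)) (hg : g ∈ T0) (h2 : g * g = 1) (h1 : g ≠ 1) :
    ∃ c ∈ T0, c * g * c⁻¹ = wprod genT r1 ∨ c * g * c⁻¹ = wprod genT r2 := by
  have : Fact (Nat.Prime 2) := ⟨Nat.prime_two⟩
  obtain ⟨δ, hδ⟩ := Equiv.Perm.exists_fixed_point_of_prime (p := 2) (n := 1)
    (by rw [Fintype.card_fin]; norm_num) (σ := g) (by rw [pow_one, pow_two]; exact h2)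
  obtain ⟨h, hh, hhδ⟩ := transT δ
  have hg' : h⁻¹ * g * h ∈ genGroup genT 5 := by
    rw [← lvlT0.1, ← T0_eq]
    refine ⟨T0.mul_mem (T0.mul_mem (T0.inv_mem hh) hg) hh, ?_⟩
    show h⁻¹ * g * h ∈ MulAction.stabilizer (Equiv.Perm (Fin 1755)) pt0
    rw [MulAction.mem_stabilizer_iff]
    show (h⁻¹ * g * h) pt0 = pt0
    rw [Equiv.Perm.mul_apply, Equiv.Perm.mul_apply, hhδ, hδ, ← hhδ, perm_inv_apply]
  obtain ⟨c, hc, hcc⟩ := invol_class (h⁻¹ * g * h) hg'
    (by
      calc h⁻¹ * g * h * (h⁻¹ * g * h) = h⁻¹ * (g * g) * h := by group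
        _ = 1 := by rw [h2]; group)
    (by
      intro e
      apply h1
      calc g = h * (h⁻¹ * g * h) * h⁻¹ := by group
        _ = 1 := by rw [e]; group)
  refine ⟨c * h⁻¹, T0.mul_mem hc (T0.inv_mem hh), ?_⟩
  have e : c * h⁻¹ * g * (c * h⁻¹)⁻¹ = c * (h⁻¹ * g * h) * c⁻¹ := by group
  rw [e]; exact hcc

/-- number of moved points of a word -/
theorem support_card (r : List ℕ) (hr : ∀ j ∈ r, j < csT.length) :
    (wprod genT r).support.card =
      (List.range 1755).countP (fun x => appWord 12 4095 csT r x != x) := by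
  rw [← card_filter_fin 1755 (fun x => appWord 12 4095 csT r x != x)]
  congr 1
  ext δ
  rw [Equiv.Perm.mem_support, Finset.mem_filter]
  simp only [Finset.mem_univ, true_and, bne_iff_ne, ne_eq]
  rw [← wprod_apply validT r hr δ]
  constructor
  · intro h e; exact h (Fin.ext e)
  · intro h e; exact h (congrArg Fin.val e)

theorem r1_sq : wprod genT r1 * wprod genT r1 = 1 := by
  have := eqOn_sound validT rigid genT_aut (w1 := r1 ++ r1) (w2 := [])
    (by intro j hj; rcases List.mem_append.mp hj with hj | hj <;> exact lt7 r1_lt j hj)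
    (by intro j hj; simp at hj) r1_sq_ok
  rw [wprod_append, wprod_nil] at this
  exact this

theorem r2_sq : wprod genT r2 * wprod genT r2 = 1 := by
  have := eqOn_sound validT rigid genT_aut (w1 := r2 ++ r2) (w2 := [])
    (by intro j hj; rcases List.mem_append.mp hj with hj | hj <;> exact lt7 r2_lt j hj)
    (by intro j hj; simp at hj) r2_sq_ok
  rw [wprod_append, wprod_nil] at this
  exact this

theorem r1_supp : (wprod genT r1).support.card = 1728 := by
  rw [support_card r1 (lt7 r1_lt), mov1]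

theorem r2_supp : (wprod genT r2).support.card = 1664 := by
  rw [support_card r2 (lt7 r2_lt), mov2]

theorem r1_ne_one : wprod genT r1 ≠ 1 := by
  intro h
  have := r1_supp
  rw [h, Equiv.Perm.support_one, Finset.card_empty] at this
  omega

theorem r2_ne_one : wprod genT r2 ≠ 1 := by
  intro h
  have := r2_supp
  rw [h, Equiv.Perm.support_one, Finset.card_empty] at this
  omega

theorem not_conj (c : Equiv.Perm (Fin 1755)) : c * wprod genT r1 * c⁻¹ ≠ wprod genT r2 := by
  intro h
  have := Equiv.Perm.card_support_conj (σ := c) (τ := wprod genT r1)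
  rw [h, r1_supp, r2_supp] at this
  omega

/-- the representatives as elements of `T0` -/
def R1 : T0 := ⟨wprod genT r1, wprod_mem_T0 r1_lt⟩
/-- the representatives as elements of `T0` -/
def R2 : T0 := ⟨wprod genT r2, wprod_mem_T0 r2_lt⟩

theorem orderOf_R1 : orderOf R1 = 2 := by
  have : Fact (Nat.Prime 2) := ⟨Nat.prime_two⟩
  rw [orderOf_eq_prime_iff]
  refine ⟨Subtype.ext ?_, fun h => r1_ne_one (congrArg Subtype.val h)⟩
  show (R1 ^ 2 : T0).val = 1
  rw [pow_two]; exact r1_sq

theorem orderOf_R2 : orderOf R2 = 2 := by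
  have : Fact (Nat.Prime 2) := ⟨Nat.prime_two⟩
  rw [orderOf_eq_prime_iff]
  refine ⟨Subtype.ext ?_, fun h => r2_ne_one (congrArg Subtype.val h)⟩
  show (R2 ^ 2 : T0).val = 1
  rw [pow_two]; exact r2_sq

/-- the Tits group on 1755 points has exactly two classes of involutions -/
theorem classes_T0 : (ConjClasses.mk '' {g : T0 | orderOf g = 2}).ncard = 2 := by
  have : Fact (Nat.Prime 2) := ⟨Nat.prime_two⟩
  have hset : ConjClasses.mk '' {g : T0 | orderOf g = 2} = {ConjClasses.mk R1, ConjClasses.mk R2} := by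
    ext C
    constructor
    · rintro ⟨g, hg, rfl⟩
      rw [Set.mem_setOf_eq, orderOf_eq_prime_iff] at hg
      obtain ⟨hg2, hg1⟩ := hg
      have h2 : g.val * g.val = 1 := by
        have := congrArg Subtype.val hg2
        rw [pow_two] at this
        exact this
      have h1 : g.val ≠ 1 := fun h => hg1 (Subtype.ext h)
      obtain ⟨c, hc, h | h⟩ := invol_T0 g.val g.property h2 h1
      · left
        rw [ConjClasses.mk_eq_mk_iff_isConj, isConj_iff]
        exact ⟨⟨c, hc⟩, Subtype.ext h⟩
      · right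
        rw [Set.mem_singleton_iff, ConjClasses.mk_eq_mk_iff_isConj, isConj_iff]
        exact ⟨⟨c, hc⟩, Subtype.ext h⟩
    · rintro (rfl | rfl)
      · exact ⟨R1, orderOf_R1, rfl⟩
      · exact ⟨R2, orderOf_R2, rfl⟩
  rw [hset, Set.ncard_pair]
  intro h
  rw [ConjClasses.mk_eq_mk_iff_isConj, isConj_iff] at h
  obtain ⟨c, hc⟩ := h
  exact not_conj c.val (congrArg Subtype.val hc)

/-- the number of classes of involutions is an isomorphism invariant -/
theorem ncard_invol_classes_congr {G H : Type*} [Group G] [Group H] (e : G ≃* H) :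
    (ConjClasses.mk '' {g : G | orderOf g = 2}).ncard = (ConjClasses.mk '' {h : H | orderOf h = 2}).ncard := by
  have hinj : Function.Injective (ConjClasses.map e.toMonoidHom) := by
    intro a b hab
    obtain ⟨x, rfl⟩ := ConjClasses.exists_rep a
    obtain ⟨y, rfl⟩ := ConjClasses.exists_rep b
    have h1 : ConjClasses.mk (e x) = ConjClasses.mk (e y) := hab
    rw [ConjClasses.mk_eq_mk_iff_isConj] at h1 ⊢
    have h2 := e.symm.toMonoidHom.map_isConj h1
    simpa using h2
  have himg : ConjClasses.map e.toMonoidHom '' (ConjClasses.mk '' {g : G | orderOf g = 2}) =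
      ConjClasses.mk '' {h : H | orderOf h = 2} := by
    ext C
    constructor
    · rintro ⟨_, ⟨g, hg, rfl⟩, rfl⟩
      refine ⟨e g, ?_, rfl⟩
      rw [Set.mem_setOf_eq, MulEquiv.orderOf_eq]
      exact hg
    · rintro ⟨h, hh, rfl⟩
      refine ⟨ConjClasses.mk (e.symm h), ⟨e.symm h, ?_, rfl⟩, ?_⟩
      · rw [Set.mem_setOf_eq, MulEquiv.orderOf_eq]
        exact hh
      · show ConjClasses.mk (e (e.symm h)) = ConjClasses.mk h
        rw [MulEquiv.apply_symm_apply]
  rw [← himg, Set.ncard_image_of_injective _ hinj]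

end Cfsg.Agent.Helper56.Tits
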