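import Cfsg.Agent.Helper56.TiMain

/-!
# Involutions of the point stabiliser of the Tits group on 1755 points: data and kernel checks

Generated (tools56/tits/tiinv.py): transversal words of the three levels of the point stabiliser, and for each of its 271
involutions a conjugating word to one of the two representatives `r1` (27 fixed points) and `r2` (91 fixed points).
-/

set_option autoImplicit false
set_option maxRecDepth 1000000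

namespace Cfsg.Agent.Helper56.Tits

open Cfsg.Agent.Helper56 Cfsg.Agent.Helper56.PermW

/-- the orbit of level 1 of the point stabiliser -/
def O1 : List ℕ := [731, 732, 733, 734, 735, 736, 737, 738, 739, 740, 741, 742, 743, 744, 745, 746, 747, 748, 749, 750, 751, 752, 753, 754, 755, 756, 757, 758, 759, 760, 761, 762, 763, 764, 765, 766, 767, 768, 769, 770, 771, 772, 773, 774, 775, 776, 777, 778, 779, 780, 781, 782, 783, 784, 785, 786, 787, 788, 789, 790, 791, 792, 793, 794, 795, 796, 797, 798, 799, 800, 801, 802, 803, 804, 805, 806, 807, 808, 809, 810, 811, 812, 813, 814, 815, 816, 817, 818, 819, 820, 821, 822, 823, 824, 825, 826, 827, 828, 829, 830, 831, 832, 833, 834, 835, 836, 837, 838, 839, 840, 841, 842, 843, 844, 845, 846, 847, 848, 849, 850, 851, 852, 853, 854, 855, 856, 857, 858, 859, 860, 861, 862, 863, 864, 865, 866, 867, 868,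 869, 870, 871, 872, 873, 874, 875, 876, 877, 878, 879, 880, 881, 882, 883, 884, 885, 886, 887, 888, 889, 890, 891, 892, 893, 894, 895, 896, 897, 898, 899, 900, 901, 902, 903, 904, 905, 906, 907, 908, 909, 910, 911, 912, 913, 914, 915, 916, 917, 918, 919, 920, 921, 922, 923, 924, 925, 926, 927, 928, 929, 930, 931, 932, 933, 934, 935, 936, 937, 938, 939, 940, 941, 942, 943, 944, 945, 946, 947, 948, 949, 950, 951, 952, 953, 954, 955, 956, 957, 958, 959, 960, 961, 962, 963, 964, 965, 966, 967, 968, 969, 970, 971, 972, 973, 974, 975, 976, 977, 978, 979, 980, 981, 982, 983, 984, 985, 986, 987, 988, 989, 990, 991, 992, 993, 994, 995, 996, 997, 998, 999, 1000, 1001, 1002, 1003, 1004, 1005, 1006, 1007, 1008, 1009, 1010, 1011, 1012, 1013, 1014, 1015, 1016, 1017, 1018, 1019, 1020, 1021, 1022, 1023, 1024, 1025, 1026, 1027, 1028, 1029, 1030, 1031,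 1032, 1033, 1034, 1035, 1036, 1037, 1038, 1039, 1040, 1041, 1042, 1043, 1044, 1045, 1046, 1047, 1048, 1049, 1050, 1051, 1052, 1053, 1054, 1055, 1056, 1057, 1058, 1059, 1060, 1061, 1062, 1063, 1064, 1065, 1066, 1067, 1068, 1069, 1070, 1071, 1072, 1073, 1074, 1075, 1076, 1077, 1078, 1079, 1080, 1081, 1082, 1083, 1084, 1085, 1086, 1087, 1088, 1089, 1090, 1091, 1092, 1093, 1094, 1095, 1096, 1097, 1098, 1099, 1100, 1101, 1102, 1103, 1104, 1105, 1106, 1107, 1108, 1109, 1110, 1111, 1112, 1113, 1114, 1115, 1116, 1117, 1118, 1119, 1120, 1121, 1122, 1123, 1124, 1125, 1126, 1127, 1128, 1129, 1130, 1131, 1132, 1133, 1134, 1135, 1136, 1137, 1138, 1139, 1140, 1141, 1142, 1143, 1144, 1145, 1146, 1147, 1148, 1149, 1150, 1151, 1152, 1153, 1154, 1155, 1156, 1157, 1158, 1159, 1160, 1161, 1162, 1163, 1164, 1165, 1166, 1167, 1168, 1169, 1170, 1171, 1172, 1173,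 1174, 1175, 1176, 1177, 1178, 1179, 1180, 1181, 1182, 1183, 1184, 1185, 1186, 1187, 1188, 1189, 1190, 1191, 1192, 1193, 1194, 1195, 1196, 1197, 1198, 1199, 1200, 1201, 1202, 1203, 1204, 1205, 1206, 1207, 1208, 1209, 1210, 1211, 1212, 1213, 1214, 1215, 1216, 1217, 1218, 1219, 1220, 1221, 1222, 1223, 1224, 1225, 1226, 1227, 1228, 1229, 1230, 1231, 1232, 1233, 1234, 1235, 1236, 1237, 1238, 1239, 1240, 1241, 1242, 1243, 1244, 1245, 1246, 1247, 1248, 1249, 1250, 1251, 1252, 1253, 1254, 1255, 1256, 1257, 1258, 1259, 1260, 1261, 1262, 1263, 1264, 1265, 1266, 1267, 1268, 1269, 1270, 1271, 1272, 1273, 1274, 1275, 1276, 1277, 1278, 1279, 1280, 1281, 1282, 1283, 1284, 1285, 1286, 1287, 1288, 1289, 1290, 1291, 1292, 1293, 1294, 1295, 1296, 1297, 1298, 1299, 1300, 1301, 1302, 1303, 1304, 1305, 1306, 1307, 1308, 1309, 1310, 1311, 1312, 1313, 1314, 1315,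 1316, 1317, 1318, 1319, 1320, 1321, 1322, 1323, 1324, 1325, 1326, 1327, 1328, 1329, 1330, 1331, 1332, 1333, 1334, 1335, 1336, 1337, 1338, 1339, 1340, 1341, 1342, 1343, 1344, 1345, 1346, 1347, 1348, 1349, 1350, 1351, 1352, 1353, 1354, 1355, 1356, 1357, 1358, 1359, 1360, 1361, 1362, 1363, 1364, 1365, 1366, 1367, 1368, 1369, 1370, 1371, 1372, 1373, 1374, 1375, 1376, 1377, 1378, 1379, 1380, 1381, 1382, 1383, 1384, 1385, 1386, 1387, 1388, 1389, 1390, 1391, 1392, 1393, 1394, 1395, 1396, 1397, 1398, 1399, 1400, 1401, 1402, 1403, 1404, 1405, 1406, 1407, 1408, 1409, 1410, 1411, 1412, 1413, 1414, 1415, 1416, 1417, 1418, 1419, 1420, 1421, 1422, 1423, 1424, 1425, 1426, 1427, 1428, 1429, 1430, 1431, 1432, 1433, 1434, 1435, 1436, 1437, 1438, 1439, 1440, 1441, 1442, 1443, 1444, 1445, 1446, 1447, 1448, 1449, 1450, 1451, 1452, 1453, 1454, 1455, 1456, 1457,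 1458, 1459, 1460, 1461, 1462, 1463, 1464, 1465, 1466, 1467, 1468, 1469, 1470, 1471, 1472, 1473, 1474, 1475, 1476, 1477, 1478, 1479, 1480, 1481, 1482, 1483, 1484, 1485, 1486, 1487, 1488, 1489, 1490, 1491, 1492, 1493, 1494, 1495, 1496, 1497, 1498, 1499, 1500, 1501, 1502, 1503, 1504, 1505, 1506, 1507, 1508, 1509, 1510, 1511, 1512, 1513, 1514, 1515, 1516, 1517, 1518, 1519, 1520, 1521, 1522, 1523, 1524, 1525, 1526, 1527, 1528, 1529, 1530, 1531, 1532, 1533, 1534, 1535, 1536, 1537, 1538, 1539, 1540, 1541, 1542, 1543, 1544, 1545, 1546, 1547, 1548, 1549, 1550, 1551, 1552, 1553, 1554, 1555, 1556, 1557, 1558, 1559, 1560, 1561, 1562, 1563, 1564, 1565, 1566, 1567, 1568, 1569, 1570, 1571, 1572, 1573, 1574, 1575, 1576, 1577, 1578, 1579, 1580, 1581, 1582, 1583, 1584, 1585, 1586, 1587, 1588, 1589, 1590, 1591, 1592, 1593, 1594, 1595, 1596, 1597, 1598, 1599,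 1600, 1601, 1602, 1603, 1604, 1605, 1606, 1607, 1608, 1609, 1610, 1611, 1612, 1613, 1614, 1615, 1616, 1617, 1618, 1619, 1620, 1621, 1622, 1623, 1624, 1625, 1626, 1627, 1628, 1629, 1630, 1631, 1632, 1633, 1634, 1635, 1636, 1637, 1638, 1639, 1640, 1641, 1642, 1643, 1644, 1645, 1646, 1647, 1648, 1649, 1650, 1651, 1652, 1653, 1654, 1655, 1656, 1657, 1658, 1659, 1660, 1661, 1662, 1663, 1664, 1665, 1666, 1667, 1668, 1669, 1670, 1671, 1672, 1673, 1674, 1675, 1676, 1677, 1678, 1679, 1680, 1681, 1682, 1683, 1684, 1685, 1686, 1687, 1688, 1689, 1690, 1691, 1692, 1693, 1694, 1695, 1696, 1697, 1698, 1699, 1700, 1701, 1702, 1703, 1704, 1705, 1706, 1707, 1708, 1709, 1710, 1711, 1712, 1713, 1714, 1715, 1716, 1717, 1718, 1719, 1720, 1721, 1722, 1723, 1724, 1725, 1726, 1727, 1728, 1729, 1730, 1731, 1732, 1733, 1734, 1735, 1736, 1737, 1738, 1739, 1740, 1741,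 1742, 1743, 1744, 1745, 1746, 1747, 1748, 1749, 1750, 1751, 1752, 1753, 1754]

/-- transversal words of level 1 -/
def VW1 : List (List ℕ) := [[], [4, 0, 2, 4, 3, 0, 3], [2, 3, 1, 3, 4, 4, 0, 3], [4, 4, 2, 4, 0, 4, 3], [1, 3, 4, 3, 4], [4, 4, 0, 3], [2, 3, 4, 0, 3, 4], [2, 0, 4, 4, 0, 1, 3], [3, 4, 3, 4], [4, 2, 4, 0, 3], [0, 3, 4, 3, 4], [2, 3, 1, 3], [4, 4, 0, 1, 3], [2, 4, 0, 3, 4, 3], [0, 4, 4, 0, 1, 3], [3, 4, 0, 3, 4], [0, 4, 3, 4, 0, 1, 3], [4, 4, 2, 4, 2, 4], [3, 1, 3], [0, 3, 4, 1, 3, 4], [3, 4, 1, 3, 4], [0, 3, 1, 3], [3, 4, 2, 3, 4], [4, 3, 4, 0, 1, 3], [3, 2, 0, 4, 4], [0, 4, 3, 2, 4, 0, 3], [1, 3, 4, 2, 3, 4], [3, 1, 3, 4, 4, 0, 3], [4, 3, 2, 4, 0, 3], [4, 0, 3, 4, 3], [2, 4, 3, 4, 0, 1, 3], [3, 4, 4, 4, 0, 4], [2, 0, 4, 4, 1, 3], [1, 3, 0, 3], [4, 3, 4, 0, 2, 3], [4, 2, 4, 3, 0, 2, 0, 3], [4, 4, 3, 0, 3], [1, 3, 0, 4, 3,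 4], [3, 0, 4, 3, 0, 3, 4], [3, 2, 3], [4, 2, 3, 4, 3], [3, 4, 3, 2, 4], [0, 4, 2, 3, 4, 3], [4, 4, 1, 3, 2, 3], [0, 4, 2, 0, 4, 0, 3], [3, 2, 4, 3, 4], [4, 2, 0, 4, 0, 3], [4, 4, 3, 0, 1, 3], [4, 3, 4, 2, 4, 4], [4, 4, 3, 0, 4, 3, 4], [0, 1, 3, 0, 1, 3], [3, 1, 0, 3], [0, 3, 1, 0, 3], [1, 3, 0, 1, 3], [4, 3, 4, 0, 1, 0, 3], [4, 4, 4, 3, 4, 3], [4, 4, 4, 0, 4, 0, 3], [0, 4, 2, 3, 4, 1, 3], [4, 0, 3, 4, 2, 3], [3, 0, 4, 4], [4, 2, 3, 4, 1, 3], [2, 4, 2, 4, 0, 1, 0, 3], [0, 3, 0, 4, 4], [0, 4, 0, 3, 4, 2, 3], [3, 0, 4, 2, 0, 3], [3, 4, 0, 4, 2, 4], [4, 0, 2, 0, 3], [4, 0, 4, 0, 2, 4, 3], [3, 4, 4, 2, 4], [4, 3, 4, 4, 2, 0, 3], [2, 0, 4, 3, 0, 3], [2, 4, 0, 4, 2, 0, 4], [3, 4, 2, 0, 3], [3, 4, 4, 0, 2, 4, 3], [0, 3, 4, 2, 0, 3], [2, 0, 4, 4, 3, 4, 3], [3, 1, 0, 3, 4, 3], [0, 3, 4, 0, 2, 0, 3], [0, 3, 1, 0, 3, 4, 3], [3, 4, 0, 2, 0, 3], [2,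 3, 0, 4, 2, 3], [4, 4, 0, 4, 3], [1, 3, 2, 4, 0, 3], [1, 0, 3, 4, 3], [1, 0, 3, 4, 1, 3], [0, 1, 3, 2, 4, 0, 3], [4, 4, 2, 4], [0, 2, 3, 0, 4, 2, 3], [2, 3, 4, 2, 3], [0, 3, 4, 4, 0, 4, 3], [4, 2, 0, 3], [4, 4, 0, 2, 4, 3], [3, 4, 4, 0, 4, 3], [1, 3, 4, 0, 1, 3], [4, 0, 4, 2, 4], [0, 4, 2, 0, 3], [3, 4, 0, 4, 2, 0, 4], [3, 0, 4, 3, 0, 3], [4, 4, 0, 3, 2, 4], [3, 2, 4, 4, 2, 4], [4, 3, 4, 4, 3, 0, 3], [3, 4, 4, 2, 0, 4], [3, 0, 4, 3, 0, 1, 3], [2, 0, 4], [2, 0, 4, 0, 3, 1, 3], [3, 1, 3, 4, 3], [3, 4, 4, 4, 2, 3], [0, 3, 1, 3, 4, 3], [3, 1, 3, 2, 4, 3], [3, 2, 4, 2, 0, 3], [4, 2, 4, 0, 3, 4], [2, 3, 4, 3, 4, 4], [2, 3, 1, 3, 0, 4, 3], [4, 4, 3, 2, 4], [2, 4, 2, 3, 2, 3], [1, 3, 2, 4, 3, 0, 3], [2, 0, 3, 0, 3, 4], [4, 0, 2, 4, 4], [4, 4, 3, 0, 4, 3], [3, 0, 3, 4, 4, 4], [0, 4, 2, 4, 3, 4], [3, 2, 3, 4, 2, 0, 3], [0, 4, 0, 4, 4], [4, 2, 3],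 [2, 3, 2, 3, 0, 4], [4, 2, 4, 3, 4], [0, 4, 2, 3], [4, 0, 4, 4], [3, 4, 3, 1, 3], [4, 0, 3, 4, 4], [4, 4, 0, 4], [1, 3, 4, 3, 4, 3, 4], [3, 2, 4, 3, 1, 0, 3], [3, 4, 0, 3, 1, 3], [1, 3, 2, 4, 3, 2, 3], [1, 0, 3, 4], [4, 0, 3, 2, 4, 4], [1, 3, 4, 0, 3, 1, 3], [0, 4, 0, 3, 2, 4, 4], [2, 3, 2, 0, 4, 3], [2, 3, 4], [4, 4, 4, 0, 4, 4, 3], [1, 3, 4], [4, 3, 0, 3, 4, 4], [4, 2, 4, 0, 4], [3, 4, 3, 4, 3, 4], [3, 2, 0, 4, 3], [3, 0, 4, 0, 4, 4, 3], [3, 0, 4, 2, 3, 2, 3], [0, 3, 2, 0, 4, 3], [3, 0, 3, 1, 3, 2, 4], [0, 4, 2, 4, 0, 4], [3, 2, 4, 3, 2, 3], [0, 3, 4], [4, 0, 1, 3, 2, 0, 3], [2, 4, 4, 0, 4], [3, 4], [0, 3, 2, 4, 3, 2, 3], [0, 2, 4, 4, 0, 4], [3, 2, 0, 4, 4, 3, 4], [4, 3, 4, 2, 4, 3], [4, 4, 3, 0, 4], [4, 0, 1, 3, 0, 2, 3], [1, 3, 2, 4, 2, 3], [3, 4, 0, 3, 1, 0, 3], [3, 0, 2, 4, 3], [4, 2, 3, 4, 4], [2, 3, 0, 4, 4, 4], [4, 0, 4, 4, 2,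 0, 3], [3, 2, 3, 1, 3, 4], [4, 2, 4, 3, 4, 2, 3], [2, 3, 2, 3, 2, 4], [4, 2, 3, 0, 2, 3], [0, 1, 3, 0, 4], [4, 1, 3, 4, 4, 3], [1, 3, 0, 4], [2, 4, 0, 3, 0, 3], [3, 0, 4, 3], [4, 4, 4, 3, 4, 4], [0, 4, 3, 4, 4, 3], [4, 3, 4, 4, 3], [3, 0, 4, 4, 0, 3, 4], [0, 3, 0, 4, 3], [2, 0, 4, 0, 1, 0, 3], [0, 3, 2, 4], [3, 4, 3, 2, 3], [2, 0, 4, 4, 4], [4, 4, 2, 3, 0, 4], [0, 3, 4, 3, 2, 3], [3, 2, 4], [3, 0, 4, 4, 3, 4], [2, 4, 2, 4, 4, 3], [2, 4, 3, 4, 2, 0, 3], [3, 0, 4, 2, 0, 4], [1, 0, 3, 4, 4], [4, 4, 4, 3, 2, 4], [3, 0, 4, 4, 2, 3], [3, 4, 4, 0, 2, 4, 4], [4, 0, 4, 2, 3], [4, 4, 0, 4, 4], [2, 0, 4, 3, 0, 4], [2, 3, 4, 2, 4], [3, 4, 4, 0, 4, 4], [1, 3, 4, 0, 4], [3, 4, 4, 2, 3], [2, 4, 4, 0, 2, 0, 3], [0, 3, 4, 4, 2, 3], [4, 0, 4, 2, 4, 3, 4], [4, 3, 1, 3, 4, 3], [2, 3, 0, 4, 2, 4], [0, 2, 3, 0, 2, 0, 3], [0, 4, 2, 0, 4], [4, 2, 0, 4], [2, 3,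 0, 2, 0, 3], [3, 2, 3, 4, 2, 4], [4, 4, 2, 4, 3, 4], [0, 2, 3, 2, 0, 3], [3, 4, 2, 0, 4], [4, 4, 0, 2, 4, 4], [0, 4, 4, 2, 3], [0, 3, 4, 2, 0, 4], [2, 3, 2, 0, 3], [4, 4, 2, 3], [4, 0, 4, 0, 4, 4], [3, 1, 3, 2, 4, 4], [4, 0, 4, 3], [3, 0, 4, 2, 3, 0, 4], [3, 4, 4, 4, 0, 4, 3], [2, 0, 4, 0, 3, 4], [2, 4, 4, 2, 4, 4, 3], [3, 4, 4, 4, 2, 4], [3, 1, 3, 4, 4], [0, 1, 3, 0, 4, 0, 4], [2, 0, 4, 3, 4], [1, 3, 0, 4, 0, 4], [3, 1, 3, 0, 2, 3], [2, 4, 4, 0, 3, 0, 3], [3, 4, 4, 2, 0, 3], [3, 1, 3, 0, 1, 0, 3], [0, 3, 4, 4, 2, 0, 3], [4, 2, 4, 0, 3, 1, 3], [4, 4, 3, 1, 0, 3], [0, 4, 2, 4], [1, 3, 4, 1, 3, 4, 3], [2, 3, 4, 3, 4, 3], [4, 2, 4], [0, 4, 4, 3, 1, 0, 3], [4, 2, 3, 2, 3, 4], [0, 4, 0, 2, 4, 3], [0, 2, 0, 3], [2, 3, 4, 0, 4, 0, 3], [4, 3, 1, 3, 0, 4], [2, 0, 3], [4, 0, 2, 4, 3], [2, 4, 2, 3, 2, 4], [3, 2, 3, 4, 4, 2, 3], [1, 3, 0, 4, 2, 0,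 3], [1, 3, 4, 0, 4, 2, 4], [0, 1, 3, 0, 4, 2, 3], [4, 2, 4, 0, 4, 3], [1, 3, 4, 2, 0, 3], [4, 0, 4, 0, 3, 4], [2, 3, 4, 0, 1, 3], [2, 4, 0, 4, 3, 4], [1, 3, 4, 4, 2, 4], [4, 4, 2, 3, 0, 4, 3], [0, 3, 4, 1, 3], [2, 3, 2, 4, 0, 3], [4, 0, 4, 2, 3, 4], [4, 4, 0, 4, 4, 4], [4, 0, 4, 3, 4], [3, 4, 0, 1, 3], [4, 0, 1, 3], [3, 4, 0, 4, 3, 4], [3, 2, 4, 0, 3], [0, 3, 4, 3], [4, 4, 2, 3, 2, 4], [4, 0, 4, 4, 4, 0, 4], [4, 0, 3], [0, 3, 2, 4, 3], [0, 2, 4, 3, 0, 3], [3, 2, 3, 2, 4, 0, 3], [4, 2, 4, 2, 4], [4, 3, 4, 3, 4, 3], [0, 4, 3, 0, 2, 0, 3], [1, 3, 4, 0, 2, 0, 3], [3, 0, 3, 4, 3], [2, 4, 0, 3], [2, 3, 4, 2, 4, 4], [3, 4, 4, 0, 3, 4], [4, 1, 3, 4, 4], [1, 3, 0, 4, 2, 3], [4, 4, 4, 2, 0, 3], [3, 4, 4, 2, 3, 4], [0, 2, 4, 0, 4, 3, 4], [1, 3, 4, 2, 3], [4, 0, 3, 4, 4, 3], [3, 4, 1, 3], [4, 2, 3, 4, 4, 2, 3], [2, 3, 4, 4, 4], [4, 3, 4, 2, 4], [4,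 0, 4, 3, 0, 4], [2, 4, 4, 0, 4, 0, 3], [2, 4, 4, 3, 2, 4, 3], [0, 4, 0, 3], [3, 2, 4, 3], [3, 4, 4, 3, 4], [2, 4, 2, 4, 3, 4, 3], [0, 3, 2, 4, 0, 3], [3, 4, 3], [0, 4, 0, 1, 3], [4, 4, 0, 4, 2, 0, 3], [4, 3, 0, 2, 0, 3], [2, 3, 4, 0, 2, 3], [0, 3, 0, 3, 4, 3], [0, 2, 4, 0, 3], [2, 4, 3, 0, 3], [3, 0, 4, 3, 2, 3], [0, 4, 2, 4, 2, 4], [4, 3, 0, 4, 2, 4], [4, 3, 4, 3, 1, 3], [4, 4, 0, 3, 4, 4], [4, 2, 4, 4, 0, 4], [2, 4, 3, 2, 4], [4, 1, 3, 4], [3, 0, 3, 1, 3], [3, 1, 3, 4, 3, 4], [3, 4, 4, 0, 3], [2, 0, 4, 4], [1, 3, 0, 3, 1, 3], [4, 3, 4], [3, 4, 2, 4, 0, 3], [3, 4, 4, 2, 4, 2, 4], [4, 4, 0, 3, 2, 4, 4], [4, 3, 2, 0, 4, 3], [3], [4, 4, 4, 0, 4], [0, 4, 2, 3, 2, 4], [4, 0, 3, 4], [3, 0, 4, 4, 0, 1, 3], [4, 2, 3, 4], [0, 4, 0, 4, 4, 4], [2, 3, 1, 3, 0, 3], [1, 3, 2, 3, 1, 3], [0, 4, 4, 0, 3, 0, 3], [1, 3, 4, 4, 0, 3], [3, 0, 3, 4, 3, 4],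 [3, 2, 3, 1, 3], [2, 0, 4, 4, 3, 1, 3], [1, 3], [4, 4, 2, 4, 0, 4], [2, 4, 4, 3, 4, 4, 3], [4, 4, 0, 1, 3, 2, 3], [2, 4, 0, 4, 3], [3, 4, 3, 2, 4, 3], [3, 4, 0, 4, 0, 3], [3, 4, 3, 4, 3], [2, 4, 2, 4], [0, 3, 4, 4, 0, 3], [3, 4, 0, 4, 0, 1, 3], [3, 4, 2, 4, 3, 0, 3], [0, 4, 3, 4], [1, 3, 0, 3, 1, 0, 3], [3, 1, 3, 2, 3], [0, 3], [2, 4, 0, 2, 4, 3], [2, 3, 1, 3, 4, 4], [4, 4, 0, 4, 3, 4, 3], [0, 2, 3, 1, 3, 0, 3], [3, 4, 3, 4, 1, 3], [0, 4, 2, 3, 4], [4, 0, 4, 4, 4], [0, 4, 0, 3, 4], [4, 4, 2, 4, 4, 3], [0, 4, 4, 4, 0, 4], [4, 2, 3, 2, 4], [4, 0, 4, 0, 1, 0, 3], [0, 1, 3], [1, 3, 4, 4, 3, 0, 3], [3, 0, 4, 4, 4, 4], [4, 4, 0, 3, 0, 3], [4, 2, 3, 0, 4, 3], [3, 1, 3, 1, 0, 3], [3, 2, 3, 0, 1, 3], [4, 4, 2, 3, 1, 0, 3], [4, 0, 4, 4, 4, 0, 3], [3, 0, 3, 4, 4], [2, 0, 3, 0, 1, 0, 3], [4, 3, 1, 3, 2, 4], [2, 3, 4, 0, 4], [0, 2, 0, 3, 2, 0, 3],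 [1, 3, 4, 2, 0, 4], [3, 2, 3, 4, 0, 4], [3, 4, 3, 1, 3, 2, 4], [4, 0, 4], [0, 1, 3, 0, 2, 0, 3], [1, 3, 4, 4, 2, 3], [0, 4, 4, 4, 4, 2, 3], [1, 0, 3, 4, 2, 0, 4], [0, 1, 3, 2, 0, 3], [0, 3, 4, 4], [4, 2, 4, 4, 3, 2, 4], [4, 4, 2, 3, 2, 3], [2, 4, 0, 4], [0, 2, 4, 3, 0, 4], [3, 4, 0, 4], [0, 3, 2, 4, 4], [2, 0, 3, 0, 2, 3], [4, 2, 0, 4, 2, 3], [4, 4, 0, 4, 4, 3], [0, 3, 0, 1, 0, 3], [0, 4, 3, 4, 2, 3], [1, 0, 3, 4, 4, 2, 3], [3, 0, 1, 3, 2, 0, 3], [0, 3, 0, 2, 3], [0, 4, 3, 2, 0, 4], [4, 4, 4, 4, 0, 4, 4], [4, 2, 3, 4, 2, 0, 3], [1, 3, 0, 4, 2, 4], [3, 4, 2, 0, 4, 3], [1, 3, 4, 2, 4], [4, 4, 4, 2, 0, 4], [2, 3, 4, 4, 1, 3], [2, 0, 3, 2, 0, 3], [1, 3, 0, 2, 0, 3], [0, 4, 0, 4], [3, 4, 3, 1, 3, 4], [4, 0, 3, 4, 4, 4], [1, 3, 2, 0, 3], [1, 0, 3, 4, 4, 1, 3], [4, 4, 4, 4, 2, 3], [2, 3, 4, 4, 3], [3, 2, 4, 4], [4, 1, 3, 4, 3], [2, 4, 3, 0, 4],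 [0, 3, 4, 0, 4], [3, 4, 3, 2, 3, 4], [0, 2, 4, 0, 4], [3, 4, 4], [4, 2, 4, 4, 2, 4], [1, 0, 3, 4, 4, 3], [4, 3, 4, 4, 3, 2, 4], [3, 0, 2, 3], [4, 3, 2, 0, 4], [4, 1, 3, 2, 4, 3], [4, 2, 4, 2, 0, 3], [3, 0, 1, 0, 3], [4, 3, 4, 2, 3], [4, 4, 2, 4, 0, 3], [4, 3, 4, 3, 4], [4, 3, 1, 3], [3, 4, 0, 3, 4, 4], [3, 0, 3, 4], [2, 4, 3, 2, 3], [0, 3, 4, 3, 4, 4], [4, 4, 0, 3, 4, 3], [1, 3, 0, 3, 4], [0, 4, 2, 3, 2, 3], [4, 0, 3, 1, 3], [2, 4, 3, 1, 0, 3], [4], [0, 4, 0, 4, 4, 1, 3], [3, 2, 3, 4], [0, 3, 4, 3, 0, 2, 3], [2, 0, 4, 3], [0, 4, 0, 4, 4, 3], [3, 4, 4, 0, 4], [4, 4, 4, 2, 4, 2, 4], [4, 4, 4, 0, 3], [4, 1, 3, 4, 3, 4], [1, 3, 1, 0, 3, 4], [0, 3, 1, 3, 0, 4, 3], [4, 4, 4, 0, 1, 3], [0, 3, 1, 3, 2, 4], [3, 1, 0, 3, 4], [4, 3, 4, 2, 3, 4], [1, 3, 2, 3, 4], [2, 0, 4, 4, 3, 4], [3, 1, 3, 4], [4, 3, 2, 0, 4, 4], [0, 4, 3, 4, 3, 4], [4, 3, 1, 0,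 3, 0, 3], [2, 0, 4, 0, 4, 4], [2, 4, 2, 3], [0, 2, 4, 3, 2, 3], [0, 3, 0, 3, 4], [4, 3, 2, 3, 1, 0, 3], [3, 4, 3, 4, 4], [2, 3, 1, 3, 4, 3], [0, 4, 0, 3, 1, 3], [4, 2, 3, 2, 3], [1, 3, 0, 3, 2, 4], [3, 4, 3, 0, 2, 3], [3, 2, 3, 0, 4], [4, 0, 4, 4, 1, 3], [0, 4], [2, 4, 4, 3, 2, 4], [3, 1, 3, 0, 4, 3], [0, 4, 4, 4, 0, 3], [4, 2, 3, 1, 0, 3], [4, 4, 4, 4, 4, 3], [3, 4, 2, 3, 4, 4, 3], [2, 0, 4, 2, 3], [4, 0, 4, 4, 3], [0, 1, 3, 2, 3, 4], [3, 1, 0, 3, 2, 4], [0, 3, 1, 3, 4], [3, 2, 0, 4, 4, 4, 3], [2, 3, 2, 4, 2, 0, 3], [3, 1, 3, 2, 4], [0, 3, 1, 0, 3, 4], [3, 0, 4, 4, 4, 3], [4, 0, 2, 4, 0, 3], [3, 0, 3], [2, 0, 4, 4, 4, 4], [3, 4, 4, 0, 3, 0, 3], [4, 3, 4, 3], [3, 2, 4, 2, 4], [3, 0, 4, 0, 3, 4], [2, 4, 3, 4, 1, 3], [4, 2, 4, 3, 0, 3], [3, 0, 4, 3, 4], [1, 0, 3, 1, 0, 3], [3, 0, 1, 3], [2, 4, 0, 4, 0, 3], [2, 4, 3, 2, 4, 3], [4, 3, 4, 1,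 3], [0, 4, 4, 0, 1, 0, 3], [4, 2, 3, 4, 0, 2, 3], [4, 4, 3, 0, 2, 0, 3], [2, 3, 0, 1, 3], [1, 3, 1, 0, 3], [2, 4, 3, 4, 3], [4, 0, 4, 0, 1, 3], [4, 4, 3, 4, 2, 4], [1, 3, 0, 4, 4], [0, 4, 3, 2, 3, 4, 3], [1, 3, 2, 3], [4, 3, 4, 4, 2, 3, 4], [0, 4, 4, 4, 4], [4, 0, 4, 0, 3], [4, 3, 2, 4, 3], [1, 0, 3, 0, 4, 4], [3, 0, 4, 2, 3, 4], [4, 4, 0, 3, 4, 0, 4], [0, 4, 3, 4, 2, 0, 3], [2, 4, 3, 2, 0, 4], [2, 3, 0, 2, 3], [0, 3, 0, 2, 0, 3], [4, 1, 3, 2, 4], [3, 4, 4, 3], [4, 4, 4, 3, 4, 2, 3], [1, 0, 3, 0, 2, 0, 3], [2, 0, 4, 0, 4], [3, 4, 2, 4, 3], [4, 3, 0, 4], [0, 2, 4, 0, 4, 2, 3], [0, 4, 4, 2, 0, 3], [0, 3, 2, 0, 3], [3, 4, 4, 1, 3], [2, 3, 2, 4, 4], [0, 1, 3, 0, 2, 3], [0, 4, 3, 4, 4, 2, 4], [4, 4, 3, 4, 4], [4, 4, 3, 0, 2, 3], [4, 2, 3, 0, 4], [2, 4, 3, 4, 2, 3], [2, 3, 0, 1, 0, 3], [1, 3, 4, 4, 3], [0, 4, 4, 0, 2, 0, 3], [0, 4, 2, 3, 4,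 2, 3], [4, 0, 4, 4, 4, 3], [1, 0, 3, 2, 0, 3], [1, 3, 4, 4, 1, 3], [0, 4, 4, 4, 2, 4], [2, 3, 4, 4], [3, 4, 2, 4, 3, 4], [2, 3, 0, 4, 2, 0, 3], [2, 4, 2, 0, 3], [1, 3, 2, 4, 3], [4, 0, 3, 4, 4, 2, 3], [1, 3, 4, 1, 3], [4, 2, 3, 0, 2, 0, 3], [4, 4, 2, 0, 4], [4, 4, 4, 0, 4, 4], [2, 3, 4, 2, 0, 3], [1, 0, 3, 2, 4, 0, 3], [1, 3, 4, 3], [3, 4, 4, 3, 2, 4], [2, 3, 4, 4, 0, 4, 3], [0, 4, 3, 0, 3], [4, 0, 4, 2, 0, 4], [3, 4, 0, 4, 4], [3, 0, 4, 2, 3], [4, 3, 4, 2, 0, 4], [0, 4, 4, 3, 4, 3], [4, 3, 4, 4, 2, 3], [0, 3, 4, 4, 4], [0, 4, 3, 0, 1, 3], [3, 2, 0, 4], [3, 0, 4, 0, 4, 4], [3, 4, 2, 3], [4, 4, 4, 2, 3], [3, 0, 3, 1, 3, 4, 3], [0, 3, 4, 0, 2, 3], [3, 2, 4, 2, 3, 2, 3], [2, 4, 4, 2, 4], [3, 4, 4, 0, 3, 2, 4], [4, 0, 4, 4, 4, 4, 3], [3, 0, 1, 3, 2, 4], [4, 4, 4, 1, 3], [2, 4, 0, 1, 0, 3], [2, 3, 2, 3, 4, 1, 3], [4, 2, 0, 4, 3, 4, 3], [2,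 3, 4, 1, 3, 2, 3], [0, 1, 0, 3, 2, 4], [4, 4, 0, 4, 3, 2, 3], [1, 3, 4, 2, 4, 4, 3], [2, 3, 4, 3, 0, 1, 3], [3, 0, 3, 0, 4], [0, 1, 3, 2, 4], [4, 3, 1, 0, 3, 2, 0, 3], [0, 2, 3, 0, 4], [4, 4, 2, 4, 3], [2, 4, 2, 4, 4], [3, 0, 2, 3, 0, 4], [3, 2, 4, 0, 2, 3], [1, 3, 2, 3, 2, 4], [4, 4, 4, 4, 3, 4], [3, 0, 1, 0, 3, 2, 4], [4, 0, 2, 3, 2, 3], [0, 3, 2, 4, 2, 3], [2, 3, 2, 3, 4, 3], [0, 3, 0, 4], [4, 1, 3, 4, 3, 0, 4], [4, 4, 4, 3], [0, 4, 3, 4, 4], [3, 4, 4, 4, 1, 3], [0, 1, 0, 3, 0, 4, 3], [2, 4, 0, 2, 3], [4, 0, 3, 4, 0, 4], [4, 2, 4, 3, 0, 4], [0, 2, 4, 0, 1, 0, 3], [1, 3, 0, 4, 3], [4, 4, 2, 4, 2, 0, 3], [2, 4, 3, 0, 1, 0, 3], [1, 0, 3, 2, 4], [1, 3, 4, 3, 2, 3], [0, 3, 0, 3, 0, 4], [1, 3, 0, 2, 4, 3], [4, 2, 3, 4, 4, 3], [4, 4, 4, 4, 4, 2, 3], [4, 3, 0, 2, 3], [2, 3, 0, 4], [1, 0, 3, 4, 3, 2, 3], [1, 3, 2, 4], [4, 4, 1, 3, 4, 3], [3,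 2, 4, 2, 3], [3, 0, 4, 4, 4, 0, 3], [3, 4, 2, 3, 1, 0, 3], [4, 4, 3, 4, 2, 3], [4, 3, 0, 1, 0, 3], [2, 0, 4, 4, 4, 3], [3, 0, 3, 1, 3, 4], [4, 3, 4, 4], [0, 3, 4, 4, 4, 1, 3], [1, 0, 3, 0, 4, 3], [4, 1, 3, 2, 0, 3], [2, 4, 3, 0, 2, 3], [3, 0, 4], [4, 3, 4, 2, 0, 4, 3], [0, 4, 4, 4, 3], [4, 3, 0, 4, 3, 4], [3, 4, 2, 4, 4], [4, 2, 3, 0, 1, 3], [4, 1, 3, 1, 0, 3], [2, 3, 4, 3], [3, 2, 0, 3, 0, 4], [4, 4, 0, 4, 0, 3], [4, 4, 3, 2, 4, 3], [2, 3, 4, 1, 3], [2, 4, 0, 3, 4, 4, 3], [2, 3, 4, 4, 3, 4], [4, 2, 4, 3, 4, 3], [4, 4, 0, 2, 4, 0, 3], [4, 3, 0, 3], [4, 0, 4, 4, 4, 4], [1, 0, 3, 4, 2, 3], [4, 3, 0, 1, 3], [2, 0, 4, 0, 3], [0, 4, 3, 4, 4, 2, 3], [3, 4, 4, 4], [3, 4, 0, 1, 0, 3], [4, 4, 3, 4, 3], [0, 3, 4, 0, 4, 4], [0, 3, 0, 4, 2, 3], [3, 4, 0, 2, 3], [2, 4, 3, 0, 2, 0, 3], [0, 2, 4, 4, 2, 4], [1, 0, 3, 0, 4, 2, 3], [3, 4, 4, 2, 0, 4, 3],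 [0, 3, 4, 2, 3], [4, 1, 3, 2, 3], [3, 0, 2, 3, 2, 4], [2, 3, 0, 4, 2, 0, 4], [4, 3, 4, 2, 0, 3], [1, 3, 2, 4, 4], [3, 4, 0, 4, 3], [3, 0, 2, 0, 3], [2, 4, 2, 0, 4], [0, 3, 4, 4, 3], [4, 1, 3, 4, 0, 1, 3], [3, 4, 2, 4], [0, 4, 3, 0, 4], [1, 3, 4, 3, 2, 3, 4], [2, 0, 4, 2, 0, 4], [3, 2, 0, 3], [0, 3, 4, 4, 1, 3], [2, 4, 0, 4, 2, 3], [4, 4, 2, 0, 3], [3, 0, 4, 2, 4], [4, 0, 3, 4, 2, 0, 3], [0, 4, 2, 3, 0, 4], [4, 4, 4, 0, 4, 3], [0, 4, 4, 3, 4, 4], [4, 3, 4, 4, 2, 4], [1, 3, 0, 2, 3], [4, 0, 4, 2, 0, 3], [2, 3, 4, 2, 0, 4], [0, 1, 0, 3, 2, 0, 3], [1, 3, 4, 4], [4, 4, 4, 2, 4], [4, 4, 0, 2, 0, 3], [2, 3, 4, 4, 2, 3], [1, 3, 0, 1, 0, 3], [4, 2, 3, 4, 2, 3], [2, 4, 4, 1, 3], [0, 3, 0, 3], [3, 4, 4, 2, 4, 4], [2, 3, 1, 3, 4, 4, 3], [0, 4, 3, 4, 3], [3, 2, 4, 2, 4, 3], [3, 4, 4, 0, 2, 3], [0, 2, 4, 3, 4, 1, 3], [2, 4, 2, 4, 3], [0, 3, 0, 1, 3],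 [4, 0, 2, 3, 2, 4], [3, 2, 4, 4, 3], [0, 4, 3, 4, 1, 3], [4, 4, 0, 1, 0, 3], [3, 0, 1, 3, 2, 3], [0, 2, 4, 3, 2, 4, 3], [4, 4, 2, 4, 4], [0, 4, 4, 3, 4, 2, 4], [0, 4, 0, 4, 0, 1, 3], [0, 2, 4, 3, 4, 3], [2, 4, 4, 3], [0, 2, 3, 0, 1, 3], [2, 3, 2, 3, 2, 4, 4], [1, 3, 0, 4, 4, 3], [0, 4, 3, 2, 4, 3], [4, 4, 0, 2, 3], [3, 1, 3, 0, 4, 4, 3], [2, 3, 2, 3, 4, 4], [0, 1, 3, 2, 3], [4, 3, 2, 3, 4, 3], [4, 4, 4, 4], [2, 3, 4, 4, 3, 0, 2, 3], [4, 1, 3, 4, 4, 0, 3], [1, 3, 0, 4, 3, 0, 3], [4, 4, 2, 4, 4, 0, 4], [4, 2, 4, 3, 2, 4], [0, 4, 4, 4, 3, 0, 3], [3, 1, 3, 4, 2, 3], [2, 4, 4, 3, 4], [0, 2, 3, 2, 3, 4], [4, 4, 4, 2, 4, 0, 4], [3, 2, 3, 4, 4, 4], [4, 3, 0, 3, 1, 3], [4, 4, 1, 3, 4], [0, 3, 1, 3, 0, 4], [3, 4, 1, 3, 4, 4], [4, 3, 4, 2, 4, 0, 3], [4, 4, 3, 4], [4, 3, 2, 3, 1, 3], [3, 4, 3, 4, 2, 4], [0, 4, 3, 2, 3], [3, 2, 4, 3, 0, 3], [3, 4,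 4, 4, 2, 0, 3], [4, 4, 2, 3, 4], [2, 3, 0, 4, 0, 3], [4, 3], [3, 4, 0, 3, 4, 4, 3], [4, 1, 3], [4, 3, 4, 4, 0, 3], [3, 2, 3, 4, 0, 2, 3], [4, 4, 0, 3, 4], [0, 3, 4, 3, 4, 4, 3], [2, 4, 3], [3, 0, 4, 0, 3], [2, 4, 4, 3, 0, 4], [3, 2, 0, 3, 0, 4, 3], [0, 4, 4, 4], [4, 0, 4, 3, 2, 4, 3], [4, 0, 4, 3, 4, 1, 3], [3, 4, 2, 4, 4, 3], [0, 2, 4, 4, 2, 4, 3], [1, 0, 3, 0, 4], [3, 4, 0, 1, 3, 2, 3], [4, 0, 4, 3, 4, 3], [4, 4, 4, 4, 4], [2, 0, 4, 3, 4, 4, 3], [2, 3, 2, 4], [0, 3, 4, 1, 3, 2, 3], [4, 4, 4, 2, 4, 4], [3, 0, 4, 4, 4], [2, 3, 0, 4, 3], [4, 0, 3, 0, 3], [1, 3, 2, 4, 0, 2, 3], [3, 2, 3, 2, 4], [2, 3, 0, 2, 4, 3], [1, 3, 0, 3, 0, 4], [4, 0, 2, 3, 0, 1, 3], [4, 2, 4, 4, 3], [2, 3, 4, 3, 2, 3], [2, 0, 3, 2, 4], [4, 0, 1, 3, 2, 3], [1, 0, 3, 2, 4, 2, 3], [3, 4, 0, 3, 0, 3], [3, 2, 3, 0, 4, 3], [2, 0, 3, 0, 4, 3], [0, 4, 0, 1, 0, 3], [2, 4,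 4, 0, 3, 4, 4], [0, 4, 2, 0, 4, 3], [4, 3, 4, 3, 2, 3], [4, 0, 3, 2, 4], [4, 4, 2, 3, 0, 2, 3], [2, 4, 2, 3, 4], [0, 4, 3, 0, 3, 4], [2, 3], [4, 3, 0, 2, 4, 3], [0, 4, 4], [2, 4, 0, 3, 4], [3, 4, 4, 1, 3, 2, 3], [1, 0, 3], [0, 4, 4, 3, 1, 3], [4, 2, 4, 0, 3, 0, 3], [4, 3, 0, 4, 3], [1, 3, 4, 3, 2, 4, 3], [4, 4, 4, 3, 0, 4], [2, 4, 3, 4], [0, 3, 0, 4, 0, 4], [3, 0, 3, 1, 0, 3], [0, 2, 4, 4], [3, 4, 4, 3, 0, 3], [4, 4, 3, 4, 4, 3], [1, 0, 3, 4, 4, 0, 3], [4, 4, 2, 3, 4, 4], [3, 4, 2, 3, 4, 3], [4, 3, 2, 4], [0, 3, 1, 3, 4, 2, 4], [0, 4, 4, 4, 4, 0, 3], [3, 1, 3, 0, 3], [1, 3, 2, 3, 0, 1, 3], [4, 4, 1, 3], [2, 0, 3, 0, 3], [3, 2, 3, 4, 4], [4, 4, 2, 4, 3, 2, 4], [4, 4, 3], [1, 3, 4, 3, 0, 4], [3, 2, 4, 3, 4, 2, 3], [3, 2, 3, 0, 1, 0, 3], [4, 2, 4, 3], [3, 4, 3, 0, 4], [4, 3, 1, 3, 4, 2, 3], [3, 4, 0, 4, 4, 4, 3], [0, 2, 3, 2, 3], [2, 4, 3,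 2, 3, 4, 3], [4, 4, 4, 1, 3, 4], [4, 4, 3, 0, 3, 1, 3], [2, 4, 4, 2, 4, 4], [4, 4, 3, 4, 4, 0, 3], [2, 3, 2, 4, 4, 3], [3, 1, 0, 3, 2, 0, 3], [2, 0, 4, 3, 4, 3], [3, 4, 1, 3, 2, 4], [3, 4, 4, 3, 0, 2, 3], [4, 4, 4, 3, 4], [4, 4, 4, 0, 3, 4], [2, 4, 4, 0, 2, 3], [3, 1, 3, 4, 4, 3], [0, 4, 4, 4, 4, 3], [4, 0, 4, 3, 2, 3], [2, 4, 4, 0, 1, 0, 3], [0, 3, 0, 4, 4, 3], [3, 2, 3, 2, 4, 4], [4, 0, 4, 0, 4, 4, 3], [4, 2, 0, 4, 3], [4, 4, 0, 3, 1, 3], [3, 0, 3, 4, 0, 4], [2, 3, 0, 4, 0, 4], [4, 3, 1, 3, 4], [4, 3, 0, 3, 4], [0, 2, 3], [0, 2, 4, 0, 3, 4], [3, 2, 3, 4, 4, 1, 3], [0, 4, 3, 0, 2, 4, 3], [4, 4], [2, 3, 1, 3, 2, 0, 3], [0, 4, 3, 0, 4, 3], [0, 1, 0, 3], [4, 4, 3, 1, 3], [0, 4, 4, 3, 4, 4, 3], [4, 3, 4, 4, 0, 4], [2, 4, 4], [3, 4, 1, 3, 4, 3], [3, 0, 4, 0, 4], [0, 2, 4, 3, 4], [0, 4, 4, 4, 3, 0, 4], [2, 0, 4, 3, 2, 4], [4, 4, 4, 4, 0, 3],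 [3, 1, 3, 4, 2, 4], [3, 0, 2, 4, 0, 4], [4, 3, 2, 3, 4], [3, 1, 3, 2, 0, 3], [2, 0, 4, 3, 0, 4, 3], [0, 4, 3, 2, 4], [3, 4, 2, 4, 2, 0, 3], [0, 4, 4, 1, 3], [1, 0, 3, 0, 3], [2, 3, 0, 4, 4], [2, 4, 0, 3, 4, 2, 3], [0, 4, 4, 3], [1, 0, 3, 0, 1, 3], [2, 4, 4, 3, 0, 1, 3], [3, 2, 3, 1, 0, 3], [2, 4, 2, 3, 4, 3], [2, 3, 4, 3, 2, 4], [2, 3, 1, 0, 3], [0, 3, 4, 3, 0, 4], [4, 4, 4, 4, 1, 3], [4, 2, 4, 0, 1, 0, 3], [2, 3, 2, 3], [4, 2, 3, 2, 3, 4, 3], [0, 4, 4, 4, 3, 4], [0, 3, 4, 4, 3, 0, 2, 3], [3, 0, 4, 4, 1, 3], [3, 1, 0, 3, 0, 3], [2, 4, 4, 3, 0, 3], [1, 3, 2, 4, 4, 3], [4, 0, 4, 3, 4, 4], [2, 0, 3, 0, 4, 4], [4, 0, 2, 3, 0, 4], [4, 4, 4, 2, 4, 3], [3, 1, 0, 3, 0, 1, 3], [3, 0, 4, 4, 3], [0, 2, 4, 4, 0, 2, 3], [2, 3, 2, 4, 3, 4], [4, 4, 4, 4, 3], [0, 3, 1, 3, 4, 4, 3], [2, 4, 3, 4, 3, 4], [2, 4, 4, 2, 4, 0, 3], [2, 3, 1, 0, 3, 4], [3, 1,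 3, 2, 4, 2, 3], [0, 3, 1, 3, 4, 2, 3], [4, 4, 4, 3, 0, 3], [2, 3, 2, 3, 4], [0, 2, 4, 4, 3, 4], [0, 4, 4, 1, 3, 4], [3, 0, 3, 0, 4, 3], [2, 3, 4, 4, 0, 4], [3, 4, 2, 3, 4, 4], [0, 4, 4, 3, 4], [1, 3, 2, 3, 0, 4], [3, 4, 1, 3, 4, 4, 3], [3, 1, 3, 0, 4], [4, 3, 4, 3, 2, 4], [0, 4, 3], [2, 4, 0, 3, 1, 3], [4, 3, 1, 0, 3], [4, 3, 2, 3], [3, 0, 3, 2, 4], [2, 3, 1, 3, 4], [0, 3, 4, 3, 4, 2, 4], [0, 4, 4, 0, 3, 4], [3, 4, 3, 4, 4, 3], [0, 2, 4, 3], [4, 0, 3, 1, 0, 3], [4, 2, 0, 4, 4, 1, 3], [2, 4], [4, 3, 0, 4, 4], [3, 0, 1, 3, 0, 4], [3, 4, 2, 3, 0, 1, 3], [3, 4, 1, 3, 1, 0, 3], [3, 0, 4, 3, 4, 4, 2, 3], [4, 4, 4], [3, 4, 2, 4, 3, 4, 3], [4, 0, 4, 3, 2, 4], [0, 1, 0, 3, 0, 4], [2, 4, 4, 2, 4, 3], [3, 4, 4, 3, 2, 4, 3], [0, 4, 4, 4, 4, 4], [2, 3, 2, 4, 0, 2, 3], [1, 3, 2, 3, 4, 1, 3], [0, 3, 0, 4, 4, 4], [2, 0, 4, 3, 4, 4], [3, 4, 1, 3, 2, 3],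 [0, 2, 3, 2, 4], [4, 3, 4, 1, 3, 4, 3], [4, 2, 4, 4], [3, 4, 3, 0, 1, 3], [3, 2, 0, 4, 0, 3], [0, 1, 3, 2, 4, 0, 2, 3], [3, 2, 3, 4, 1, 3], [0, 2, 3, 0, 4, 3], [4, 0, 2, 3], [2, 0, 3, 0, 4], [3, 2, 3, 4, 3], [4, 4, 4, 3, 1, 3], [4, 0, 1, 0, 3], [1, 3, 4, 1, 3, 2, 3], [3, 4, 3, 0, 3], [4, 4, 2, 0, 4, 3], [3, 0, 3, 4, 2, 3]]

/-- the orbit of level 2 of the point stabiliser -/
def O2 : List ℕ := [1, 3, 5, 7, 9]

/-- transversal words of level 2 -/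
def VW2 : List (List ℕ) := [[], [1], [0, 1], [0, 2], [2]]

/-- the orbit of level 3 of the point stabiliser -/
def O3 : List ℕ := [3, 5]

/-- transversal words of level 3 -/
def VW3 : List (List ℕ) := [[], [0]]

/-- conjugating words: entry `(c, cls)` of row `i`, column `k` -/
def CT : List (List (List ℕ × ℕ)) := [
  [([], 0), ([], 2), ([1, 5], 2), ([], 0), ([], 0), ([2], 2), ([], 0), ([5], 2), ([1], 2), ([], 0)],
  [([], 0), ([2, 6, 4, 4, 6], 1), ([2, 6, 4, 4, 6, 0], 1), ([], 0), ([], 0), ([2, 6, 4, 4, 6, 5], 1), ([4, 3, 6, 4, 4, 6], 2), ([2, 6, 4, 4, 6, 1], 1), ([2, 6, 3, 4, 4, 6], 1), ([], 0)],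
  [([1, 3, 1, 4], 2), ([1, 6, 1, 6, 4, 6], 2), ([], 0), ([], 0), ([], 0), ([], 0), ([], 0), ([], 0), ([], 0), ([], 0)],
  [([], 0), ([], 0), ([2, 6, 0, 1, 6, 2], 2), ([2, 6, 3, 4, 0, 6], 1), ([], 0), ([], 0), ([], 0), ([], 0), ([], 0), ([], 0)],
  [([], 0), ([], 0), ([], 0), ([], 0), ([4, 4], 1), ([6, 6, 4, 0, 6, 6], 1), ([], 0), ([], 0), ([], 0), ([], 0)],
  [([], 0), ([], 0), ([], 0), ([], 0), ([1, 5, 3, 0, 2], 2), ([0, 2], 1), ([], 0), ([], 0), ([], 0), ([], 0)],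
  [([], 0), ([], 0), ([], 0), ([], 0), ([], 0), ([], 0), ([], 0), ([], 0), ([4, 3], 1), ([6, 5, 6, 0, 4, 4], 1)],
  [([4, 1], 1), ([3, 4], 2), ([], 0), ([], 0), ([], 0), ([], 0), ([], 0), ([], 0), ([], 0), ([], 0)],
  [([], 0), ([0, 2, 3], 1), ([], 0), ([], 0), ([], 0), ([], 0), ([6, 3, 6, 3, 6, 4], 1), ([], 0), ([], 0), ([], 0)],
  [([], 0), ([1, 5, 3, 5], 2), ([], 0), ([], 0), ([], 0), ([], 0), ([5], 1), ([], 0), ([], 0), ([], 0)],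
  [([0, 3], 1), ([], 0), ([], 0), ([], 0), ([], 0), ([], 0), ([], 0), ([6, 5, 6, 1, 4, 4], 1), ([], 0), ([], 0)],
  [([], 0), ([], 0), ([], 0), ([], 0), ([2], 1), ([], 0), ([], 0), ([], 0), ([1, 5, 3, 2], 2), ([], 0)],
  [([], 0), ([], 0), ([], 0), ([], 0), ([], 0), ([], 0), ([], 0), ([1, 4, 3, 5], 2), ([], 0), ([4, 5], 1)],
  [([], 0), ([], 0), ([], 0), ([6, 3, 6, 3, 6], 1), ([], 0), ([], 0), ([], 0), ([], 0), ([0, 4], 1), ([], 0)],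
  [([], 0), ([], 0), ([], 0), ([], 0), ([], 0), ([], 0), ([1, 4, 4], 2), ([], 0), ([4, 0, 1], 1), ([], 0)],
  [([0, 2, 4], 1), ([], 0), ([], 0), ([], 0), ([], 0), ([6, 5, 6, 2, 4], 1), ([], 0), ([], 0), ([], 0), ([], 0)],
  [([], 0), ([], 0), ([], 0), ([2, 6, 0, 3, 6, 4], 2), ([], 0), ([], 0), ([], 0), ([2, 3, 4, 0], 2), ([], 0), ([], 0)],
  [([], 0), ([], 0), ([], 0), ([6, 4, 3, 5, 6], 2), ([], 0), ([], 0), ([], 0), ([0, 6, 6, 2, 4, 6], 1), ([], 0), ([], 0)],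
  [([1, 5, 3], 2), ([], 0), ([], 1), ([], 0), ([], 0), ([], 0), ([], 0), ([], 0), ([], 0), ([], 0)],
  [([], 0), ([], 0), ([], 0), ([2, 3, 6, 2, 4, 5, 6], 1), ([], 0), ([], 0), ([], 0), ([], 0), ([0, 3, 2], 1), ([], 0)],
  [([], 0), ([], 0), ([6, 5, 6, 1, 4, 3], 1), ([], 0), ([], 0), ([], 0), ([], 0), ([], 0), ([], 0), ([2, 3], 1)],
  [([], 0), ([1, 5, 3, 0], 2), ([], 0), ([0], 1), ([], 0), ([], 0), ([], 0), ([], 0), ([], 0), ([], 0)],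
  [([], 0), ([], 0), ([], 0), ([], 0), ([2, 6, 0, 1, 6, 1], 2), ([], 0), ([], 0), ([], 0), ([0, 4, 6, 6, 1, 6, 2], 1), ([], 0)],
  [([], 0), ([], 0), ([2, 6, 0, 1, 6, 3], 2), ([], 0), ([], 0), ([], 0), ([2, 3, 4], 2), ([], 0), ([], 0), ([], 0)],
  [([], 0), ([], 0), ([6, 5, 6, 2, 3], 1), ([], 0), ([0, 4, 5], 1), ([], 0), ([], 0), ([], 0), ([], 0), ([], 0)],
  [([], 0), ([], 0), ([], 0), ([], 0), ([], 0), ([1, 4, 3], 2), ([], 0), ([], 0), ([], 0), ([4], 1)],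
  [([], 0), ([2, 6, 0, 1, 6], 2), ([], 0), ([0, 4, 6, 6, 1, 6, 0], 1), ([], 0), ([], 0), ([], 0), ([], 0), ([], 0), ([], 0)],
  [([], 0), ([], 0), ([], 0), ([], 0), ([], 0), ([], 0), ([2, 6, 0, 3, 6, 0], 2), ([], 0), ([1, 3, 4], 2), ([], 0)],
  [([], 0), ([], 0), ([], 0), ([], 0), ([3, 4, 5], 2), ([], 0), ([], 0), ([], 0), ([4, 0], 1), ([], 0)],
  [([2, 4], 1), ([], 0), ([], 0), ([], 0), ([], 0), ([], 0), ([], 0), ([6, 3, 6, 3, 6, 2], 1), ([], 0), ([], 0)],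
  [([], 0), ([1, 3, 4, 0], 2), ([], 0), ([], 0), ([2, 6, 0, 3, 6], 2), ([], 0), ([], 0), ([], 0), ([], 0), ([], 0)],
  [([], 0), ([], 0), ([], 0), ([], 0), ([], 0), ([0, 4, 6, 6, 1, 6], 1), ([2, 6, 0, 1, 6, 0], 2), ([], 0), ([], 0), ([], 0)],
  [([6, 5, 6, 2], 1), ([4, 5, 6, 5, 6, 2], 1), ([], 0), ([], 0), ([], 0), ([], 0), ([], 0), ([], 0), ([], 0), ([], 0)],
  [([], 0), ([], 0), ([1, 4], 2), ([6, 6, 1, 6, 4, 3], 1), ([], 0), ([], 0), ([], 0), ([], 0), ([], 0), ([], 0)],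
  [([0, 4, 6, 5, 6, 2], 1), ([6, 6, 1, 6, 4, 4], 1), ([], 0), ([], 0), ([], 0), ([], 0), ([], 0), ([], 0), ([], 0), ([], 0)],
  [([], 0), ([], 0), ([], 0), ([], 0), ([], 0), ([], 0), ([], 0), ([], 0), ([6, 6, 1, 6, 5, 3], 1), ([5, 4, 3, 2], 2)],
  [([], 0), ([], 0), ([], 0), ([], 0), ([6, 6, 1, 6, 0, 2], 1), ([6, 5, 6, 2, 3, 4], 1), ([], 0), ([], 0), ([], 0), ([], 0)],
  [([], 0), ([], 0), ([], 0), ([], 0), ([1, 4, 3, 4], 2), ([6, 2, 4, 5, 6, 4, 4], 1), ([], 0), ([], 0), ([], 0), ([], 0)],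
  [([], 0), ([], 0), ([2, 6, 4, 4, 6, 3], 1), ([6, 6, 1, 6, 4, 1], 1), ([], 0), ([], 0), ([], 0), ([], 0), ([], 0), ([], 0)],
  [([1, 3], 2), ([6, 3, 6, 1, 6, 3, 5], 1), ([], 0), ([], 0), ([], 0), ([], 0), ([], 0), ([], 0), ([], 0), ([], 0)],
  [([], 0), ([], 0), ([], 0), ([6, 4, 6, 2, 6, 4], 1), ([], 0), ([], 0), ([], 0), ([], 0), ([], 0), ([], 0)],
  [([6, 1, 6, 3, 6, 5], 1), ([], 0), ([], 0), ([], 0), ([], 0), ([], 0), ([], 0), ([], 0), ([], 0), ([], 0)],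
  [([], 0), ([], 0), ([5, 6, 3, 4, 6, 6, 5], 1), ([], 0), ([], 0), ([], 0), ([], 0), ([], 0), ([], 0), ([], 0)],
  [([], 0), ([], 0), ([], 0), ([], 0), ([], 0), ([], 0), ([], 0), ([], 0), ([6, 6, 3, 1, 6, 2], 1), ([], 0)],
  [([], 0), ([], 0), ([], 0), ([], 0), ([], 0), ([], 0), ([6, 3, 6, 1, 6, 2], 1), ([], 0), ([], 0), ([], 0)],
  [([0, 6, 6, 2, 6, 2, 6, 1], 1), ([], 0), ([], 0), ([], 0), ([], 0), ([], 0), ([], 0), ([], 0), ([], 0), ([], 0)],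
  [([], 0), ([], 0), ([], 0), ([], 0), ([], 0), ([], 0), ([], 0), ([6, 4, 6, 2, 6, 3], 1), ([], 0), ([], 0)],
  [([], 0), ([], 0), ([], 0), ([], 0), ([], 0), ([], 0), ([], 0), ([], 0), ([5, 6, 4, 6, 2, 6, 3], 1), ([], 0)],
  [([], 0), ([], 0), ([], 0), ([], 0), ([], 0), ([], 0), ([], 0), ([], 0), ([], 0), ([], 0)],
  [([], 0), ([], 0), ([], 0), ([], 0), ([], 0), ([], 0), ([], 0), ([], 0), ([], 0), ([], 0)],
  [([], 0), ([], 0), ([], 0), ([], 0), ([], 0), ([], 0), ([], 0), ([], 0), ([], 0), ([], 0)],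
  [([], 0), ([], 0), ([], 0), ([], 0), ([], 0), ([], 0), ([], 0), ([], 0), ([], 0), ([], 0)],
  [([], 0), ([], 0), ([], 0), ([], 0), ([], 0), ([], 0), ([], 0), ([], 0), ([], 0), ([], 0)],
  [([], 0), ([], 0), ([], 0), ([], 0), ([], 0), ([], 0), ([], 0), ([], 0), ([], 0), ([], 0)],
  [([], 0), ([], 0), ([], 0), ([], 0), ([], 0), ([], 0), ([], 0), ([], 0), ([], 0), ([], 0)],
  [([], 0), ([], 0), ([], 0), ([], 0), ([], 0), ([], 0), ([], 0), ([], 0), ([], 0), ([], 0)],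
  [([], 0), ([], 0), ([], 0), ([], 0), ([], 0), ([], 0), ([], 0), ([], 0), ([], 0), ([], 0)],
  [([], 0), ([], 0), ([], 0), ([], 0), ([], 0), ([], 0), ([], 0), ([], 0), ([], 0), ([], 0)],
  [([], 0), ([], 0), ([], 0), ([], 0), ([], 0), ([], 0), ([], 0), ([], 0), ([], 0), ([], 0)],
  [([], 0), ([], 0), ([], 0), ([], 0), ([], 0), ([], 0), ([], 0), ([], 0), ([], 0), ([], 0)],
  [([], 0), ([], 0), ([], 0), ([], 0), ([], 0), ([], 0), ([], 0), ([], 0), ([], 0), ([], 0)],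
  [([], 0), ([], 0), ([], 0), ([], 0), ([], 0), ([], 0), ([], 0), ([], 0), ([], 0), ([], 0)],
  [([], 0), ([], 0), ([], 0), ([], 0), ([], 0), ([], 0), ([], 0), ([], 0), ([], 0), ([], 0)],
  [([], 0), ([], 0), ([], 0), ([], 0), ([], 0), ([], 0), ([], 0), ([], 0), ([], 0), ([], 0)],
  [([], 0), ([], 0), ([], 0), ([], 0), ([], 0), ([], 0), ([], 0), ([], 0), ([], 0), ([], 0)],
  [([], 0), ([], 0), ([], 0), ([], 0), ([], 0), ([], 0), ([], 0), ([], 0), ([], 0), ([], 0)],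
  [([], 0), ([], 0), ([], 0), ([], 0), ([], 0), ([], 0), ([], 0), ([], 0), ([], 0), ([], 0)],
  [([], 0), ([], 0), ([], 0), ([], 0), ([], 0), ([], 0), ([], 0), ([], 0), ([], 0), ([], 0)],
  [([], 0), ([], 0), ([], 0), ([], 0), ([], 0), ([], 0), ([], 0), ([], 0), ([], 0), ([], 0)],
  [([], 0), ([], 0), ([], 0), ([], 0), ([], 0), ([], 0), ([], 0), ([], 0), ([], 0), ([], 0)],
  [([], 0), ([], 0), ([], 0), ([], 0), ([], 0), ([], 0), ([], 0), ([], 0), ([], 0), ([], 0)],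
  [([], 0), ([], 0), ([], 0), ([], 0), ([], 0), ([], 0), ([], 0), ([], 0), ([], 0), ([], 0)],
  [([], 0), ([], 0), ([], 0), ([], 0), ([], 0), ([], 0), ([], 0), ([], 0), ([], 0), ([], 0)],
  [([], 0), ([], 0), ([], 0), ([], 0), ([], 0), ([], 0), ([], 0), ([], 0), ([], 0), ([], 0)],
  [([], 0), ([], 0), ([], 0), ([], 0), ([], 0), ([], 0), ([], 0), ([], 0), ([], 0), ([], 0)],
  [([], 0), ([], 0), ([], 0), ([], 0), ([], 0), ([], 0), ([], 0), ([], 0), ([], 0), ([], 0)],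
  [([], 0), ([], 0), ([], 0), ([], 0), ([], 0), ([], 0), ([], 0), ([], 0), ([], 0), ([], 0)],
  [([], 0), ([], 0), ([], 0), ([], 0), ([], 0), ([], 0), ([], 0), ([], 0), ([], 0), ([], 0)],
  [([], 0), ([], 0), ([], 0), ([], 0), ([], 0), ([], 0), ([], 0), ([], 0), ([], 0), ([], 0)],
  [([], 0), ([], 0), ([], 0), ([], 0), ([], 0), ([], 0), ([], 0), ([], 0), ([], 0), ([], 0)],
  [([], 0), ([], 0), ([], 0), ([], 0), ([], 0), ([], 0), ([], 0), ([], 0), ([], 0), ([], 0)],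
  [([], 0), ([], 0), ([], 0), ([], 0), ([], 0), ([], 0), ([], 0), ([], 0), ([], 0), ([], 0)],
  [([], 0), ([], 0), ([], 0), ([], 0), ([], 0), ([], 0), ([], 0), ([], 0), ([], 0), ([], 0)],
  [([], 0), ([], 0), ([], 0), ([], 0), ([], 0), ([], 0), ([], 0), ([], 0), ([], 0), ([], 0)],
  [([], 0), ([], 0), ([], 0), ([], 0), ([], 0), ([], 0), ([], 0), ([], 0), ([], 0), ([], 0)],
  [([], 0), ([], 0), ([], 0), ([], 0), ([], 0), ([], 0), ([], 0), ([], 0), ([], 0), ([], 0)],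
  [([], 0), ([], 0), ([], 0), ([], 0), ([], 0), ([], 0), ([], 0), ([], 0), ([], 0), ([], 0)],
  [([], 0), ([], 0), ([], 0), ([], 0), ([], 0), ([], 0), ([], 0), ([], 0), ([], 0), ([], 0)],
  [([], 0), ([], 0), ([], 0), ([], 0), ([], 0), ([], 0), ([], 0), ([], 0), ([], 0), ([], 0)],
  [([], 0), ([], 0), ([], 0), ([], 0), ([], 0), ([], 0), ([], 0), ([], 0), ([], 0), ([], 0)],
  [([], 0), ([], 0), ([], 0), ([], 0), ([], 0), ([], 0), ([], 0), ([], 0), ([], 0), ([], 0)],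
  [([], 0), ([], 0), ([], 0), ([], 0), ([], 0), ([], 0), ([], 0), ([], 0), ([], 0), ([], 0)],
  [([], 0), ([], 0), ([], 0), ([], 0), ([], 0), ([], 0), ([], 0), ([], 0), ([], 0), ([], 0)],
  [([], 0), ([], 0), ([], 0), ([], 0), ([], 0), ([], 0), ([], 0), ([], 0), ([], 0), ([], 0)],
  [([], 0), ([], 0), ([], 0), ([], 0), ([], 0), ([], 0), ([], 0), ([], 0), ([], 0), ([], 0)],
  [([], 0), ([], 0), ([], 0), ([], 0), ([], 0), ([], 0), ([], 0), ([], 0), ([], 0), ([], 0)],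
  [([], 0), ([], 0), ([], 0), ([], 0), ([], 0), ([], 0), ([], 0), ([], 0), ([], 0), ([], 0)],
  [([], 0), ([], 0), ([], 0), ([], 0), ([], 0), ([], 0), ([], 0), ([], 0), ([], 0), ([], 0)],
  [([], 0), ([], 0), ([], 0), ([], 0), ([], 0), ([], 0), ([], 0), ([], 0), ([], 0), ([], 0)],
  [([], 0), ([], 0), ([], 0), ([], 0), ([], 0), ([], 0), ([], 0), ([], 0), ([], 0), ([], 0)],
  [([], 0), ([], 0), ([], 0), ([], 0), ([], 0), ([], 0), ([], 0), ([], 0), ([], 0), ([], 0)],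
  [([], 0), ([], 0), ([], 0), ([], 0), ([], 0), ([], 0), ([], 0), ([], 0), ([], 0), ([], 0)],
  [([], 0), ([], 0), ([], 0), ([], 0), ([], 0), ([], 0), ([], 0), ([], 0), ([], 0), ([], 0)],
  [([], 0), ([], 0), ([], 0), ([], 0), ([], 0), ([], 0), ([], 0), ([], 0), ([], 0), ([], 0)],
  [([], 0), ([], 0), ([], 0), ([], 0), ([], 0), ([], 0), ([], 0), ([], 0), ([], 0), ([], 0)],
  [([], 0), ([], 0), ([], 0), ([], 0), ([], 0), ([], 0), ([], 0), ([], 0), ([], 0), ([], 0)],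
  [([], 0), ([], 0), ([], 0), ([], 0), ([], 0), ([], 0), ([], 0), ([], 0), ([], 0), ([], 0)],
  [([], 0), ([], 0), ([], 0), ([], 0), ([], 0), ([], 0), ([], 0), ([], 0), ([], 0), ([], 0)],
  [([], 0), ([], 0), ([], 0), ([], 0), ([], 0), ([], 0), ([], 0), ([], 0), ([], 0), ([], 0)],
  [([], 0), ([], 0), ([], 0), ([], 0), ([], 0), ([], 0), ([], 0), ([], 0), ([], 0), ([], 0)],
  [([], 0), ([], 0), ([], 0), ([], 0), ([], 0), ([], 0), ([], 0), ([], 0), ([], 0), ([], 0)],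
  [([], 0), ([], 0), ([], 0), ([], 0), ([], 0), ([], 0), ([], 0), ([], 0), ([], 0), ([], 0)],
  [([], 0), ([], 0), ([], 0), ([], 0), ([], 0), ([], 0), ([], 0), ([], 0), ([], 0), ([], 0)],
  [([], 0), ([], 0), ([], 0), ([], 0), ([], 0), ([], 0), ([], 0), ([], 0), ([], 0), ([], 0)],
  [([], 0), ([], 0), ([], 0), ([], 0), ([], 0), ([], 0), ([], 0), ([], 0), ([], 0), ([], 0)],
  [([], 0), ([], 0), ([], 0), ([], 0), ([], 0), ([], 0), ([], 0), ([], 0), ([], 0), ([], 0)],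
  [([], 0), ([], 0), ([], 0), ([], 0), ([], 0), ([], 0), ([], 0), ([], 0), ([], 0), ([], 0)],
  [([], 0), ([], 0), ([], 0), ([], 0), ([], 0), ([], 0), ([], 0), ([], 0), ([], 0), ([], 0)],
  [([], 0), ([], 0), ([], 0), ([], 0), ([], 0), ([], 0), ([], 0), ([], 0), ([], 0), ([], 0)],
  [([], 0), ([], 0), ([], 0), ([], 0), ([], 0), ([], 0), ([], 0), ([], 0), ([], 0), ([], 0)],
  [([], 0), ([], 0), ([], 0), ([], 0), ([], 0), ([], 0), ([], 0), ([], 0), ([], 0), ([], 0)],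
  [([], 0), ([], 0), ([], 0), ([], 0), ([], 0), ([], 0), ([], 0), ([], 0), ([], 0), ([], 0)],
  [([], 0), ([], 0), ([], 0), ([], 0), ([], 0), ([], 0), ([], 0), ([], 0), ([], 0), ([], 0)],
  [([], 0), ([], 0), ([], 0), ([], 0), ([], 0), ([], 0), ([], 0), ([], 0), ([], 0), ([], 0)],
  [([], 0), ([], 0), ([], 0), ([], 0), ([], 0), ([], 0), ([], 0), ([], 0), ([], 0), ([], 0)],
  [([], 0), ([], 0), ([], 0), ([], 0), ([], 0), ([], 0), ([], 0), ([], 0), ([], 0), ([], 0)],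
  [([], 0), ([], 0), ([], 0), ([], 0), ([], 0), ([], 0), ([], 0), ([], 0), ([], 0), ([], 0)],
  [([], 0), ([], 0), ([], 0), ([], 0), ([], 0), ([], 0), ([], 0), ([], 0), ([], 0), ([], 0)],
  [([], 0), ([], 0), ([], 0), ([], 0), ([], 0), ([], 0), ([], 0), ([], 0), ([], 0), ([], 0)],
  [([], 0), ([], 0), ([], 0), ([], 0), ([], 0), ([], 0), ([], 0), ([], 0), ([], 0), ([], 0)],
  [([], 0), ([], 0), ([], 0), ([], 0), ([], 0), ([], 0), ([], 0), ([], 0), ([], 0), ([], 0)],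
  [([], 0), ([], 0), ([], 0), ([], 0), ([], 0), ([], 0), ([], 0), ([], 0), ([], 0), ([], 0)],
  [([], 0), ([], 0), ([], 0), ([], 0), ([], 0), ([], 0), ([], 0), ([], 0), ([], 0), ([], 0)],
  [([], 0), ([], 0), ([], 0), ([], 0), ([], 0), ([], 0), ([], 0), ([], 0), ([], 0), ([], 0)],
  [([], 0), ([], 0), ([], 0), ([], 0), ([], 0), ([], 0), ([], 0), ([], 0), ([], 0), ([], 0)],
  [([], 0), ([], 0), ([], 0), ([], 0), ([], 0), ([], 0), ([], 0), ([], 0), ([], 0), ([], 0)],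
  [([], 0), ([], 0), ([], 0), ([], 0), ([], 0), ([], 0), ([], 0), ([], 0), ([], 0), ([], 0)],
  [([], 0), ([], 0), ([], 0), ([], 0), ([], 0), ([], 0), ([], 0), ([], 0), ([], 0), ([], 0)],
  [([], 0), ([], 0), ([], 0), ([], 0), ([], 0), ([], 0), ([], 0), ([], 0), ([], 0), ([], 0)],
  [([], 0), ([], 0), ([], 0), ([], 0), ([], 0), ([], 0), ([], 0), ([], 0), ([], 0), ([], 0)],
  [([], 0), ([], 0), ([], 0), ([], 0), ([], 0), ([], 0), ([], 0), ([], 0), ([], 0), ([], 0)],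
  [([], 0), ([], 0), ([], 0), ([], 0), ([], 0), ([], 0), ([], 0), ([], 0), ([], 0), ([], 0)],
  [([], 0), ([], 0), ([], 0), ([], 0), ([], 0), ([], 0), ([], 0), ([], 0), ([], 0), ([], 0)],
  [([], 0), ([], 0), ([], 0), ([], 0), ([], 0), ([], 0), ([], 0), ([], 0), ([], 0), ([], 0)],
  [([], 0), ([], 0), ([], 0), ([], 0), ([], 0), ([], 0), ([], 0), ([], 0), ([], 0), ([], 0)],
  [([], 0), ([], 0), ([], 0), ([], 0), ([], 0), ([], 0), ([], 0), ([], 0), ([], 0), ([], 0)],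
  [([], 0), ([], 0), ([], 0), ([], 0), ([], 0), ([], 0), ([], 0), ([], 0), ([], 0), ([], 0)],
  [([], 0), ([], 0), ([], 0), ([], 0), ([], 0), ([], 0), ([], 0), ([], 0), ([], 0), ([], 0)],
  [([], 0), ([], 0), ([], 0), ([], 0), ([], 0), ([], 0), ([], 0), ([], 0), ([], 0), ([], 0)],
  [([], 0), ([], 0), ([], 0), ([], 0), ([], 0), ([], 0), ([], 0), ([], 0), ([], 0), ([], 0)],
  [([], 0), ([], 0), ([], 0), ([], 0), ([], 0), ([], 0), ([], 0), ([], 0), ([], 0), ([], 0)],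
  [([], 0), ([], 0), ([], 0), ([], 0), ([], 0), ([], 0), ([], 0), ([], 0), ([], 0), ([], 0)],
  [([], 0), ([], 0), ([], 0), ([], 0), ([], 0), ([], 0), ([], 0), ([], 0), ([], 0), ([], 0)],
  [([], 0), ([], 0), ([], 0), ([], 0), ([], 0), ([], 0), ([], 0), ([], 0), ([], 0), ([], 0)],
  [([], 0), ([], 0), ([], 0), ([], 0), ([], 0), ([], 0), ([], 0), ([], 0), ([], 0), ([], 0)],
  [([], 0), ([], 0), ([], 0), ([], 0), ([], 0), ([], 0), ([], 0), ([], 0), ([], 0), ([], 0)],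
  [([], 0), ([], 0), ([], 0), ([], 0), ([], 0), ([], 0), ([], 0), ([], 0), ([], 0), ([], 0)],
  [([], 0), ([], 0), ([], 0), ([], 0), ([], 0), ([], 0), ([], 0), ([], 0), ([], 0), ([], 0)],
  [([], 0), ([], 0), ([], 0), ([], 0), ([], 0), ([], 0), ([], 0), ([], 0), ([], 0), ([], 0)],
  [([], 0), ([], 0), ([], 0), ([], 0), ([], 0), ([], 0), ([], 0), ([], 0), ([], 0), ([], 0)],
  [([], 0), ([], 0), ([], 0), ([], 0), ([], 0), ([], 0), ([], 0), ([], 0), ([], 0), ([], 0)],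
  [([], 0), ([], 0), ([], 0), ([], 0), ([], 0), ([], 0), ([], 0), ([], 0), ([], 0), ([], 0)],
  [([], 0), ([], 0), ([], 0), ([], 0), ([], 0), ([], 0), ([], 0), ([], 0), ([], 0), ([], 0)],
  [([], 0), ([], 0), ([], 0), ([], 0), ([], 0), ([], 0), ([], 0), ([], 0), ([], 0), ([], 0)],
  [([], 0), ([], 0), ([], 0), ([], 0), ([], 0), ([], 0), ([], 0), ([], 0), ([], 0), ([], 0)],
  [([], 0), ([], 0), ([], 0), ([], 0), ([], 0), ([], 0), ([], 0), ([], 0), ([], 0), ([], 0)],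
  [([], 0), ([], 0), ([], 0), ([], 0), ([], 0), ([], 0), ([], 0), ([], 0), ([], 0), ([], 0)],
  [([], 0), ([], 0), ([], 0), ([], 0), ([], 0), ([], 0), ([], 0), ([], 0), ([], 0), ([], 0)],
  [([], 0), ([], 0), ([], 0), ([], 0), ([], 0), ([], 0), ([], 0), ([], 0), ([], 0), ([], 0)],
  [([], 0), ([], 0), ([], 0), ([], 0), ([], 0), ([], 0), ([], 0), ([], 0), ([], 0), ([], 0)],
  [([], 0), ([], 0), ([], 0), ([], 0), ([], 0), ([], 0), ([], 0), ([], 0), ([], 0), ([], 0)],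
  [([], 0), ([], 0), ([], 0), ([], 0), ([], 0), ([], 0), ([], 0), ([], 0), ([], 0), ([], 0)],
  [([], 0), ([], 0), ([], 0), ([], 0), ([], 0), ([], 0), ([], 0), ([], 0), ([], 0), ([], 0)],
  [([], 0), ([], 0), ([], 0), ([], 0), ([], 0), ([], 0), ([], 0), ([], 0), ([], 0), ([], 0)],
  [([], 0), ([], 0), ([], 0), ([], 0), ([], 0), ([], 0), ([], 0), ([], 0), ([], 0), ([], 0)],
  [([], 0), ([], 0), ([], 0), ([], 0), ([], 0), ([], 0), ([], 0), ([], 0), ([], 0), ([], 0)],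
  [([], 0), ([], 0), ([], 0), ([], 0), ([], 0), ([], 0), ([], 0), ([], 0), ([], 0), ([], 0)],
  [([], 0), ([], 0), ([], 0), ([], 0), ([], 0), ([], 0), ([], 0), ([], 0), ([], 0), ([], 0)],
  [([], 0), ([], 0), ([], 0), ([], 0), ([], 0), ([], 0), ([], 0), ([], 0), ([], 0), ([], 0)],
  [([], 0), ([], 0), ([], 0), ([], 0), ([], 0), ([], 0), ([], 0), ([], 0), ([], 0), ([], 0)],
  [([], 0), ([], 0), ([], 0), ([], 0), ([], 0), ([], 0), ([], 0), ([], 0), ([], 0), ([], 0)],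
  [([], 0), ([], 0), ([], 0), ([], 0), ([], 0), ([], 0), ([], 0), ([], 0), ([], 0), ([], 0)],
  [([], 0), ([], 0), ([], 0), ([], 0), ([], 0), ([], 0), ([], 0), ([], 0), ([], 0), ([], 0)],
  [([], 0), ([], 0), ([], 0), ([], 0), ([], 0), ([], 0), ([], 0), ([], 0), ([], 0), ([], 0)],
  [([], 0), ([], 0), ([], 0), ([], 0), ([], 0), ([], 0), ([], 0), ([], 0), ([], 0), ([], 0)],
  [([], 0), ([], 0), ([], 0), ([], 0), ([], 0), ([], 0), ([], 0), ([], 0), ([], 0), ([], 0)],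
  [([], 0), ([], 0), ([], 0), ([], 0), ([], 0), ([], 0), ([], 0), ([], 0), ([], 0), ([], 0)],
  [([], 0), ([], 0), ([], 0), ([], 0), ([], 0), ([], 0), ([], 0), ([], 0), ([], 0), ([], 0)],
  [([], 0), ([], 0), ([], 0), ([], 0), ([], 0), ([], 0), ([], 0), ([], 0), ([], 0), ([], 0)],
  [([], 0), ([], 0), ([], 0), ([], 0), ([], 0), ([], 0), ([], 0), ([], 0), ([], 0), ([], 0)],
  [([], 0), ([], 0), ([], 0), ([], 0), ([], 0), ([], 0), ([], 0), ([], 0), ([], 0), ([], 0)],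
  [([], 0), ([], 0), ([], 0), ([], 0), ([], 0), ([], 0), ([], 0), ([], 0), ([], 0), ([], 0)],
  [([], 0), ([], 0), ([], 0), ([], 0), ([], 0), ([], 0), ([], 0), ([], 0), ([], 0), ([], 0)],
  [([], 0), ([], 0), ([], 0), ([], 0), ([], 0), ([], 0), ([], 0), ([], 0), ([], 0), ([], 0)],
  [([], 0), ([], 0), ([], 0), ([], 0), ([], 0), ([], 0), ([], 0), ([], 0), ([], 0), ([], 0)],
  [([], 0), ([], 0), ([], 0), ([], 0), ([], 0), ([], 0), ([], 0), ([], 0), ([], 0), ([], 0)],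
  [([], 0), ([], 0), ([], 0), ([], 0), ([], 0), ([], 0), ([], 0), ([], 0), ([], 0), ([], 0)],
  [([], 0), ([], 0), ([], 0), ([], 0), ([], 0), ([], 0), ([], 0), ([], 0), ([], 0), ([], 0)],
  [([], 0), ([], 0), ([], 0), ([], 0), ([], 0), ([], 0), ([], 0), ([], 0), ([], 0), ([], 0)],
  [([], 0), ([], 0), ([], 0), ([], 0), ([], 0), ([], 0), ([], 0), ([], 0), ([], 0), ([], 0)],
  [([], 0), ([], 0), ([], 0), ([], 0), ([], 0), ([], 0), ([], 0), ([], 0), ([], 0), ([], 0)],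
  [([], 0), ([], 0), ([], 0), ([], 0), ([], 0), ([], 0), ([], 0), ([], 0), ([], 0), ([], 0)],
  [([], 0), ([], 0), ([], 0), ([], 0), ([], 0), ([], 0), ([], 0), ([], 0), ([], 0), ([], 0)],
  [([], 0), ([], 0), ([], 0), ([], 0), ([], 0), ([], 0), ([], 0), ([], 0), ([], 0), ([], 0)],
  [([], 0), ([], 0), ([], 0), ([], 0), ([], 0), ([], 0), ([], 0), ([], 0), ([], 0), ([], 0)],
  [([], 0), ([], 0), ([], 0), ([], 0), ([], 0), ([], 0), ([], 0), ([], 0), ([], 0), ([], 0)],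
  [([], 0), ([], 0), ([], 0), ([], 0), ([], 0), ([], 0), ([], 0), ([], 0), ([], 0), ([], 0)],
  [([], 0), ([], 0), ([], 0), ([], 0), ([], 0), ([], 0), ([], 0), ([], 0), ([], 0), ([], 0)],
  [([], 0), ([], 0), ([], 0), ([], 0), ([], 0), ([], 0), ([], 0), ([], 0), ([], 0), ([6, 3, 6, 4, 6, 6, 2], 1)],
  [([], 0), ([], 0), ([], 0), ([], 0), ([], 0), ([], 0), ([2, 3, 5], 2), ([], 0), ([], 0), ([], 0)],
  [([], 0), ([], 0), ([], 0), ([], 0), ([], 0), ([], 0), ([], 0), ([], 0), ([], 0), ([4, 3, 0, 3], 2)],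
  [([], 0), ([], 0), ([], 0), ([], 0), ([], 0), ([], 0), ([], 0), ([], 0), ([6, 5, 6, 3, 0, 3], 1), ([], 0)],
  [([], 0), ([], 0), ([], 0), ([], 0), ([], 0), ([], 0), ([], 0), ([], 0), ([], 0), ([6, 5, 6, 1, 4, 5], 1)],
  [([], 0), ([], 0), ([], 0), ([], 0), ([], 0), ([], 0), ([], 0), ([], 0), ([5, 3, 2], 2), ([], 0)],
  [([], 0), ([], 0), ([], 0), ([], 0), ([], 0), ([], 0), ([], 0), ([], 0), ([], 0), ([2, 4, 6], 2)],
  [([], 0), ([], 0), ([], 0), ([], 0), ([], 0), ([], 0), ([], 0), ([6, 0, 3, 6, 3, 6, 3], 1), ([], 0), ([], 0)],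
  [([], 0), ([], 0), ([], 0), ([], 0), ([], 0), ([], 0), ([], 0), ([], 0), ([], 0), ([], 0)],
  [([], 0), ([], 0), ([], 0), ([], 0), ([], 0), ([], 0), ([], 0), ([], 0), ([], 0), ([], 0)],
  [([], 0), ([], 0), ([], 0), ([], 0), ([], 0), ([], 0), ([], 0), ([], 0), ([], 0), ([], 0)],
  [([], 0), ([], 0), ([], 0), ([], 0), ([], 0), ([], 0), ([], 0), ([], 0), ([], 0), ([], 0)],
  [([], 0), ([], 0), ([], 0), ([], 0), ([], 0), ([], 0), ([], 0), ([], 0), ([], 0), ([], 0)],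
  [([], 0), ([], 0), ([], 0), ([], 0), ([], 0), ([], 0), ([], 0), ([], 0), ([], 0), ([], 0)],
  [([], 0), ([], 0), ([], 0), ([], 0), ([], 0), ([], 0), ([], 0), ([], 0), ([], 0), ([], 0)],
  [([], 0), ([], 0), ([], 0), ([], 0), ([], 0), ([], 0), ([], 0), ([], 0), ([], 0), ([], 0)],
  [([], 0), ([], 0), ([], 0), ([], 0), ([], 0), ([], 0), ([], 0), ([], 0), ([], 0), ([], 0)],
  [([], 0), ([], 0), ([], 0), ([], 0), ([], 0), ([], 0), ([], 0), ([], 0), ([], 0), ([], 0)],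
  [([], 0), ([], 0), ([], 0), ([], 0), ([], 0), ([], 0), ([], 0), ([], 0), ([], 0), ([], 0)],
  [([], 0), ([], 0), ([], 0), ([], 0), ([], 0), ([], 0), ([], 0), ([], 0), ([], 0), ([], 0)],
  [([], 0), ([], 0), ([], 0), ([], 0), ([], 0), ([], 0), ([], 0), ([], 0), ([], 0), ([], 0)],
  [([], 0), ([], 0), ([], 0), ([], 0), ([], 0), ([], 0), ([], 0), ([], 0), ([], 0), ([], 0)],
  [([], 0), ([], 0), ([], 0), ([], 0), ([], 0), ([], 0), ([], 0), ([], 0), ([], 0), ([], 0)],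
  [([], 0), ([], 0), ([], 0), ([], 0), ([], 0), ([], 0), ([], 0), ([], 0), ([], 0), ([], 0)],
  [([], 0), ([], 0), ([], 0), ([], 0), ([], 0), ([], 0), ([], 0), ([], 0), ([], 0), ([], 0)],
  [([], 0), ([], 0), ([], 0), ([], 0), ([], 0), ([], 0), ([], 0), ([], 0), ([], 0), ([], 0)],
  [([], 0), ([], 0), ([], 0), ([], 0), ([], 0), ([], 0), ([], 0), ([], 0), ([], 0), ([], 0)],
  [([], 0), ([], 0), ([], 0), ([], 0), ([], 0), ([], 0), ([], 0), ([], 0), ([], 0), ([], 0)],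
  [([], 0), ([], 0), ([], 0), ([], 0), ([], 0), ([], 0), ([], 0), ([], 0), ([], 0), ([], 0)],
  [([], 0), ([], 0), ([], 0), ([], 0), ([], 0), ([], 0), ([], 0), ([], 0), ([], 0), ([], 0)],
  [([], 0), ([], 0), ([], 0), ([], 0), ([], 0), ([], 0), ([], 0), ([], 0), ([], 0), ([], 0)],
  [([], 0), ([], 0), ([], 0), ([], 0), ([], 0), ([], 0), ([], 0), ([], 0), ([], 0), ([], 0)],
  [([], 0), ([], 0), ([], 0), ([], 0), ([], 0), ([], 0), ([], 0), ([], 0), ([], 0), ([], 0)],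
  [([], 0), ([], 0), ([], 0), ([], 0), ([], 0), ([], 0), ([], 0), ([], 0), ([], 0), ([], 0)],
  [([], 0), ([], 0), ([], 0), ([], 0), ([], 0), ([], 0), ([], 0), ([], 0), ([], 0), ([], 0)],
  [([], 0), ([], 0), ([], 0), ([], 0), ([], 0), ([], 0), ([], 0), ([], 0), ([], 0), ([], 0)],
  [([], 0), ([], 0), ([], 0), ([], 0), ([], 0), ([], 0), ([], 0), ([], 0), ([], 0), ([], 0)],
  [([], 0), ([], 0), ([], 0), ([], 0), ([], 0), ([], 0), ([], 0), ([], 0), ([], 0), ([], 0)],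
  [([], 0), ([], 0), ([], 0), ([], 0), ([], 0), ([], 0), ([], 0), ([], 0), ([], 0), ([], 0)],
  [([], 0), ([], 0), ([], 0), ([], 0), ([], 0), ([], 0), ([], 0), ([], 0), ([], 0), ([], 0)],
  [([], 0), ([], 0), ([], 0), ([], 0), ([], 0), ([], 0), ([], 0), ([], 0), ([], 0), ([6, 5, 6, 3, 0, 4], 1)],
  [([], 0), ([], 0), ([], 0), ([], 0), ([], 0), ([], 0), ([], 0), ([5, 4, 5], 2), ([], 0), ([], 0)],
  [([], 0), ([], 0), ([4, 3, 5], 2), ([], 0), ([], 0), ([], 0), ([], 0), ([], 0), ([], 0), ([], 0)],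
  [([6, 5, 6, 3, 5], 1), ([], 0), ([], 0), ([], 0), ([], 0), ([], 0), ([], 0), ([], 0), ([], 0), ([], 0)],
  [([], 0), ([], 0), ([], 0), ([], 0), ([], 0), ([], 0), ([2, 3, 0, 3], 2), ([], 0), ([], 0), ([], 0)],
  [([], 0), ([], 0), ([], 0), ([], 0), ([], 0), ([], 0), ([], 0), ([], 0), ([6, 5, 6, 1, 3, 2], 1), ([], 0)],
  [([], 0), ([], 0), ([], 0), ([], 0), ([], 0), ([], 0), ([], 0), ([], 0), ([], 0), ([6, 5, 6, 3, 0, 1], 1)],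
  [([], 0), ([], 0), ([], 0), ([], 0), ([], 0), ([], 0), ([], 0), ([], 0), ([4, 3, 0, 1], 2), ([], 0)],
  [([], 0), ([], 0), ([], 0), ([], 0), ([], 0), ([], 0), ([], 0), ([], 0), ([], 0), ([], 0)],
  [([], 0), ([], 0), ([], 0), ([], 0), ([], 0), ([], 0), ([], 0), ([], 0), ([], 0), ([], 0)],
  [([], 0), ([], 0), ([], 0), ([], 0), ([], 0), ([], 0), ([], 0), ([], 0), ([], 0), ([], 0)],
  [([], 0), ([], 0), ([], 0), ([], 0), ([], 0), ([], 0), ([], 0), ([], 0), ([], 0), ([], 0)],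
  [([], 0), ([], 0), ([], 0), ([], 0), ([], 0), ([], 0), ([], 0), ([], 0), ([], 0), ([], 0)],
  [([], 0), ([], 0), ([], 0), ([], 0), ([], 0), ([], 0), ([], 0), ([], 0), ([], 0), ([], 0)],
  [([], 0), ([], 0), ([], 0), ([], 0), ([], 0), ([], 0), ([], 0), ([], 0), ([], 0), ([], 0)],
  [([], 0), ([], 0), ([], 0), ([], 0), ([], 0), ([], 0), ([], 0), ([], 0), ([], 0), ([], 0)],
  [([], 0), ([], 0), ([], 0), ([], 0), ([], 0), ([], 0), ([], 0), ([], 0), ([], 0), ([], 0)],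
  [([], 0), ([], 0), ([], 0), ([], 0), ([], 0), ([], 0), ([], 0), ([], 0), ([], 0), ([], 0)],
  [([], 0), ([], 0), ([], 0), ([], 0), ([], 0), ([], 0), ([], 0), ([], 0), ([], 0), ([], 0)],
  [([], 0), ([], 0), ([], 0), ([], 0), ([], 0), ([], 0), ([], 0), ([], 0), ([], 0), ([], 0)],
  [([], 0), ([], 0), ([], 0), ([], 0), ([], 0), ([], 0), ([], 0), ([], 0), ([], 0), ([], 0)],
  [([], 0), ([], 0), ([], 0), ([], 0), ([], 0), ([], 0), ([], 0), ([], 0), ([], 0), ([], 0)],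
  [([], 0), ([], 0), ([], 0), ([], 0), ([], 0), ([], 0), ([], 0), ([], 0), ([], 0), ([], 0)],
  [([], 0), ([], 0), ([], 0), ([], 0), ([], 0), ([], 0), ([], 0), ([], 0), ([], 0), ([], 0)],
  [([], 0), ([], 0), ([], 0), ([], 0), ([], 0), ([], 0), ([], 0), ([], 0), ([], 0), ([], 0)],
  [([], 0), ([], 0), ([], 0), ([], 0), ([], 0), ([], 0), ([], 0), ([], 0), ([], 0), ([], 0)],
  [([], 0), ([], 0), ([], 0), ([], 0), ([], 0), ([], 0), ([], 0), ([], 0), ([], 0), ([], 0)],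
  [([], 0), ([], 0), ([], 0), ([], 0), ([], 0), ([], 0), ([], 0), ([], 0), ([], 0), ([], 0)],
  [([], 0), ([], 0), ([], 0), ([], 0), ([], 0), ([], 0), ([], 0), ([], 0), ([], 0), ([], 0)],
  [([], 0), ([], 0), ([], 0), ([], 0), ([], 0), ([], 0), ([], 0), ([], 0), ([], 0), ([], 0)],
  [([], 0), ([], 0), ([], 0), ([], 0), ([], 0), ([], 0), ([], 0), ([], 0), ([], 0), ([], 0)],
  [([], 0), ([], 0), ([], 0), ([], 0), ([], 0), ([], 0), ([], 0), ([], 0), ([], 0), ([], 0)],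
  [([], 0), ([], 0), ([], 0), ([], 0), ([], 0), ([], 0), ([], 0), ([], 0), ([], 0), ([], 0)],
  [([], 0), ([], 0), ([], 0), ([], 0), ([], 0), ([], 0), ([], 0), ([], 0), ([], 0), ([], 0)],
  [([], 0), ([], 0), ([], 0), ([], 0), ([], 0), ([], 0), ([], 0), ([], 0), ([], 0), ([], 0)],
  [([], 0), ([], 0), ([], 0), ([], 0), ([], 0), ([], 0), ([], 0), ([], 0), ([], 0), ([], 0)],
  [([], 0), ([], 0), ([], 0), ([], 0), ([], 0), ([], 0), ([], 0), ([], 0), ([], 0), ([], 0)],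
  [([], 0), ([], 0), ([], 0), ([], 0), ([], 0), ([], 0), ([], 0), ([], 0), ([], 0), ([], 0)],
  [([], 0), ([], 0), ([], 0), ([], 0), ([], 0), ([], 0), ([], 0), ([], 0), ([], 0), ([], 0)],
  [([], 0), ([], 0), ([], 0), ([], 0), ([], 0), ([], 0), ([], 0), ([], 0), ([], 0), ([], 0)],
  [([], 0), ([], 0), ([], 0), ([], 0), ([], 0), ([], 0), ([], 0), ([], 0), ([], 0), ([], 0)],
  [([], 0), ([], 0), ([], 0), ([], 0), ([], 0), ([], 0), ([], 0), ([], 0), ([], 0), ([], 0)],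
  [([], 0), ([], 0), ([], 0), ([], 0), ([], 0), ([], 0), ([], 0), ([], 0), ([], 0), ([], 0)],
  [([], 0), ([], 0), ([], 0), ([], 0), ([], 0), ([], 0), ([], 0), ([], 0), ([], 0), ([], 0)],
  [([], 0), ([], 0), ([], 0), ([], 0), ([], 0), ([], 0), ([], 0), ([], 0), ([], 0), ([], 0)],
  [([], 0), ([], 0), ([], 0), ([], 0), ([], 0), ([], 0), ([], 0), ([], 0), ([], 0), ([], 0)],
  [([], 0), ([], 0), ([], 0), ([], 0), ([], 0), ([], 0), ([], 0), ([], 0), ([], 0), ([], 0)],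
  [([], 0), ([], 0), ([], 0), ([], 0), ([], 0), ([], 0), ([], 0), ([], 0), ([], 0), ([], 0)],
  [([], 0), ([], 0), ([], 0), ([], 0), ([], 0), ([], 0), ([], 0), ([], 0), ([], 0), ([], 0)],
  [([], 0), ([], 0), ([], 0), ([], 0), ([], 0), ([], 0), ([], 0), ([], 0), ([], 0), ([], 0)],
  [([], 0), ([], 0), ([], 0), ([], 0), ([], 0), ([], 0), ([], 0), ([], 0), ([], 0), ([], 0)],
  [([], 0), ([], 0), ([], 0), ([], 0), ([], 0), ([], 0), ([], 0), ([], 0), ([], 0), ([], 0)],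
  [([], 0), ([], 0), ([], 0), ([], 0), ([], 0), ([], 0), ([], 0), ([], 0), ([], 0), ([], 0)],
  [([], 0), ([], 0), ([], 0), ([], 0), ([], 0), ([], 0), ([], 0), ([], 0), ([], 0), ([], 0)],
  [([], 0), ([], 0), ([], 0), ([], 0), ([], 0), ([], 0), ([], 0), ([], 0), ([], 0), ([], 0)],
  [([], 0), ([], 0), ([], 0), ([], 0), ([], 0), ([], 0), ([], 0), ([], 0), ([], 0), ([], 0)],
  [([], 0), ([], 0), ([], 0), ([], 0), ([], 0), ([], 0), ([], 0), ([], 0), ([], 0), ([], 0)],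
  [([], 0), ([], 0), ([], 0), ([], 0), ([], 0), ([], 0), ([], 0), ([], 0), ([], 0), ([], 0)],
  [([], 0), ([], 0), ([], 0), ([], 0), ([], 0), ([], 0), ([], 0), ([], 0), ([], 0), ([], 0)],
  [([], 0), ([], 0), ([], 0), ([], 0), ([], 0), ([], 0), ([], 0), ([], 0), ([], 0), ([], 0)],
  [([], 0), ([], 0), ([], 0), ([], 0), ([], 0), ([], 0), ([], 0), ([], 0), ([], 0), ([], 0)],
  [([], 0), ([], 0), ([], 0), ([], 0), ([], 0), ([], 0), ([], 0), ([], 0), ([], 0), ([], 0)],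
  [([], 0), ([], 0), ([], 0), ([], 0), ([], 0), ([], 0), ([], 0), ([], 0), ([], 0), ([], 0)],
  [([], 0), ([], 0), ([], 0), ([], 0), ([], 0), ([], 0), ([], 0), ([], 0), ([], 0), ([], 0)],
  [([], 0), ([], 0), ([], 0), ([], 0), ([], 0), ([], 0), ([], 0), ([], 0), ([], 0), ([], 0)],
  [([], 0), ([], 0), ([], 0), ([], 0), ([], 0), ([], 0), ([], 0), ([], 0), ([], 0), ([], 0)],
  [([], 0), ([], 0), ([], 0), ([], 0), ([], 0), ([], 0), ([], 0), ([], 0), ([], 0), ([], 0)],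
  [([], 0), ([], 0), ([], 0), ([], 0), ([], 0), ([], 0), ([], 0), ([], 0), ([], 0), ([], 0)],
  [([], 0), ([], 0), ([], 0), ([], 0), ([], 0), ([], 0), ([], 0), ([], 0), ([], 0), ([], 0)],
  [([], 0), ([], 0), ([], 0), ([], 0), ([], 0), ([], 0), ([], 0), ([], 0), ([], 0), ([], 0)],
  [([], 0), ([], 0), ([], 0), ([], 0), ([], 0), ([], 0), ([], 0), ([], 0), ([], 0), ([], 0)],
  [([], 0), ([], 0), ([], 0), ([], 0), ([], 0), ([], 0), ([], 0), ([], 0), ([], 0), ([], 0)],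
  [([], 0), ([], 0), ([], 0), ([], 0), ([], 0), ([], 0), ([], 0), ([], 0), ([], 0), ([], 0)],
  [([], 0), ([], 0), ([], 0), ([], 0), ([], 0), ([], 0), ([], 0), ([], 0), ([], 0), ([], 0)],
  [([], 0), ([], 0), ([], 0), ([], 0), ([], 0), ([4, 3, 2], 2), ([], 0), ([], 0), ([], 0), ([], 0)],
  [([], 0), ([6, 5, 6, 3, 2], 1), ([], 0), ([], 0), ([], 0), ([], 0), ([], 0), ([], 0), ([], 0), ([], 0)],
  [([], 0), ([], 0), ([], 0), ([], 0), ([], 0), ([], 0), ([], 0), ([], 0), ([], 0), ([], 0)],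
  [([], 0), ([], 0), ([], 0), ([], 0), ([], 0), ([], 0), ([], 0), ([], 0), ([], 0), ([], 0)],
  [([], 0), ([], 0), ([], 0), ([], 0), ([], 0), ([], 0), ([], 0), ([], 0), ([], 0), ([], 0)],
  [([], 0), ([], 0), ([], 0), ([], 0), ([], 0), ([], 0), ([], 0), ([], 0), ([], 0), ([], 0)],
  [([], 0), ([], 0), ([], 0), ([], 0), ([], 0), ([], 0), ([], 0), ([], 0), ([], 0), ([], 0)],
  [([], 0), ([], 0), ([], 0), ([], 0), ([], 0), ([], 0), ([], 0), ([], 0), ([], 0), ([], 0)],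
  [([], 0), ([], 0), ([], 0), ([], 0), ([], 0), ([], 0), ([], 0), ([], 0), ([], 0), ([], 0)],
  [([], 0), ([], 0), ([], 0), ([], 0), ([], 0), ([], 0), ([], 0), ([], 0), ([], 0), ([], 0)],
  [([], 0), ([], 0), ([], 0), ([], 0), ([], 0), ([], 0), ([], 0), ([], 0), ([], 0), ([], 0)],
  [([], 0), ([], 0), ([], 0), ([], 0), ([], 0), ([], 0), ([], 0), ([], 0), ([], 0), ([], 0)],
  [([], 0), ([], 0), ([], 0), ([], 0), ([], 0), ([], 0), ([], 0), ([], 0), ([], 0), ([6, 5, 6, 1, 3, 0], 1)],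
  [([2, 4, 1], 2), ([], 0), ([], 0), ([], 0), ([], 0), ([], 0), ([], 0), ([], 0), ([], 0), ([], 0)],
  [([], 0), ([], 0), ([], 0), ([], 0), ([], 0), ([], 0), ([4, 3, 0, 5], 2), ([], 0), ([], 0), ([], 0)],
  [([], 0), ([], 0), ([], 0), ([], 0), ([6, 5, 6, 3, 0, 5], 1), ([], 0), ([], 0), ([], 0), ([], 0), ([], 0)],
  [([], 0), ([], 0), ([], 0), ([], 0), ([], 0), ([], 0), ([], 0), ([], 0), ([], 0), ([], 0)],
  [([], 0), ([], 0), ([], 0), ([], 0), ([], 0), ([], 0), ([], 0), ([], 0), ([], 0), ([], 0)],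
  [([], 0), ([], 0), ([], 0), ([], 0), ([], 0), ([], 0), ([], 0), ([], 0), ([], 0), ([], 0)],
  [([], 0), ([], 0), ([], 0), ([], 0), ([], 0), ([], 0), ([], 0), ([], 0), ([], 0), ([], 0)],
  [([], 0), ([], 0), ([], 0), ([], 0), ([], 0), ([], 0), ([], 0), ([], 0), ([], 0), ([], 0)],
  [([], 0), ([], 0), ([], 0), ([], 0), ([], 0), ([], 0), ([], 0), ([], 0), ([], 0), ([], 0)],
  [([], 0), ([], 0), ([], 0), ([], 0), ([], 0), ([], 0), ([], 0), ([], 0), ([], 0), ([], 0)],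
  [([], 0), ([], 0), ([], 0), ([], 0), ([], 0), ([], 0), ([], 0), ([], 0), ([], 0), ([], 0)],
  [([], 0), ([], 0), ([], 0), ([], 0), ([], 0), ([], 0), ([], 0), ([], 0), ([], 0), ([], 0)],
  [([], 0), ([], 0), ([], 0), ([], 0), ([], 0), ([], 0), ([], 0), ([], 0), ([], 0), ([], 0)],
  [([], 0), ([], 0), ([], 0), ([], 0), ([], 0), ([], 0), ([], 0), ([], 0), ([6, 5, 6, 4, 4, 5], 1), ([], 0)],
  [([], 0), ([], 0), ([2, 4], 2), ([], 0), ([], 0), ([], 0), ([], 0), ([], 0), ([], 0), ([], 0)],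
  [([], 0), ([], 0), ([], 0), ([], 0), ([], 0), ([], 0), ([], 0), ([], 0), ([], 0), ([], 0)],
  [([], 0), ([], 0), ([], 0), ([], 0), ([], 0), ([], 0), ([], 0), ([], 0), ([], 0), ([], 0)],
  [([], 0), ([], 0), ([], 0), ([], 0), ([], 0), ([], 0), ([], 0), ([], 0), ([], 0), ([], 0)],
  [([], 0), ([], 0), ([], 0), ([], 0), ([], 0), ([], 0), ([], 0), ([], 0), ([], 0), ([], 0)],
  [([], 0), ([], 0), ([], 0), ([], 0), ([], 0), ([], 0), ([], 0), ([], 0), ([], 0), ([6, 3, 1, 6, 1, 6], 1)],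
  [([], 0), ([], 0), ([], 0), ([], 0), ([1, 3, 5, 3], 2), ([], 0), ([], 0), ([], 0), ([], 0), ([], 0)],
  [([], 0), ([], 0), ([], 0), ([], 0), ([], 0), ([], 0), ([], 0), ([], 0), ([], 0), ([], 0)],
  [([], 0), ([], 0), ([], 0), ([], 0), ([], 0), ([], 0), ([], 0), ([], 0), ([], 0), ([], 0)],
  [([], 0), ([], 0), ([], 0), ([], 0), ([], 0), ([], 0), ([], 0), ([], 0), ([], 0), ([], 0)],
  [([], 0), ([], 0), ([], 0), ([], 0), ([], 0), ([], 0), ([], 0), ([], 0), ([], 0), ([], 0)],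
  [([], 0), ([], 0), ([], 0), ([], 0), ([], 0), ([], 0), ([], 0), ([], 0), ([], 0), ([], 0)],
  [([], 0), ([], 0), ([], 0), ([], 0), ([], 0), ([], 0), ([], 0), ([], 0), ([], 0), ([], 0)],
  [([], 0), ([], 0), ([], 0), ([], 0), ([], 0), ([], 0), ([], 0), ([], 0), ([], 0), ([], 0)],
  [([], 0), ([], 0), ([], 0), ([], 0), ([], 0), ([], 0), ([], 0), ([], 0), ([], 0), ([], 0)],
  [([], 0), ([3, 0, 3], 2), ([], 0), ([], 0), ([], 0), ([], 0), ([], 0), ([], 0), ([], 0), ([], 0)],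
  [([6, 5, 6, 1, 3], 1), ([], 0), ([], 0), ([], 0), ([], 0), ([], 0), ([], 0), ([], 0), ([], 0), ([], 0)],
  [([], 0), ([], 0), ([], 0), ([], 0), ([], 0), ([], 0), ([], 0), ([], 0), ([], 0), ([], 0)],
  [([], 0), ([], 0), ([], 0), ([], 0), ([], 0), ([], 0), ([], 0), ([], 0), ([], 0), ([], 0)],
  [([], 0), ([], 0), ([], 0), ([], 0), ([], 0), ([], 0), ([], 0), ([], 0), ([], 0), ([], 0)],
  [([], 0), ([], 0), ([], 0), ([], 0), ([], 0), ([], 0), ([], 0), ([], 0), ([], 0), ([], 0)],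
  [([], 0), ([], 0), ([], 0), ([], 0), ([], 0), ([], 0), ([], 0), ([], 0), ([], 0), ([], 0)],
  [([], 0), ([], 0), ([], 0), ([], 0), ([], 0), ([], 0), ([], 0), ([], 0), ([], 0), ([], 0)],
  [([], 0), ([], 0), ([], 0), ([], 0), ([], 0), ([], 0), ([], 0), ([], 0), ([], 0), ([], 0)],
  [([], 0), ([], 0), ([], 0), ([], 0), ([], 0), ([], 0), ([], 0), ([], 0), ([], 0), ([], 0)],
  [([], 0), ([], 0), ([], 0), ([], 0), ([], 0), ([], 0), ([], 0), ([4, 3, 1], 2), ([], 0), ([], 0)],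
  [([], 0), ([], 0), ([], 0), ([], 0), ([], 0), ([6, 5, 6, 3, 1], 1), ([], 0), ([], 0), ([], 0), ([], 0)],
  [([], 0), ([], 0), ([], 0), ([], 0), ([], 0), ([], 0), ([], 0), ([], 0), ([6, 5, 6, 1, 3, 5], 1), ([], 0)],
  [([], 0), ([], 0), ([], 0), ([2, 4, 0], 2), ([], 0), ([], 0), ([], 0), ([], 0), ([], 0), ([], 0)],
  [([], 0), ([], 0), ([], 0), ([], 0), ([], 0), ([], 0), ([], 0), ([], 0), ([], 0), ([], 0)],
  [([], 0), ([], 0), ([], 0), ([], 0), ([], 0), ([], 0), ([], 0), ([], 0), ([], 0), ([], 0)],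
  [([], 0), ([], 0), ([], 0), ([], 0), ([], 0), ([], 0), ([], 0), ([], 0), ([], 0), ([], 0)],
  [([], 0), ([], 0), ([], 0), ([], 0), ([], 0), ([], 0), ([], 0), ([], 0), ([], 0), ([], 0)],
  [([], 0), ([], 0), ([], 0), ([], 0), ([], 0), ([], 0), ([], 0), ([], 0), ([], 0), ([], 0)],
  [([], 0), ([], 0), ([], 0), ([], 0), ([], 0), ([], 0), ([], 0), ([], 0), ([], 0), ([], 0)],
  [([], 0), ([], 0), ([], 0), ([], 0), ([], 0), ([], 0), ([], 0), ([], 0), ([], 0), ([], 0)],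
  [([], 0), ([], 0), ([], 0), ([], 0), ([], 0), ([], 0), ([], 0), ([], 0), ([], 0), ([], 0)],
  [([], 0), ([], 0), ([], 0), ([], 0), ([], 0), ([], 0), ([], 0), ([6, 5, 6, 3, 5, 3], 1), ([], 0), ([], 0)],
  [([], 0), ([], 0), ([], 0), ([], 0), ([], 0), ([], 0), ([2, 4, 4], 2), ([], 0), ([], 0), ([], 0)],
  [([], 0), ([], 0), ([], 0), ([], 0), ([], 0), ([], 0), ([], 0), ([], 0), ([], 0), ([], 0)],
  [([], 0), ([], 0), ([], 0), ([], 0), ([], 0), ([], 0), ([], 0), ([], 0), ([], 0), ([], 0)],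
  [([], 0), ([], 0), ([], 0), ([], 0), ([], 0), ([], 0), ([], 0), ([], 0), ([], 0), ([], 0)],
  [([], 0), ([], 0), ([], 0), ([], 0), ([], 0), ([], 0), ([], 0), ([], 0), ([], 0), ([], 0)],
  [([], 0), ([], 0), ([], 0), ([], 0), ([], 0), ([], 0), ([], 0), ([], 0), ([], 0), ([], 0)],
  [([], 0), ([], 0), ([], 0), ([], 0), ([], 0), ([], 0), ([], 0), ([], 0), ([], 0), ([], 0)],
  [([], 0), ([], 0), ([], 0), ([], 0), ([], 0), ([], 0), ([], 0), ([6, 5, 6, 4, 5], 1), ([], 0), ([], 0)],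
  [([], 0), ([], 0), ([], 0), ([4, 4, 5], 2), ([], 0), ([], 0), ([], 0), ([], 0), ([], 0), ([], 0)],
  [([], 0), ([], 0), ([], 0), ([], 0), ([], 0), ([], 0), ([], 0), ([], 0), ([], 0), ([], 0)],
  [([], 0), ([], 0), ([], 0), ([], 0), ([], 0), ([], 0), ([], 0), ([], 0), ([], 0), ([], 0)],
  [([], 0), ([], 0), ([], 0), ([], 0), ([], 0), ([], 0), ([], 0), ([], 0), ([], 0), ([], 0)],
  [([], 0), ([], 0), ([], 0), ([], 0), ([], 0), ([], 0), ([], 0), ([], 0), ([], 0), ([], 0)],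
  [([], 0), ([], 0), ([], 0), ([], 0), ([], 0), ([], 0), ([], 0), ([], 0), ([], 0), ([], 0)],
  [([], 0), ([], 0), ([], 0), ([], 0), ([], 0), ([], 0), ([], 0), ([], 0), ([], 0), ([], 0)],
  [([], 0), ([], 0), ([], 0), ([], 0), ([3, 0, 4, 0], 2), ([], 0), ([], 0), ([], 0), ([], 0), ([], 0)],
  [([], 0), ([], 0), ([], 0), ([6, 5, 6, 1, 4, 0], 1), ([], 0), ([], 0), ([], 0), ([], 0), ([], 0), ([], 0)],
  [([], 0), ([], 0), ([], 0), ([], 0), ([], 0), ([], 0), ([], 0), ([], 0), ([], 0), ([], 0)],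
  [([], 0), ([], 0), ([], 0), ([], 0), ([], 0), ([], 0), ([], 0), ([], 0), ([], 0), ([], 0)],
  [([], 0), ([], 0), ([], 0), ([], 0), ([], 0), ([], 0), ([], 0), ([], 0), ([], 0), ([], 0)],
  [([], 0), ([], 0), ([], 0), ([], 0), ([], 0), ([], 0), ([], 0), ([], 0), ([], 0), ([], 0)],
  [([], 0), ([], 0), ([], 0), ([], 0), ([], 0), ([], 0), ([], 0), ([], 0), ([], 0), ([], 0)],
  [([], 0), ([], 0), ([], 0), ([], 0), ([], 0), ([], 0), ([], 0), ([], 0), ([], 0), ([], 0)],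
  [([], 0), ([2, 3, 0], 2), ([], 0), ([], 0), ([], 0), ([], 0), ([], 0), ([], 0), ([], 0), ([], 0)],
  [([], 0), ([], 0), ([], 0), ([0, 3, 6, 4, 6, 2, 6], 1), ([], 0), ([], 0), ([], 0), ([], 0), ([], 0), ([], 0)],
  [([], 0), ([], 0), ([], 0), ([], 0), ([], 0), ([], 0), ([], 0), ([], 0), ([], 0), ([], 0)],
  [([], 0), ([], 0), ([], 0), ([], 0), ([], 0), ([], 0), ([], 0), ([], 0), ([], 0), ([], 0)],
  [([], 0), ([], 0), ([], 0), ([], 0), ([], 0), ([], 0), ([], 0), ([], 0), ([], 0), ([], 0)],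
  [([], 0), ([], 0), ([], 0), ([], 0), ([], 0), ([], 0), ([], 0), ([], 0), ([], 0), ([], 0)],
  [([], 0), ([], 0), ([], 0), ([], 0), ([], 0), ([], 0), ([], 0), ([], 0), ([], 0), ([], 0)],
  [([], 0), ([], 0), ([], 0), ([], 0), ([], 0), ([], 0), ([], 0), ([], 0), ([], 0), ([], 0)],
  [([], 0), ([], 0), ([], 0), ([], 0), ([1, 4, 4, 3], 2), ([], 0), ([], 0), ([], 0), ([], 0), ([], 0)],
  [([], 0), ([], 0), ([], 0), ([], 0), ([], 0), ([], 0), ([], 0), ([], 0), ([], 0), ([6, 5, 6, 2, 4, 3], 1)],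
  [([], 0), ([], 0), ([], 0), ([], 0), ([], 0), ([], 0), ([], 0), ([], 0), ([], 0), ([], 0)],
  [([], 0), ([], 0), ([], 0), ([], 0), ([], 0), ([], 0), ([], 0), ([], 0), ([], 0), ([], 0)],
  [([], 0), ([], 0), ([], 0), ([], 0), ([], 0), ([], 0), ([], 0), ([], 0), ([], 0), ([], 0)],
  [([], 0), ([], 0), ([], 0), ([], 0), ([], 0), ([], 0), ([], 0), ([], 0), ([], 0), ([], 0)],
  [([], 0), ([], 0), ([5, 3, 1], 2), ([], 0), ([], 0), ([], 0), ([], 0), ([], 0), ([], 0), ([], 0)],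
  [([], 0), ([], 0), ([], 0), ([], 0), ([], 0), ([], 0), ([6, 5, 6, 4, 0, 1], 1), ([], 0), ([], 0), ([], 0)],
  [([], 0), ([], 0), ([], 0), ([], 0), ([], 0), ([], 0), ([], 0), ([], 0), ([], 0), ([], 0)],
  [([], 0), ([], 0), ([], 0), ([], 0), ([], 0), ([], 0), ([], 0), ([], 0), ([], 0), ([], 0)],
  [([], 0), ([], 0), ([], 0), ([], 0), ([], 0), ([], 0), ([], 0), ([], 0), ([], 0), ([], 0)],
  [([], 0), ([], 0), ([], 0), ([], 0), ([], 0), ([], 0), ([], 0), ([], 0), ([], 0), ([], 0)],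
  [([], 0), ([], 0), ([], 0), ([], 0), ([], 0), ([], 0), ([], 0), ([], 0), ([], 0), ([], 0)],
  [([], 0), ([], 0), ([], 0), ([], 0), ([], 0), ([], 0), ([], 0), ([], 0), ([], 0), ([], 0)],
  [([], 0), ([], 0), ([], 0), ([], 0), ([], 0), ([], 0), ([], 0), ([], 0), ([], 0), ([], 0)],
  [([], 0), ([], 0), ([], 0), ([], 0), ([], 0), ([], 0), ([], 0), ([], 0), ([], 0), ([], 0)],
  [([], 0), ([], 0), ([], 0), ([], 0), ([], 0), ([], 0), ([], 0), ([], 0), ([], 0), ([], 0)],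
  [([], 0), ([], 0), ([], 0), ([], 0), ([], 0), ([], 0), ([], 0), ([], 0), ([], 0), ([], 0)],
  [([], 0), ([], 0), ([], 0), ([], 0), ([3, 0, 4], 2), ([], 0), ([], 0), ([], 0), ([], 0), ([], 0)],
  [([], 0), ([], 0), ([6, 5, 6, 1, 4], 1), ([], 0), ([], 0), ([], 0), ([], 0), ([], 0), ([], 0), ([], 0)],
  [([], 0), ([], 0), ([], 0), ([], 0), ([], 0), ([], 0), ([], 0), ([], 0), ([], 0), ([], 0)],
  [([], 0), ([], 0), ([], 0), ([], 0), ([], 0), ([], 0), ([], 0), ([], 0), ([], 0), ([], 0)],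
  [([], 0), ([], 0), ([], 0), ([], 0), ([], 0), ([], 0), ([], 0), ([], 0), ([], 0), ([], 0)],
  [([], 0), ([], 0), ([], 0), ([], 0), ([], 0), ([], 0), ([], 0), ([], 0), ([], 0), ([], 0)],
  [([], 0), ([], 0), ([], 0), ([], 0), ([], 0), ([], 0), ([], 0), ([], 0), ([], 0), ([], 0)],
  [([], 0), ([], 0), ([], 0), ([], 0), ([], 0), ([], 0), ([], 0), ([], 0), ([], 0), ([], 0)],
  [([], 0), ([], 0), ([], 0), ([], 0), ([], 0), ([], 0), ([], 0), ([], 0), ([], 0), ([], 0)],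
  [([], 0), ([], 0), ([], 0), ([], 0), ([], 0), ([], 0), ([], 0), ([], 0), ([], 0), ([], 0)],
  [([2, 3], 2), ([], 0), ([], 0), ([], 0), ([], 0), ([], 0), ([], 0), ([], 0), ([], 0), ([], 0)],
  [([], 0), ([], 0), ([2, 6, 3, 4, 4, 6, 3], 1), ([], 0), ([], 0), ([], 0), ([], 0), ([], 0), ([], 0), ([], 0)],
  [([], 0), ([], 0), ([], 0), ([], 0), ([], 0), ([], 0), ([], 0), ([], 0), ([], 0), ([], 0)],
  [([], 0), ([], 0), ([], 0), ([], 0), ([], 0), ([], 0), ([], 0), ([], 0), ([], 0), ([], 0)],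
  [([], 0), ([], 0), ([], 0), ([], 0), ([], 0), ([], 0), ([], 0), ([], 0), ([], 0), ([], 0)],
  [([], 0), ([], 0), ([], 0), ([], 0), ([], 0), ([], 0), ([], 0), ([], 0), ([], 0), ([], 0)],
  [([], 0), ([], 0), ([], 0), ([], 0), ([], 0), ([], 0), ([], 0), ([], 0), ([], 0), ([], 0)],
  [([], 0), ([], 0), ([], 0), ([], 0), ([], 0), ([], 0), ([], 0), ([], 0), ([], 0), ([], 0)],
  [([], 0), ([], 0), ([], 0), ([], 0), ([], 0), ([], 0), ([], 0), ([], 0), ([], 0), ([], 0)],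
  [([], 0), ([], 0), ([], 0), ([], 0), ([], 0), ([], 0), ([], 0), ([], 0), ([], 0), ([], 0)],
  [([], 0), ([], 0), ([], 0), ([], 0), ([], 0), ([], 0), ([], 0), ([], 0), ([], 0), ([], 0)],
  [([], 0), ([], 0), ([], 0), ([], 0), ([], 0), ([], 0), ([], 0), ([], 0), ([], 0), ([], 0)],
  [([], 0), ([], 0), ([], 0), ([], 0), ([], 0), ([], 0), ([], 0), ([], 0), ([], 0), ([], 0)],
  [([], 0), ([], 0), ([], 0), ([], 0), ([], 0), ([], 0), ([], 0), ([], 0), ([], 0), ([], 0)],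
  [([], 0), ([], 0), ([], 0), ([], 0), ([], 0), ([], 0), ([], 0), ([], 0), ([], 0), ([], 0)],
  [([], 0), ([], 0), ([], 0), ([], 0), ([], 0), ([], 0), ([], 0), ([], 0), ([], 0), ([], 0)],
  [([], 0), ([], 0), ([], 0), ([], 0), ([], 0), ([], 0), ([], 0), ([], 0), ([], 0), ([], 0)],
  [([], 0), ([], 0), ([], 0), ([], 0), ([], 0), ([], 0), ([], 0), ([], 0), ([], 0), ([], 0)],
  [([], 0), ([], 0), ([], 0), ([], 0), ([], 0), ([], 0), ([], 0), ([], 0), ([], 0), ([], 0)],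
  [([], 0), ([], 0), ([], 0), ([], 0), ([], 0), ([], 0), ([], 0), ([], 0), ([], 0), ([], 0)],
  [([], 0), ([], 0), ([], 0), ([], 0), ([], 0), ([], 0), ([], 0), ([], 0), ([], 0), ([], 0)],
  [([], 0), ([], 0), ([], 0), ([], 0), ([], 0), ([], 0), ([], 0), ([], 0), ([], 0), ([], 0)],
  [([], 0), ([], 0), ([], 0), ([], 0), ([], 0), ([], 0), ([], 0), ([], 0), ([], 0), ([], 0)],
  [([], 0), ([], 0), ([], 0), ([], 0), ([], 0), ([], 0), ([], 0), ([], 0), ([], 0), ([], 0)],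
  [([], 0), ([], 0), ([], 0), ([], 0), ([], 0), ([], 0), ([], 0), ([], 0), ([], 0), ([], 0)],
  [([], 0), ([], 0), ([], 0), ([], 0), ([], 0), ([], 0), ([], 0), ([], 0), ([], 0), ([], 0)],
  [([], 0), ([], 0), ([], 0), ([], 0), ([], 0), ([], 0), ([], 0), ([], 0), ([], 0), ([], 0)],
  [([], 0), ([], 0), ([], 0), ([], 0), ([], 0), ([], 0), ([], 0), ([], 0), ([], 0), ([], 0)],
  [([], 0), ([], 0), ([], 0), ([], 0), ([], 0), ([], 0), ([], 0), ([], 0), ([], 0), ([], 0)],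
  [([], 0), ([], 0), ([], 0), ([], 0), ([], 0), ([], 0), ([], 0), ([], 0), ([], 0), ([], 0)],
  [([], 0), ([], 0), ([], 0), ([], 0), ([], 0), ([], 0), ([], 0), ([], 0), ([], 0), ([], 0)],
  [([], 0), ([], 0), ([], 0), ([], 0), ([], 0), ([], 0), ([], 0), ([], 0), ([], 0), ([], 0)],
  [([], 0), ([], 0), ([], 0), ([], 0), ([], 0), ([], 0), ([], 0), ([], 0), ([], 0), ([], 0)],
  [([], 0), ([], 0), ([], 0), ([], 0), ([], 0), ([], 0), ([], 0), ([], 0), ([], 0), ([], 0)],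
  [([], 0), ([], 0), ([], 0), ([], 0), ([], 0), ([], 0), ([], 0), ([], 0), ([], 0), ([], 0)],
  [([], 0), ([], 0), ([], 0), ([], 0), ([], 0), ([], 0), ([], 0), ([], 0), ([], 0), ([], 0)],
  [([], 0), ([], 0), ([], 0), ([], 0), ([], 0), ([], 0), ([], 0), ([], 0), ([], 0), ([], 0)],
  [([], 0), ([], 0), ([], 0), ([], 0), ([], 0), ([], 0), ([], 0), ([], 0), ([], 0), ([], 0)],
  [([], 0), ([], 0), ([], 0), ([], 0), ([], 0), ([], 0), ([], 0), ([], 0), ([], 0), ([], 0)],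
  [([], 0), ([], 0), ([], 0), ([], 0), ([], 0), ([], 0), ([], 0), ([], 0), ([], 0), ([], 0)],
  [([], 0), ([], 0), ([], 0), ([], 0), ([], 0), ([], 0), ([], 0), ([], 0), ([], 0), ([], 0)],
  [([], 0), ([], 0), ([], 0), ([], 0), ([], 0), ([], 0), ([], 0), ([], 0), ([], 0), ([], 0)],
  [([], 0), ([], 0), ([], 0), ([], 0), ([], 0), ([], 0), ([], 0), ([], 0), ([], 0), ([], 0)],
  [([], 0), ([], 0), ([], 0), ([], 0), ([], 0), ([], 0), ([], 0), ([], 0), ([], 0), ([], 0)],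
  [([], 0), ([], 0), ([], 0), ([], 0), ([], 0), ([], 0), ([], 0), ([], 0), ([], 0), ([], 0)],
  [([], 0), ([], 0), ([], 0), ([], 0), ([], 0), ([], 0), ([], 0), ([], 0), ([], 0), ([], 0)],
  [([], 0), ([], 0), ([], 0), ([], 0), ([], 0), ([], 0), ([], 0), ([], 0), ([], 0), ([], 0)],
  [([], 0), ([], 0), ([], 0), ([], 0), ([], 0), ([], 0), ([], 0), ([], 0), ([], 0), ([], 0)],
  [([], 0), ([], 0), ([], 0), ([], 0), ([], 0), ([], 0), ([], 0), ([], 0), ([], 0), ([], 0)],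
  [([], 0), ([], 0), ([], 0), ([], 0), ([], 0), ([], 0), ([], 0), ([], 0), ([], 0), ([], 0)],
  [([], 0), ([], 0), ([], 0), ([], 0), ([], 0), ([], 0), ([], 0), ([], 0), ([], 0), ([], 0)],
  [([], 0), ([], 0), ([], 0), ([], 0), ([], 0), ([], 0), ([], 0), ([], 0), ([], 0), ([], 0)],
  [([], 0), ([], 0), ([], 0), ([], 0), ([], 0), ([], 0), ([], 0), ([], 0), ([], 0), ([], 0)],
  [([], 0), ([], 0), ([], 0), ([], 0), ([], 0), ([], 0), ([], 0), ([], 0), ([], 0), ([], 0)],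
  [([], 0), ([], 0), ([], 0), ([], 0), ([], 0), ([], 0), ([], 0), ([], 0), ([], 0), ([], 0)],
  [([], 0), ([], 0), ([], 0), ([], 0), ([], 0), ([], 0), ([], 0), ([], 0), ([], 0), ([], 0)],
  [([], 0), ([], 0), ([], 0), ([], 0), ([], 0), ([], 0), ([], 0), ([], 0), ([], 0), ([], 0)],
  [([], 0), ([], 0), ([], 0), ([], 0), ([], 0), ([], 0), ([], 0), ([], 0), ([], 0), ([], 0)],
  [([], 0), ([], 0), ([], 0), ([], 0), ([], 0), ([], 0), ([], 0), ([], 0), ([], 0), ([], 0)],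
  [([], 0), ([], 0), ([], 0), ([], 0), ([], 0), ([], 0), ([], 0), ([], 0), ([], 0), ([], 0)],
  [([], 0), ([], 0), ([], 0), ([], 0), ([], 0), ([], 0), ([], 0), ([], 0), ([], 0), ([], 0)],
  [([], 0), ([], 0), ([], 0), ([], 0), ([], 0), ([], 0), ([], 0), ([], 0), ([], 0), ([], 0)],
  [([], 0), ([], 0), ([], 0), ([], 0), ([], 0), ([], 0), ([], 0), ([], 0), ([], 0), ([], 0)],
  [([], 0), ([], 0), ([], 0), ([], 0), ([], 0), ([], 0), ([], 0), ([], 0), ([], 0), ([], 0)],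
  [([], 0), ([], 0), ([], 0), ([], 0), ([], 0), ([], 0), ([], 0), ([], 0), ([], 0), ([], 0)],
  [([], 0), ([], 0), ([], 0), ([], 0), ([], 0), ([], 0), ([], 0), ([], 0), ([], 0), ([], 0)],
  [([], 0), ([4, 5, 6, 5, 6, 0, 4], 1), ([], 0), ([], 0), ([], 0), ([], 0), ([6, 5, 6, 0, 4], 1), ([], 0), ([], 0), ([], 0)],
  [([3], 2), ([], 0), ([], 0), ([], 0), ([], 0), ([], 0), ([], 0), ([], 0), ([6, 4, 6, 6, 2, 6], 1), ([], 0)],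
  [([], 0), ([], 0), ([], 0), ([], 0), ([], 0), ([], 0), ([], 0), ([], 0), ([], 0), ([], 0)],
  [([], 0), ([], 0), ([], 0), ([], 0), ([], 0), ([], 0), ([], 0), ([], 0), ([], 0), ([], 0)],
  [([], 0), ([], 0), ([], 0), ([], 0), ([], 0), ([], 0), ([], 0), ([], 0), ([5, 6, 4, 6, 2, 6], 1), ([], 0)],
  [([], 0), ([], 0), ([], 0), ([], 0), ([], 0), ([], 0), ([6, 4, 6, 2, 6], 1), ([], 0), ([], 0), ([], 0)],
  [([], 0), ([], 0), ([], 0), ([], 0), ([], 0), ([], 0), ([], 0), ([], 0), ([], 0), ([], 0)],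
  [([], 0), ([], 0), ([], 0), ([], 0), ([], 0), ([], 0), ([], 0), ([], 0), ([], 0), ([], 0)],
  [([], 0), ([6, 6, 1, 6, 5], 1), ([], 0), ([], 0), ([], 0), ([], 0), ([6, 5, 6, 0, 3, 4], 1), ([], 0), ([], 0), ([], 0)],
  [([], 0), ([3, 5, 3, 4], 2), ([], 0), ([], 0), ([], 0), ([], 0), ([6, 6, 1, 6, 3, 4], 1), ([], 0), ([], 0), ([], 0)],
  [([], 0), ([], 0), ([], 0), ([], 0), ([], 0), ([], 0), ([], 0), ([], 0), ([], 0), ([], 0)],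
  [([], 0), ([], 0), ([], 0), ([], 0), ([], 0), ([], 0), ([], 0), ([], 0), ([], 0), ([], 0)],
  [([], 0), ([], 0), ([], 0), ([], 0), ([], 0), ([4, 3, 6, 4, 6, 2, 6], 1), ([], 0), ([], 0), ([], 0), ([], 0)],
  [([], 0), ([], 0), ([], 0), ([], 0), ([], 0), ([], 0), ([], 0), ([], 0), ([0, 6, 6, 2, 6, 2, 6], 1), ([], 0)],
  [([], 0), ([], 0), ([], 0), ([], 0), ([], 0), ([], 0), ([], 0), ([], 0), ([], 0), ([], 0)],
  [([], 0), ([], 0), ([], 0), ([], 0), ([], 0), ([], 0), ([], 0), ([], 0), ([], 0), ([], 0)],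
  [([], 0), ([], 0), ([0, 4, 6, 5, 6, 0, 4], 1), ([], 0), ([6, 2, 4, 5, 6, 4], 1), ([], 0), ([], 0), ([], 0), ([], 0), ([], 0)],
  [([], 0), ([], 0), ([], 0), ([5, 6, 0, 4, 5, 3, 6], 1), ([], 0), ([], 0), ([], 0), ([5, 4, 4, 0], 2), ([], 0), ([], 0)],
  [([], 0), ([], 0), ([], 0), ([], 0), ([], 0), ([], 0), ([], 0), ([], 0), ([], 0), ([], 0)],
  [([], 0), ([], 0), ([], 0), ([], 0), ([], 0), ([], 0), ([], 0), ([], 0), ([], 0), ([], 0)],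
  [([4, 5, 6, 5, 6, 4, 4], 1), ([], 0), ([], 0), ([], 0), ([], 0), ([], 0), ([], 0), ([], 0), ([], 0), ([], 0)],
  [([], 0), ([], 0), ([], 0), ([], 0), ([], 0), ([6, 1, 6, 3, 6, 0], 1), ([], 0), ([], 0), ([], 0), ([], 0)],
  [([], 0), ([], 0), ([], 0), ([], 0), ([], 0), ([], 0), ([], 0), ([], 0), ([], 0), ([], 0)],
  [([], 0), ([], 0), ([], 0), ([], 0), ([], 0), ([], 0), ([], 0), ([], 0), ([], 0), ([], 0)],
  [([6, 6, 1, 6, 4], 1), ([], 0), ([], 0), ([], 0), ([], 0), ([], 0), ([], 0), ([], 0), ([6, 5, 6, 0, 3, 5], 1), ([], 0)],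
  [([], 0), ([], 0), ([1, 3, 1], 2), ([], 0), ([6, 6, 1, 6, 3, 5], 1), ([], 0), ([], 0), ([], 0), ([], 0), ([], 0)],
  [([], 0), ([], 0), ([], 0), ([], 0), ([], 0), ([], 0), ([], 0), ([], 0), ([], 0), ([], 0)],
  [([], 0), ([], 0), ([], 0), ([], 0), ([], 0), ([], 0), ([], 0), ([], 0), ([], 0), ([], 0)],
  [([], 0), ([], 0), ([], 0), ([], 0), ([], 0), ([], 0), ([], 0), ([], 0), ([], 0), ([4, 0, 6, 4, 6, 2, 6], 1)],
  [([4, 1, 6, 4, 6, 2, 6], 1), ([], 0), ([], 0), ([], 0), ([], 0), ([], 0), ([], 0), ([], 0), ([], 0), ([], 0)],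
  [([], 0), ([], 0), ([], 0), ([], 0), ([], 0), ([], 0), ([], 0), ([], 0), ([], 0), ([], 0)],
  [([], 0), ([], 0), ([], 0), ([], 0), ([], 0), ([], 0), ([], 0), ([], 0), ([], 0), ([], 0)],
  [([], 0), ([], 0), ([], 0), ([], 0), ([], 0), ([], 0), ([], 0), ([], 0), ([], 0), ([], 0)],
  [([], 0), ([], 0), ([], 0), ([], 0), ([], 0), ([], 0), ([], 0), ([], 0), ([], 0), ([], 0)],
  [([], 0), ([], 0), ([], 0), ([], 0), ([], 0), ([], 0), ([], 0), ([], 0), ([], 0), ([], 0)],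
  [([], 0), ([], 0), ([], 0), ([], 0), ([], 0), ([], 0), ([], 0), ([], 0), ([], 0), ([], 0)],
  [([], 0), ([4, 4], 2), ([], 0), ([], 0), ([], 0), ([], 0), ([], 0), ([], 0), ([], 0), ([], 0)],
  [([], 0), ([], 0), ([], 0), ([], 0), ([], 0), ([], 0), ([], 0), ([6, 5, 6, 4], 1), ([], 0), ([], 0)],
  [([], 0), ([], 0), ([], 0), ([], 0), ([], 0), ([], 0), ([], 0), ([], 0), ([], 0), ([], 0)],
  [([], 0), ([], 0), ([], 0), ([], 0), ([], 0), ([], 0), ([], 0), ([], 0), ([], 0), ([], 0)],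
  [([], 0), ([], 0), ([], 0), ([], 0), ([4, 4, 1], 2), ([], 0), ([], 0), ([], 0), ([], 0), ([], 0)],
  [([], 0), ([6, 5, 6, 4, 1], 1), ([], 0), ([], 0), ([], 0), ([], 0), ([], 0), ([], 0), ([], 0), ([], 0)],
  [([], 0), ([], 0), ([], 0), ([], 0), ([], 0), ([], 0), ([], 0), ([], 0), ([], 0), ([], 0)],
  [([], 0), ([], 0), ([], 0), ([], 0), ([], 0), ([], 0), ([], 0), ([], 0), ([], 0), ([], 0)],
  [([], 0), ([], 0), ([], 0), ([], 0), ([], 0), ([], 0), ([], 0), ([], 0), ([], 0), ([], 0)],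
  [([], 0), ([], 0), ([], 0), ([], 0), ([], 0), ([], 0), ([], 0), ([], 0), ([], 0), ([], 0)],
  [([], 0), ([], 0), ([], 0), ([], 0), ([], 0), ([], 0), ([], 0), ([], 0), ([], 0), ([], 0)],
  [([], 0), ([], 0), ([], 0), ([], 0), ([], 0), ([], 0), ([], 0), ([], 0), ([], 0), ([], 0)],
  [([], 0), ([], 0), ([], 0), ([], 0), ([], 0), ([], 0), ([], 0), ([], 0), ([], 0), ([], 0)],
  [([], 0), ([], 0), ([], 0), ([], 0), ([], 0), ([], 0), ([], 0), ([], 0), ([], 0), ([], 0)],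
  [([], 0), ([], 0), ([], 0), ([], 0), ([], 0), ([], 0), ([], 0), ([], 0), ([], 0), ([], 0)],
  [([], 0), ([], 0), ([], 0), ([], 0), ([], 0), ([], 0), ([], 0), ([], 0), ([], 0), ([], 0)],
  [([], 0), ([], 0), ([], 0), ([], 0), ([], 0), ([], 0), ([], 0), ([], 0), ([], 0), ([], 0)],
  [([], 0), ([], 0), ([], 0), ([], 0), ([], 0), ([], 0), ([], 0), ([], 0), ([], 0), ([], 0)],
  [([], 0), ([], 0), ([], 0), ([], 0), ([0, 4, 6, 5, 6, 4, 1], 1), ([], 0), ([], 0), ([], 0), ([], 0), ([], 0)],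
  [([], 0), ([], 0), ([], 0), ([], 0), ([], 0), ([], 0), ([], 0), ([], 0), ([2, 3, 2], 2), ([], 0)],
  [([], 0), ([], 0), ([], 0), ([], 0), ([], 0), ([], 0), ([], 0), ([], 0), ([], 0), ([], 0)],
  [([], 0), ([], 0), ([], 0), ([], 0), ([], 0), ([], 0), ([], 0), ([], 0), ([], 0), ([], 0)],
  [([], 0), ([0, 4, 6, 5, 6, 4], 1), ([], 0), ([], 0), ([], 0), ([], 0), ([], 0), ([], 0), ([], 0), ([], 0)],
  [([], 0), ([2, 3, 0, 5], 2), ([], 0), ([], 0), ([], 0), ([], 0), ([], 0), ([], 0), ([], 0), ([], 0)],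
  [([], 0), ([], 0), ([], 0), ([], 0), ([], 0), ([], 0), ([], 0), ([], 0), ([], 0), ([], 0)],
  [([], 0), ([], 0), ([], 0), ([], 0), ([], 0), ([], 0), ([], 0), ([], 0), ([], 0), ([], 0)],
  [([], 0), ([], 0), ([], 0), ([], 0), ([], 0), ([], 0), ([], 0), ([], 0), ([], 0), ([], 0)],
  [([], 0), ([], 0), ([], 0), ([], 0), ([], 0), ([], 0), ([], 0), ([], 0), ([], 0), ([], 0)],
  [([], 0), ([], 0), ([], 0), ([], 0), ([], 0), ([], 0), ([], 0), ([], 0), ([], 0), ([], 0)],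
  [([], 0), ([], 0), ([], 0), ([], 0), ([], 0), ([], 0), ([], 0), ([], 0), ([], 0), ([], 0)],
  [([], 0), ([], 0), ([], 0), ([], 0), ([], 0), ([], 0), ([], 0), ([], 0), ([], 0), ([], 0)],
  [([], 0), ([], 0), ([], 0), ([], 0), ([], 0), ([], 0), ([], 0), ([], 0), ([], 0), ([], 0)],
  [([], 0), ([], 0), ([], 0), ([], 0), ([], 0), ([], 0), ([], 0), ([], 0), ([], 0), ([], 0)],
  [([], 0), ([], 0), ([], 0), ([], 0), ([], 0), ([], 0), ([], 0), ([], 0), ([], 0), ([], 0)],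
  [([], 0), ([], 0), ([], 0), ([], 0), ([], 0), ([], 0), ([], 0), ([], 0), ([], 0), ([], 0)],
  [([], 0), ([], 0), ([], 0), ([], 0), ([], 0), ([], 0), ([], 0), ([], 0), ([], 0), ([], 0)],
  [([], 0), ([], 0), ([], 0), ([], 0), ([], 0), ([], 0), ([], 0), ([], 0), ([], 0), ([], 0)],
  [([], 0), ([], 0), ([], 0), ([], 0), ([], 0), ([], 0), ([], 0), ([], 0), ([], 0), ([], 0)],
  [([], 0), ([], 0), ([], 0), ([], 0), ([], 0), ([], 0), ([], 0), ([], 0), ([], 0), ([], 0)],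
  [([], 0), ([], 0), ([], 0), ([], 0), ([], 0), ([], 0), ([], 0), ([], 0), ([], 0), ([], 0)],
  [([], 0), ([], 0), ([], 0), ([], 0), ([], 0), ([], 0), ([], 0), ([], 0), ([], 0), ([], 0)],
  [([], 0), ([], 0), ([], 0), ([], 0), ([], 0), ([], 0), ([], 0), ([], 0), ([], 0), ([], 0)],
  [([], 0), ([], 0), ([], 0), ([], 0), ([], 0), ([], 0), ([], 0), ([], 0), ([], 0), ([], 0)],
  [([], 0), ([], 0), ([], 0), ([], 0), ([], 0), ([], 0), ([], 0), ([], 0), ([], 0), ([], 0)],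
  [([], 0), ([], 0), ([], 0), ([], 0), ([], 0), ([], 0), ([], 0), ([], 0), ([], 0), ([], 0)],
  [([], 0), ([], 0), ([], 0), ([], 0), ([], 0), ([], 0), ([], 0), ([], 0), ([], 0), ([], 0)],
  [([], 0), ([], 0), ([], 0), ([], 0), ([], 0), ([], 0), ([], 0), ([], 0), ([], 0), ([], 0)],
  [([], 0), ([], 0), ([], 0), ([], 0), ([], 0), ([], 0), ([], 0), ([], 0), ([], 0), ([], 0)],
  [([], 0), ([], 0), ([], 0), ([], 0), ([], 0), ([], 0), ([], 0), ([], 0), ([], 0), ([], 0)],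
  [([], 0), ([], 0), ([], 0), ([], 0), ([], 0), ([], 0), ([], 0), ([], 0), ([], 0), ([], 0)],
  [([], 0), ([], 0), ([], 0), ([], 0), ([], 0), ([], 0), ([], 0), ([], 0), ([], 0), ([], 0)],
  [([], 0), ([], 0), ([], 0), ([], 0), ([], 0), ([], 0), ([], 0), ([], 0), ([], 0), ([], 0)],
  [([], 0), ([], 0), ([], 0), ([], 0), ([], 0), ([], 0), ([], 0), ([], 0), ([], 0), ([], 0)],
  [([], 0), ([], 0), ([], 0), ([], 0), ([], 0), ([], 0), ([], 0), ([], 0), ([], 0), ([], 0)],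
  [([], 0), ([], 0), ([], 0), ([], 0), ([], 0), ([], 0), ([], 0), ([], 0), ([], 0), ([], 0)],
  [([], 0), ([], 0), ([], 0), ([], 0), ([], 0), ([], 0), ([], 0), ([], 0), ([], 0), ([], 0)],
  [([], 0), ([], 0), ([], 0), ([], 0), ([], 0), ([], 0), ([], 0), ([], 0), ([], 0), ([], 0)],
  [([], 0), ([], 0), ([], 0), ([], 0), ([], 0), ([], 0), ([], 0), ([], 0), ([], 0), ([], 0)],
  [([], 0), ([], 0), ([], 0), ([], 0), ([], 0), ([], 0), ([], 0), ([], 0), ([], 0), ([], 0)],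
  [([], 0), ([], 0), ([], 0), ([], 0), ([], 0), ([], 0), ([], 0), ([], 0), ([], 0), ([], 0)],
  [([], 0), ([], 0), ([], 0), ([], 0), ([], 0), ([], 0), ([], 0), ([], 0), ([], 0), ([], 0)],
  [([], 0), ([], 0), ([], 0), ([], 0), ([], 0), ([], 0), ([], 0), ([], 0), ([], 0), ([], 0)],
  [([], 0), ([], 0), ([], 0), ([], 0), ([], 0), ([], 0), ([], 0), ([], 0), ([], 0), ([], 0)],
  [([], 0), ([], 0), ([], 0), ([], 0), ([], 0), ([], 0), ([], 0), ([], 0), ([], 0), ([], 0)],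
  [([], 0), ([], 0), ([], 0), ([], 0), ([], 0), ([], 0), ([], 0), ([], 0), ([], 0), ([], 0)],
  [([], 0), ([], 0), ([], 0), ([], 0), ([], 0), ([], 0), ([], 0), ([], 0), ([], 0), ([], 0)],
  [([], 0), ([], 0), ([], 0), ([], 0), ([], 0), ([], 0), ([], 0), ([], 0), ([], 0), ([], 0)],
  [([], 0), ([], 0), ([], 0), ([], 0), ([], 0), ([], 0), ([], 0), ([], 0), ([], 0), ([], 0)],
  [([], 0), ([], 0), ([], 0), ([], 0), ([], 0), ([], 0), ([], 0), ([], 0), ([], 0), ([], 0)],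
  [([], 0), ([], 0), ([], 0), ([], 0), ([], 0), ([], 0), ([], 0), ([], 0), ([], 0), ([], 0)],
  [([], 0), ([], 0), ([], 0), ([], 0), ([], 0), ([], 0), ([], 0), ([], 0), ([], 0), ([], 0)],
  [([], 0), ([], 0), ([], 0), ([], 0), ([], 0), ([], 0), ([], 0), ([], 0), ([], 0), ([], 0)],
  [([], 0), ([], 0), ([], 0), ([], 0), ([], 0), ([], 0), ([], 0), ([], 0), ([], 0), ([], 0)],
  [([], 0), ([], 0), ([], 0), ([], 0), ([], 0), ([], 0), ([], 0), ([], 0), ([], 0), ([], 0)],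
  [([], 0), ([], 0), ([], 0), ([], 0), ([], 0), ([], 0), ([], 0), ([], 0), ([], 0), ([], 0)],
  [([], 0), ([], 0), ([], 0), ([], 0), ([], 0), ([], 0), ([], 0), ([], 0), ([], 0), ([], 0)],
  [([], 0), ([], 0), ([], 0), ([], 0), ([], 0), ([], 0), ([], 0), ([], 0), ([], 0), ([], 0)],
  [([], 0), ([], 0), ([], 0), ([], 0), ([], 0), ([], 0), ([], 0), ([], 0), ([], 0), ([], 0)],
  [([], 0), ([], 0), ([], 0), ([], 0), ([], 0), ([], 0), ([], 0), ([], 0), ([], 0), ([], 0)],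
  [([], 0), ([], 0), ([], 0), ([], 0), ([], 0), ([], 0), ([], 0), ([], 0), ([], 0), ([], 0)],
  [([], 0), ([], 0), ([], 0), ([], 0), ([], 0), ([], 0), ([], 0), ([], 0), ([], 0), ([], 0)],
  [([], 0), ([], 0), ([], 0), ([], 0), ([], 0), ([], 0), ([], 0), ([], 0), ([], 0), ([], 0)],
  [([], 0), ([], 0), ([], 0), ([], 0), ([], 0), ([], 0), ([], 0), ([], 0), ([], 0), ([], 0)],
  [([], 0), ([], 0), ([], 0), ([], 0), ([], 0), ([], 0), ([], 0), ([], 0), ([], 0), ([], 0)],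
  [([], 0), ([], 0), ([], 0), ([], 0), ([], 0), ([], 0), ([], 0), ([], 0), ([], 0), ([], 0)],
  [([], 0), ([], 0), ([], 0), ([], 0), ([], 0), ([], 0), ([], 0), ([], 0), ([], 0), ([], 0)],
  [([], 0), ([], 0), ([], 0), ([], 0), ([], 0), ([], 0), ([], 0), ([], 0), ([], 0), ([], 0)],
  [([], 0), ([], 0), ([], 0), ([], 0), ([], 0), ([], 0), ([], 0), ([], 0), ([], 0), ([], 0)],
  [([], 0), ([], 0), ([], 0), ([], 0), ([], 0), ([], 0), ([], 0), ([], 0), ([], 0), ([], 0)],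
  [([], 0), ([], 0), ([], 0), ([], 0), ([], 0), ([], 0), ([], 0), ([], 0), ([], 0), ([], 0)],
  [([], 0), ([], 0), ([], 0), ([], 0), ([], 0), ([], 0), ([], 0), ([], 0), ([], 0), ([], 0)],
  [([], 0), ([], 0), ([], 0), ([], 0), ([], 0), ([], 0), ([], 0), ([], 0), ([], 0), ([], 0)],
  [([], 0), ([], 0), ([], 0), ([], 0), ([], 0), ([], 0), ([], 0), ([], 0), ([], 0), ([], 0)],
  [([], 0), ([], 0), ([], 0), ([], 0), ([], 0), ([], 0), ([], 0), ([], 0), ([], 0), ([], 0)],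
  [([], 0), ([], 0), ([], 0), ([], 0), ([], 0), ([], 0), ([], 0), ([], 0), ([], 0), ([], 0)],
  [([], 0), ([], 0), ([], 0), ([], 0), ([], 0), ([], 0), ([], 0), ([], 0), ([], 0), ([], 0)],
  [([], 0), ([], 0), ([], 0), ([], 0), ([], 0), ([], 0), ([], 0), ([], 0), ([], 0), ([], 0)],
  [([], 0), ([], 0), ([], 0), ([], 0), ([], 0), ([], 0), ([], 0), ([], 0), ([], 0), ([], 0)],
  [([], 0), ([], 0), ([], 0), ([], 0), ([], 0), ([], 0), ([], 0), ([], 0), ([], 0), ([], 0)],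
  [([], 0), ([], 0), ([], 0), ([], 0), ([], 0), ([], 0), ([], 0), ([], 0), ([], 0), ([], 0)],
  [([], 0), ([], 0), ([], 0), ([], 0), ([], 0), ([], 0), ([], 0), ([], 0), ([], 0), ([], 0)],
  [([], 0), ([], 0), ([], 0), ([], 0), ([], 0), ([], 0), ([], 0), ([], 0), ([], 0), ([], 0)],
  [([], 0), ([], 0), ([], 0), ([], 0), ([], 0), ([], 0), ([], 0), ([], 0), ([], 0), ([], 0)],
  [([], 0), ([], 0), ([], 0), ([], 0), ([], 0), ([], 0), ([], 0), ([], 0), ([], 0), ([], 0)],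
  [([], 0), ([], 0), ([], 0), ([], 0), ([], 0), ([], 0), ([], 0), ([], 0), ([], 0), ([], 0)],
  [([], 0), ([], 0), ([], 0), ([], 0), ([], 0), ([], 0), ([], 0), ([], 0), ([], 0), ([], 0)],
  [([], 0), ([], 0), ([], 0), ([], 0), ([], 0), ([], 0), ([], 0), ([], 0), ([], 0), ([], 0)],
  [([], 0), ([], 0), ([], 0), ([], 0), ([], 0), ([], 0), ([], 0), ([], 0), ([], 0), ([], 0)],
  [([], 0), ([], 0), ([], 0), ([], 0), ([], 0), ([], 0), ([], 0), ([], 0), ([], 0), ([], 0)],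
  [([], 0), ([], 0), ([], 0), ([], 0), ([], 0), ([], 0), ([], 0), ([], 0), ([], 0), ([], 0)],
  [([], 0), ([], 0), ([], 0), ([], 0), ([], 0), ([], 0), ([], 0), ([], 0), ([], 0), ([], 0)],
  [([], 0), ([], 0), ([], 0), ([], 0), ([], 0), ([], 0), ([], 0), ([], 0), ([], 0), ([], 0)],
  [([], 0), ([], 0), ([], 0), ([], 0), ([], 0), ([], 0), ([], 0), ([], 0), ([], 0), ([], 0)],
  [([], 0), ([], 0), ([], 0), ([], 0), ([], 0), ([], 0), ([], 0), ([], 0), ([], 0), ([], 0)],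
  [([], 0), ([], 0), ([], 0), ([], 0), ([], 0), ([], 0), ([], 0), ([], 0), ([], 0), ([], 0)],
  [([], 0), ([], 0), ([], 0), ([], 0), ([], 0), ([], 0), ([], 0), ([], 0), ([], 0), ([], 0)],
  [([], 0), ([], 0), ([], 0), ([], 0), ([], 0), ([], 0), ([], 0), ([], 0), ([], 0), ([], 0)],
  [([], 0), ([], 0), ([], 0), ([], 0), ([], 0), ([], 0), ([], 0), ([], 0), ([], 0), ([], 0)],
  [([], 0), ([], 0), ([], 0), ([], 0), ([], 0), ([], 0), ([], 0), ([], 0), ([], 0), ([], 0)],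
  [([], 0), ([], 0), ([], 0), ([], 0), ([], 0), ([], 0), ([], 0), ([], 0), ([], 0), ([], 0)],
  [([], 0), ([], 0), ([], 0), ([], 0), ([], 0), ([], 0), ([], 0), ([], 0), ([], 0), ([], 0)],
  [([], 0), ([], 0), ([], 0), ([], 0), ([], 0), ([], 0), ([], 0), ([], 0), ([], 0), ([], 0)],
  [([], 0), ([], 0), ([], 0), ([], 0), ([], 0), ([], 0), ([], 0), ([], 0), ([], 0), ([], 0)],
  [([], 0), ([], 0), ([], 0), ([], 0), ([], 0), ([], 0), ([], 0), ([], 0), ([], 0), ([], 0)],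
  [([], 0), ([], 0), ([], 0), ([], 0), ([], 0), ([], 0), ([], 0), ([], 0), ([], 0), ([], 0)],
  [([], 0), ([], 0), ([], 0), ([], 0), ([], 0), ([], 0), ([], 0), ([], 0), ([], 0), ([], 0)],
  [([], 0), ([], 0), ([], 0), ([], 0), ([], 0), ([], 0), ([], 0), ([], 0), ([], 0), ([], 0)],
  [([], 0), ([], 0), ([], 0), ([], 0), ([], 0), ([], 0), ([], 0), ([], 0), ([], 0), ([], 0)],
  [([], 0), ([], 0), ([], 0), ([], 0), ([], 0), ([], 0), ([], 0), ([], 0), ([], 0), ([], 0)],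
  [([], 0), ([], 0), ([], 0), ([], 0), ([], 0), ([], 0), ([], 0), ([], 0), ([], 0), ([], 0)],
  [([], 0), ([], 0), ([], 0), ([], 0), ([], 0), ([], 0), ([], 0), ([], 0), ([], 0), ([], 0)],
  [([], 0), ([], 0), ([], 0), ([], 0), ([], 0), ([], 0), ([], 0), ([], 0), ([], 0), ([], 0)],
  [([], 0), ([], 0), ([], 0), ([], 0), ([], 0), ([], 0), ([], 0), ([], 0), ([], 0), ([], 0)],
  [([], 0), ([], 0), ([], 0), ([], 0), ([], 0), ([], 0), ([], 0), ([], 0), ([], 0), ([], 0)],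
  [([], 0), ([], 0), ([], 0), ([], 0), ([], 0), ([], 0), ([], 0), ([], 0), ([], 0), ([], 0)],
  [([], 0), ([], 0), ([], 0), ([], 0), ([], 0), ([], 0), ([], 0), ([], 0), ([], 0), ([], 0)],
  [([], 0), ([], 0), ([], 0), ([], 0), ([], 0), ([], 0), ([], 0), ([], 0), ([], 0), ([], 0)],
  [([], 0), ([], 0), ([], 0), ([], 0), ([], 0), ([], 0), ([], 0), ([], 0), ([], 0), ([], 0)],
  [([], 0), ([], 0), ([], 0), ([], 0), ([], 0), ([], 0), ([], 0), ([], 0), ([], 0), ([], 0)],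
  [([], 0), ([], 0), ([], 0), ([], 0), ([], 0), ([], 0), ([], 0), ([], 0), ([], 0), ([], 0)],
  [([], 0), ([], 0), ([], 0), ([], 0), ([], 0), ([], 0), ([], 0), ([], 0), ([], 0), ([], 0)],
  [([], 0), ([], 0), ([], 0), ([], 0), ([], 0), ([], 0), ([], 0), ([], 0), ([], 0), ([], 0)],
  [([], 0), ([], 0), ([], 0), ([], 0), ([], 0), ([], 0), ([], 0), ([], 0), ([], 0), ([], 0)],
  [([], 0), ([], 0), ([], 0), ([], 0), ([], 0), ([], 0), ([], 0), ([], 0), ([], 0), ([], 0)],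
  [([], 0), ([], 0), ([], 0), ([], 0), ([], 0), ([], 0), ([], 0), ([], 0), ([], 0), ([], 0)],
  [([], 0), ([], 0), ([], 0), ([], 0), ([], 0), ([], 0), ([], 0), ([], 0), ([], 0), ([], 0)],
  [([], 0), ([], 0), ([], 0), ([], 0), ([], 0), ([], 0), ([], 0), ([], 0), ([], 0), ([], 0)],
  [([], 0), ([], 0), ([], 0), ([], 0), ([], 0), ([], 0), ([], 0), ([], 0), ([], 0), ([], 0)],
  [([], 0), ([], 0), ([], 0), ([], 0), ([], 0), ([], 0), ([], 0), ([], 0), ([], 0), ([], 0)],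
  [([], 0), ([], 0), ([], 0), ([], 0), ([], 0), ([], 0), ([], 0), ([], 0), ([], 0), ([], 0)],
  [([], 0), ([], 0), ([], 0), ([], 0), ([], 0), ([], 0), ([], 0), ([], 0), ([], 0), ([], 0)],
  [([], 0), ([], 0), ([], 0), ([], 0), ([], 0), ([], 0), ([], 0), ([], 0), ([], 0), ([], 0)],
  [([], 0), ([], 0), ([], 0), ([], 0), ([], 0), ([], 0), ([], 0), ([], 0), ([], 0), ([], 0)],
  [([], 0), ([], 0), ([], 0), ([], 0), ([], 0), ([], 0), ([], 0), ([], 0), ([], 0), ([], 0)],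
  [([], 0), ([], 0), ([], 0), ([], 0), ([], 0), ([], 0), ([], 0), ([], 0), ([], 0), ([], 0)],
  [([], 0), ([], 0), ([], 0), ([], 0), ([], 0), ([], 0), ([], 0), ([], 0), ([], 0), ([], 0)],
  [([], 0), ([], 0), ([], 0), ([], 0), ([], 0), ([], 0), ([], 0), ([], 0), ([], 0), ([], 0)],
  [([], 0), ([], 0), ([], 0), ([], 0), ([], 0), ([], 0), ([], 0), ([], 0), ([], 0), ([], 0)],
  [([], 0), ([], 0), ([], 0), ([], 0), ([], 0), ([], 0), ([], 0), ([], 0), ([], 0), ([], 0)],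
  [([], 0), ([], 0), ([], 0), ([], 0), ([], 0), ([], 0), ([], 0), ([], 0), ([], 0), ([], 0)],
  [([5, 3], 2), ([], 0), ([], 0), ([], 0), ([], 0), ([], 0), ([], 0), ([], 0), ([], 0), ([], 0)],
  [([], 0), ([], 0), ([], 0), ([], 0), ([], 0), ([6, 5, 6, 4, 0], 1), ([], 0), ([], 0), ([], 0), ([], 0)],
  [([], 0), ([], 0), ([], 0), ([], 0), ([], 0), ([], 0), ([], 0), ([], 0), ([], 0), ([], 0)],
  [([], 0), ([], 0), ([], 0), ([], 0), ([], 0), ([], 0), ([], 0), ([], 0), ([], 0), ([], 0)],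
  [([], 0), ([], 0), ([], 0), ([], 0), ([], 0), ([], 0), ([], 0), ([], 0), ([], 0), ([], 0)],
  [([], 0), ([], 0), ([], 0), ([], 0), ([], 0), ([], 0), ([], 0), ([], 0), ([], 0), ([], 0)],
  [([], 0), ([5, 3, 5], 2), ([], 0), ([], 0), ([], 0), ([], 0), ([], 0), ([], 0), ([], 0), ([], 0)],
  [([6, 5, 6, 1, 4, 1], 1), ([], 0), ([], 0), ([], 0), ([], 0), ([], 0), ([], 0), ([], 0), ([], 0), ([], 0)],
  [([], 0), ([], 0), ([], 0), ([], 0), ([], 0), ([], 0), ([], 0), ([], 0), ([], 0), ([], 0)],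
  [([], 0), ([], 0), ([], 0), ([], 0), ([], 0), ([], 0), ([], 0), ([], 0), ([], 0), ([], 0)],
  [([], 0), ([], 0), ([], 0), ([], 0), ([], 0), ([], 0), ([], 0), ([], 0), ([], 0), ([], 0)],
  [([], 0), ([], 0), ([], 0), ([], 0), ([], 0), ([], 0), ([], 0), ([], 0), ([], 0), ([], 0)],
  [([], 0), ([2, 3, 1, 5], 2), ([], 0), ([], 0), ([], 0), ([], 0), ([], 0), ([], 0), ([], 0), ([], 0)],
  [([], 0), ([], 0), ([6, 3, 6, 4, 6, 6], 1), ([], 0), ([], 0), ([], 0), ([], 0), ([], 0), ([], 0), ([], 0)],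
  [([], 0), ([], 0), ([], 0), ([], 0), ([], 0), ([], 0), ([], 0), ([], 0), ([], 0), ([], 0)],
  [([], 0), ([], 0), ([], 0), ([], 0), ([], 0), ([], 0), ([], 0), ([], 0), ([], 0), ([], 0)],
  [([], 0), ([], 0), ([], 0), ([], 0), ([], 0), ([], 0), ([], 0), ([], 0), ([], 0), ([], 0)],
  [([], 0), ([], 0), ([], 0), ([], 0), ([], 0), ([], 0), ([], 0), ([], 0), ([], 0), ([], 0)],
  [([], 0), ([], 0), ([], 0), ([], 0), ([], 0), ([], 0), ([], 0), ([], 0), ([], 0), ([], 0)],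
  [([], 0), ([], 0), ([], 0), ([], 0), ([], 0), ([], 0), ([], 0), ([], 0), ([], 0), ([], 0)],
  [([], 0), ([], 0), ([], 0), ([], 0), ([], 0), ([], 0), ([], 0), ([], 0), ([], 0), ([], 0)],
  [([], 0), ([], 0), ([], 0), ([], 0), ([], 0), ([], 0), ([], 0), ([], 0), ([], 0), ([], 0)],
  [([], 0), ([], 0), ([], 0), ([], 0), ([], 0), ([], 0), ([], 0), ([], 0), ([], 0), ([], 0)],
  [([], 0), ([], 0), ([], 0), ([], 0), ([], 0), ([], 0), ([], 0), ([], 0), ([], 0), ([], 0)],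
  [([], 0), ([], 0), ([], 0), ([], 0), ([], 0), ([], 0), ([], 0), ([], 0), ([], 0), ([], 0)],
  [([], 0), ([], 0), ([], 0), ([], 0), ([], 0), ([], 0), ([], 0), ([], 0), ([], 0), ([], 0)],
  [([], 0), ([], 0), ([2, 3, 1], 2), ([], 0), ([], 0), ([], 0), ([], 0), ([], 0), ([], 0), ([], 0)],
  [([0, 4, 6, 5, 6, 4, 0], 1), ([], 0), ([], 0), ([], 0), ([], 0), ([], 0), ([], 0), ([], 0), ([], 0), ([], 0)],
  [([], 0), ([], 0), ([], 0), ([4, 5, 6, 5, 6, 1], 1), ([], 0), ([6, 5, 6, 1], 1), ([], 0), ([], 0), ([], 0), ([], 0)],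
  [([], 0), ([3, 0], 2), ([], 0), ([], 0), ([], 0), ([], 0), ([], 0), ([], 0), ([], 0), ([4, 0, 6, 4, 5, 4, 6], 1)],
  [([], 0), ([], 0), ([], 0), ([], 0), ([], 0), ([], 0), ([], 0), ([], 0), ([], 0), ([], 0)],
  [([], 0), ([], 0), ([], 0), ([], 0), ([], 0), ([], 0), ([], 0), ([], 0), ([], 0), ([], 0)],
  [([], 0), ([], 0), ([], 0), ([], 0), ([], 0), ([], 0), ([], 0), ([], 0), ([], 0), ([5, 6, 3, 4, 6, 6], 1)],
  [([], 0), ([], 0), ([], 0), ([], 0), ([], 0), ([], 0), ([], 0), ([6, 4, 6, 2, 6, 0], 1), ([], 0), ([], 0)],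
  [([], 0), ([], 0), ([], 0), ([], 0), ([], 0), ([], 0), ([], 0), ([], 0), ([], 0), ([], 0)],
  [([], 0), ([], 0), ([], 0), ([], 0), ([], 0), ([], 0), ([], 0), ([], 0), ([], 0), ([], 0)],
  [([], 0), ([], 0), ([], 0), ([], 0), ([], 0), ([], 0), ([], 0), ([], 0), ([], 0), ([], 0)],
  [([], 0), ([], 0), ([], 0), ([], 0), ([], 0), ([], 0), ([], 0), ([], 0), ([], 0), ([], 0)],
  [([], 0), ([], 0), ([], 0), ([], 0), ([0, 6, 6, 0, 2, 4, 6], 1), ([], 0), ([], 0), ([], 0), ([6, 6, 1, 6, 2], 1), ([], 0)],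
  [([], 0), ([], 0), ([], 0), ([], 0), ([6, 6, 1, 6, 3, 4, 0], 1), ([], 0), ([], 0), ([], 0), ([2, 4, 0, 3], 2), ([], 0)],
  [([], 0), ([], 0), ([], 0), ([], 0), ([], 0), ([], 0), ([], 0), ([], 0), ([], 0), ([], 0)],
  [([], 0), ([], 0), ([], 0), ([], 0), ([], 0), ([], 0), ([], 0), ([], 0), ([], 0), ([], 0)],
  [([], 0), ([], 0), ([], 0), ([], 0), ([], 0), ([], 0), ([6, 3, 6, 1, 6, 1], 1), ([], 0), ([], 0), ([], 0)],
  [([], 0), ([], 0), ([], 0), ([], 0), ([], 0), ([], 0), ([], 0), ([], 0), ([], 0), ([4, 6, 0, 3, 4, 3, 6], 1)],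
  [([], 0), ([], 0), ([], 0), ([], 0), ([], 0), ([], 0), ([], 0), ([], 0), ([], 0), ([], 0)],
  [([], 0), ([], 0), ([], 0), ([], 0), ([], 0), ([], 0), ([], 0), ([], 0), ([], 0), ([], 0)],
  [([], 0), ([], 0), ([], 0), ([], 0), ([6, 1, 6, 3, 6], 1), ([], 0), ([], 0), ([], 0), ([], 0), ([], 0)],
  [([], 0), ([6, 4, 6, 2, 6, 4, 5], 1), ([], 0), ([], 0), ([], 0), ([], 0), ([], 0), ([], 0), ([], 0), ([], 0)],
  [([], 0), ([], 0), ([], 0), ([], 0), ([], 0), ([], 0), ([], 0), ([], 0), ([], 0), ([], 0)],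
  [([], 0), ([], 0), ([], 0), ([], 0), ([], 0), ([], 0), ([], 0), ([], 0), ([], 0), ([], 0)],
  [([], 0), ([], 0), ([], 0), ([], 0), ([0, 3, 6, 4, 5, 4, 6], 1), ([], 0), ([], 0), ([], 0), ([5, 4, 4], 2), ([], 0)],
  [([0, 4, 6, 5, 6, 1], 1), ([], 0), ([], 0), ([], 0), ([], 0), ([], 0), ([], 0), ([6, 1, 6, 3, 6, 4], 1), ([], 0), ([], 0)],
  [([], 0), ([6, 1, 6, 3, 6, 4, 4], 1), ([], 0), ([], 0), ([], 0), ([], 0), ([], 0), ([], 0), ([], 0), ([], 0)],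
  [([], 0), ([], 0), ([], 0), ([6, 6, 1, 6, 0, 3], 1), ([], 0), ([], 0), ([], 0), ([], 0), ([], 0), ([], 0)],
  [([], 0), ([], 0), ([], 0), ([], 0), ([], 0), ([], 0), ([], 0), ([], 0), ([], 0), ([], 0)],
  [([], 0), ([], 0), ([], 0), ([], 0), ([], 0), ([], 0), ([], 0), ([], 0), ([], 0), ([], 0)],
  [([], 0), ([], 0), ([], 0), ([1, 3, 5], 2), ([], 0), ([6, 3, 6, 1, 6, 3], 1), ([], 0), ([], 0), ([], 0), ([], 0)],
  [([], 0), ([6, 6, 1, 6, 4, 0], 1), ([], 0), ([], 0), ([], 0), ([], 0), ([], 0), ([], 0), ([], 0), ([2, 6, 4, 5, 4, 6], 1)],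
  [([], 0), ([], 0), ([], 0), ([], 0), ([], 0), ([], 0), ([], 0), ([], 0), ([], 0), ([], 0)],
  [([], 0), ([], 0), ([], 0), ([], 0), ([], 0), ([], 0), ([], 0), ([], 0), ([], 0), ([], 0)],
  [([], 0), ([], 0), ([], 0), ([], 0), ([], 0), ([], 0), ([], 0), ([], 0), ([], 0), ([], 0)],
  [([], 0), ([], 0), ([], 0), ([], 0), ([], 0), ([], 0), ([], 0), ([], 0), ([], 0), ([], 0)],
  [([], 0), ([], 0), ([], 0), ([], 0), ([], 0), ([], 0), ([], 0), ([], 0), ([], 0), ([], 0)],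
  [([], 0), ([], 0), ([], 0), ([], 0), ([], 0), ([], 0), ([], 0), ([], 0), ([], 0), ([], 0)],
  [([], 0), ([], 0), ([], 0), ([], 0), ([], 0), ([], 0), ([], 0), ([], 0), ([], 0), ([], 0)],
  [([], 0), ([], 0), ([], 0), ([], 0), ([], 0), ([], 0), ([], 0), ([], 0), ([], 0), ([], 0)],
  [([], 0), ([], 0), ([], 0), ([], 0), ([], 0), ([], 0), ([], 0), ([], 0), ([], 0), ([], 0)],
  [([], 0), ([], 0), ([], 0), ([], 0), ([], 0), ([], 0), ([], 0), ([], 0), ([], 0), ([], 0)],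
  [([], 0), ([], 0), ([], 0), ([], 0), ([], 0), ([], 0), ([], 0), ([], 0), ([], 0), ([], 0)],
  [([], 0), ([], 0), ([], 0), ([], 0), ([], 0), ([], 0), ([], 0), ([], 0), ([], 0), ([], 0)],
  [([], 0), ([], 0), ([], 0), ([], 0), ([], 0), ([], 0), ([], 0), ([], 0), ([], 0), ([], 0)],
  [([], 0), ([], 0), ([], 0), ([], 0), ([], 0), ([], 0), ([], 0), ([], 0), ([], 0), ([], 0)],
  [([], 0), ([], 0), ([], 0), ([], 0), ([], 0), ([], 0), ([], 0), ([], 0), ([], 0), ([], 0)],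
  [([], 0), ([], 0), ([], 0), ([], 0), ([], 0), ([], 0), ([], 0), ([], 0), ([], 0), ([], 0)],
  [([], 0), ([], 0), ([], 0), ([], 0), ([], 0), ([], 0), ([], 0), ([], 0), ([], 0), ([], 0)],
  [([], 0), ([], 0), ([], 0), ([], 0), ([], 0), ([], 0), ([], 0), ([], 0), ([], 0), ([], 0)],
  [([], 0), ([], 0), ([], 0), ([], 0), ([], 0), ([], 0), ([], 0), ([], 0), ([], 0), ([], 0)],
  [([], 0), ([], 0), ([], 0), ([], 0), ([], 0), ([], 0), ([], 0), ([], 0), ([], 0), ([], 0)],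
  [([], 0), ([], 0), ([], 0), ([], 0), ([], 0), ([], 0), ([], 0), ([], 0), ([], 0), ([], 0)],
  [([], 0), ([], 0), ([], 0), ([], 0), ([], 0), ([], 0), ([], 0), ([], 0), ([], 0), ([], 0)],
  [([], 0), ([], 0), ([], 0), ([], 0), ([], 0), ([], 0), ([], 0), ([], 0), ([], 0), ([], 0)],
  [([], 0), ([], 0), ([], 0), ([], 0), ([], 0), ([], 0), ([], 0), ([], 0), ([], 0), ([], 0)],
  [([], 0), ([], 0), ([], 0), ([], 0), ([], 0), ([], 0), ([], 0), ([], 0), ([], 0), ([], 0)],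
  [([], 0), ([], 0), ([], 0), ([], 0), ([], 0), ([], 0), ([], 0), ([], 0), ([], 0), ([], 0)],
  [([], 0), ([], 0), ([], 0), ([], 0), ([], 0), ([], 0), ([], 0), ([], 0), ([], 0), ([], 0)],
  [([], 0), ([], 0), ([], 0), ([], 0), ([], 0), ([], 0), ([], 0), ([], 0), ([], 0), ([], 0)],
  [([], 0), ([], 0), ([], 0), ([], 0), ([], 0), ([], 0), ([], 0), ([], 0), ([], 0), ([], 0)],
  [([], 0), ([], 0), ([], 0), ([], 0), ([], 0), ([], 0), ([], 0), ([], 0), ([], 0), ([], 0)],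
  [([], 0), ([], 0), ([], 0), ([], 0), ([], 0), ([], 0), ([], 0), ([], 0), ([], 0), ([], 0)],
  [([], 0), ([], 0), ([], 0), ([], 0), ([], 0), ([], 0), ([], 0), ([], 0), ([], 0), ([], 0)],
  [([], 0), ([], 0), ([], 0), ([], 0), ([], 0), ([], 0), ([], 0), ([], 0), ([], 0), ([], 0)],
  [([], 0), ([], 0), ([], 0), ([], 0), ([], 0), ([], 0), ([], 0), ([], 0), ([], 0), ([], 0)],
  [([], 0), ([], 0), ([], 0), ([], 0), ([], 0), ([], 0), ([], 0), ([], 0), ([], 0), ([], 0)],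
  [([], 0), ([], 0), ([], 0), ([], 0), ([], 0), ([], 0), ([], 0), ([], 0), ([], 0), ([], 0)],
  [([], 0), ([], 0), ([], 0), ([], 0), ([], 0), ([], 0), ([], 0), ([], 0), ([], 0), ([], 0)],
  [([], 0), ([], 0), ([], 0), ([], 0), ([], 0), ([], 0), ([], 0), ([], 0), ([], 0), ([], 0)],
  [([], 0), ([], 0), ([], 0), ([], 0), ([], 0), ([], 0), ([], 0), ([], 0), ([], 0), ([], 0)],
  [([], 0), ([], 0), ([], 0), ([], 0), ([], 0), ([], 0), ([], 0), ([], 0), ([], 0), ([], 0)],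
  [([], 0), ([], 0), ([], 0), ([], 0), ([], 0), ([], 0), ([], 0), ([], 0), ([], 0), ([], 0)],
  [([], 0), ([], 0), ([], 0), ([], 0), ([], 0), ([], 0), ([], 0), ([], 0), ([], 0), ([], 0)],
  [([], 0), ([], 0), ([], 0), ([], 0), ([], 0), ([], 0), ([], 0), ([], 0), ([], 0), ([], 0)],
  [([], 0), ([], 0), ([], 0), ([], 0), ([], 0), ([], 0), ([], 0), ([], 0), ([], 0), ([], 0)],
  [([], 0), ([], 0), ([], 0), ([], 0), ([], 0), ([], 0), ([], 0), ([], 0), ([], 0), ([], 0)],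
  [([], 0), ([], 0), ([], 0), ([], 0), ([], 0), ([], 0), ([], 0), ([], 0), ([], 0), ([], 0)],
  [([], 0), ([], 0), ([], 0), ([], 0), ([], 0), ([], 0), ([], 0), ([], 0), ([], 0), ([], 0)],
  [([], 0), ([], 0), ([], 0), ([], 0), ([], 0), ([], 0), ([], 0), ([], 0), ([], 0), ([], 0)],
  [([], 0), ([], 0), ([], 0), ([], 0), ([], 0), ([], 0), ([], 0), ([], 0), ([], 0), ([], 0)],
  [([], 0), ([], 0), ([], 0), ([], 0), ([], 0), ([], 0), ([], 0), ([], 0), ([], 0), ([], 0)],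
  [([], 0), ([], 0), ([], 0), ([], 0), ([], 0), ([], 0), ([], 0), ([], 0), ([], 0), ([], 0)],
  [([], 0), ([], 0), ([], 0), ([], 0), ([], 0), ([], 0), ([], 0), ([], 0), ([], 0), ([], 0)],
  [([], 0), ([], 0), ([], 0), ([], 0), ([], 0), ([], 0), ([], 0), ([], 0), ([], 0), ([], 0)],
  [([], 0), ([], 0), ([], 0), ([], 0), ([], 0), ([], 0), ([], 0), ([], 0), ([], 0), ([], 0)],
  [([], 0), ([], 0), ([], 0), ([], 0), ([], 0), ([], 0), ([], 0), ([], 0), ([], 0), ([], 0)],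
  [([], 0), ([], 0), ([], 0), ([], 0), ([], 0), ([], 0), ([], 0), ([], 0), ([], 0), ([], 0)],
  [([], 0), ([], 0), ([], 0), ([], 0), ([], 0), ([], 0), ([], 0), ([], 0), ([], 0), ([], 0)],
  [([], 0), ([], 0), ([], 0), ([], 0), ([], 0), ([], 0), ([], 0), ([], 0), ([], 0), ([], 0)],
  [([], 0), ([], 0), ([], 0), ([], 0), ([], 0), ([], 0), ([], 0), ([], 0), ([], 0), ([], 0)],
  [([], 0), ([], 0), ([], 0), ([], 0), ([], 0), ([], 0), ([], 0), ([], 0), ([], 0), ([], 0)],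
  [([], 0), ([], 0), ([], 0), ([], 0), ([], 0), ([], 0), ([], 0), ([], 0), ([], 0), ([], 0)],
  [([], 0), ([], 0), ([], 0), ([], 0), ([], 0), ([], 0), ([], 0), ([], 0), ([], 0), ([], 0)],
  [([], 0), ([], 0), ([], 0), ([], 0), ([], 0), ([], 0), ([], 0), ([], 0), ([], 0), ([], 0)],
  [([], 0), ([], 0), ([], 0), ([], 0), ([], 0), ([], 0), ([], 0), ([], 0), ([], 0), ([], 0)],
  [([], 0), ([], 0), ([], 0), ([], 0), ([], 0), ([], 0), ([], 0), ([], 0), ([], 0), ([], 0)],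
  [([], 0), ([], 0), ([], 0), ([], 0), ([], 0), ([], 0), ([], 0), ([], 0), ([], 0), ([], 0)],
  [([], 0), ([], 0), ([], 0), ([], 0), ([], 0), ([], 0), ([], 0), ([], 0), ([], 0), ([], 0)],
  [([], 0), ([], 0), ([], 0), ([], 0), ([], 0), ([], 0), ([], 0), ([], 0), ([], 0), ([], 0)],
  [([], 0), ([], 0), ([], 0), ([], 0), ([], 0), ([], 0), ([], 0), ([], 0), ([], 0), ([], 0)],
  [([], 0), ([], 0), ([], 0), ([], 0), ([], 0), ([], 0), ([], 0), ([], 0), ([], 0), ([], 0)],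
  [([], 0), ([], 0), ([], 0), ([], 0), ([], 0), ([], 0), ([], 0), ([], 0), ([], 0), ([], 0)],
  [([], 0), ([], 0), ([], 0), ([], 0), ([], 0), ([], 0), ([], 0), ([], 0), ([], 0), ([], 0)],
  [([], 0), ([], 0), ([], 0), ([], 0), ([6, 5, 6, 4, 4, 0], 1), ([], 0), ([], 0), ([], 0), ([], 0), ([], 0)],
  [([], 0), ([], 0), ([], 0), ([], 0), ([], 0), ([], 0), ([], 0), ([], 0), ([1, 3, 2, 3], 2), ([], 0)],
  [([], 0), ([], 0), ([], 0), ([], 0), ([], 0), ([], 0), ([], 0), ([], 0), ([], 0), ([], 0)],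
  [([], 0), ([], 0), ([], 0), ([], 0), ([], 0), ([], 0), ([], 0), ([], 0), ([], 0), ([], 0)],
  [([], 0), ([], 0), ([], 0), ([], 0), ([], 0), ([], 0), ([], 0), ([], 0), ([], 0), ([], 0)],
  [([], 0), ([], 0), ([], 0), ([], 0), ([], 0), ([], 0), ([], 0), ([], 0), ([], 0), ([], 0)],
  [([], 0), ([], 0), ([], 0), ([], 0), ([5, 4], 2), ([], 0), ([], 0), ([], 0), ([], 0), ([], 0)],
  [([0, 4, 6, 5, 6, 3], 1), ([], 0), ([], 0), ([], 0), ([], 0), ([], 0), ([], 0), ([], 0), ([], 0), ([], 0)],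
  [([], 0), ([], 0), ([], 0), ([], 0), ([], 0), ([], 0), ([], 0), ([], 0), ([], 0), ([], 0)],
  [([], 0), ([], 0), ([], 0), ([], 0), ([], 0), ([], 0), ([], 0), ([], 0), ([], 0), ([], 0)],
  [([], 0), ([], 0), ([], 0), ([], 0), ([], 0), ([], 0), ([], 0), ([6, 0, 3, 6, 3, 6, 0], 1), ([], 0), ([], 0)],
  [([], 0), ([3, 4, 4, 3], 2), ([], 0), ([], 0), ([], 0), ([], 0), ([], 0), ([], 0), ([], 0), ([], 0)],
  [([], 0), ([], 0), ([], 0), ([], 0), ([], 0), ([], 0), ([], 0), ([], 0), ([], 0), ([], 0)],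
  [([], 0), ([], 0), ([], 0), ([], 0), ([], 0), ([], 0), ([], 0), ([], 0), ([], 0), ([], 0)],
  [([], 0), ([], 0), ([], 0), ([], 0), ([], 0), ([], 0), ([], 0), ([], 0), ([], 0), ([], 0)],
  [([], 0), ([], 0), ([], 0), ([], 0), ([], 0), ([], 0), ([], 0), ([], 0), ([], 0), ([], 0)],
  [([], 0), ([], 0), ([], 0), ([], 0), ([], 0), ([], 0), ([], 0), ([], 0), ([], 0), ([], 0)],
  [([], 0), ([], 0), ([], 0), ([], 0), ([], 0), ([], 0), ([], 0), ([], 0), ([], 0), ([], 0)],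
  [([], 0), ([], 0), ([], 0), ([], 0), ([], 0), ([], 0), ([], 0), ([], 0), ([], 0), ([], 0)],
  [([], 0), ([], 0), ([], 0), ([], 0), ([], 0), ([], 0), ([], 0), ([], 0), ([], 0), ([], 0)],
  [([], 0), ([], 0), ([], 0), ([], 0), ([4, 3], 2), ([], 0), ([], 0), ([], 0), ([], 0), ([], 0)],
  [([], 0), ([], 0), ([], 0), ([], 0), ([], 0), ([], 0), ([6, 5, 6, 3], 1), ([], 0), ([], 0), ([], 0)],
  [([], 0), ([], 0), ([], 0), ([], 0), ([], 0), ([], 0), ([], 0), ([], 0), ([], 0), ([], 0)],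
  [([], 0), ([], 0), ([], 0), ([], 0), ([], 0), ([], 0), ([], 0), ([], 0), ([], 0), ([], 0)],
  [([], 0), ([], 0), ([], 0), ([], 0), ([], 0), ([], 0), ([], 0), ([], 0), ([], 0), ([], 0)],
  [([], 0), ([], 0), ([], 0), ([], 0), ([], 0), ([], 0), ([], 0), ([], 0), ([], 0), ([], 0)],
  [([], 0), ([], 0), ([], 0), ([], 0), ([], 0), ([], 0), ([], 0), ([4, 5, 6, 5, 6, 0], 1), ([], 0), ([6, 5, 6, 0], 1)],
  [([], 0), ([], 0), ([], 0), ([], 0), ([], 0), ([6, 2, 4, 5, 6, 3], 1), ([3, 5], 2), ([], 0), ([], 0), ([], 0)],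
  [([], 0), ([], 0), ([], 0), ([], 0), ([], 0), ([], 0), ([], 0), ([], 0), ([], 0), ([], 0)],
  [([], 0), ([], 0), ([], 0), ([], 0), ([], 0), ([], 0), ([], 0), ([], 0), ([], 0), ([], 0)],
  [([], 0), ([], 0), ([], 0), ([], 0), ([], 0), ([], 0), ([], 0), ([], 0), ([], 0), ([], 0)],
  [([], 0), ([], 0), ([], 0), ([], 0), ([], 0), ([], 0), ([], 0), ([], 0), ([], 0), ([], 0)],
  [([], 0), ([], 0), ([], 0), ([], 0), ([2, 3, 6, 6, 5, 6, 6], 1), ([], 0), ([], 0), ([], 0), ([], 0), ([], 0)],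
  [([], 0), ([], 0), ([], 0), ([], 0), ([], 0), ([], 0), ([], 0), ([], 0), ([4, 5, 6, 5, 6, 4], 1), ([], 0)],
  [([], 0), ([], 0), ([], 0), ([], 0), ([], 0), ([], 0), ([], 0), ([], 0), ([], 0), ([], 0)],
  [([], 0), ([], 0), ([], 0), ([], 0), ([], 0), ([], 0), ([], 0), ([], 0), ([], 0), ([], 0)],
  [([], 0), ([], 0), ([], 0), ([], 0), ([], 0), ([], 0), ([5, 6, 4, 6, 2, 6, 5], 1), ([], 0), ([], 0), ([], 0)],
  [([], 0), ([6, 1, 6, 3, 6, 2], 1), ([], 0), ([], 0), ([], 0), ([], 0), ([], 0), ([], 0), ([], 0), ([], 0)],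
  [([], 0), ([], 0), ([], 0), ([], 0), ([], 0), ([], 0), ([], 0), ([6, 6, 1, 6, 3], 1), ([], 0), ([3, 5, 3], 2)],
  [([], 0), ([], 0), ([], 0), ([], 0), ([], 0), ([6, 5, 6, 0, 3], 1), ([4, 5, 6, 6, 1, 6], 1), ([], 0), ([], 0), ([], 0)],
  [([], 0), ([], 0), ([], 0), ([], 0), ([], 0), ([], 0), ([], 0), ([], 0), ([], 0), ([], 0)],
  [([], 0), ([], 0), ([], 0), ([], 0), ([], 0), ([], 0), ([], 0), ([], 0), ([], 0), ([], 0)],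
  [([], 0), ([], 0), ([], 0), ([], 0), ([], 0), ([], 0), ([], 0), ([], 0), ([], 0), ([], 0)],
  [([], 0), ([], 0), ([], 0), ([], 0), ([], 0), ([], 0), ([], 0), ([], 0), ([], 0), ([], 0)],
  [([2, 4, 0, 4], 2), ([], 0), ([0, 4, 6, 3, 6, 3, 6], 1), ([], 0), ([], 0), ([], 0), ([], 0), ([], 0), ([], 0), ([], 0)],
  [([], 0), ([], 0), ([], 0), ([0, 4, 6, 5, 6, 0, 3], 1), ([], 0), ([], 0), ([], 0), ([], 0), ([6, 6, 1, 6], 1), ([], 0)],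
  [([], 0), ([], 0), ([], 0), ([], 0), ([], 0), ([5, 6, 3, 4, 6, 6, 2], 1), ([], 0), ([], 0), ([], 0), ([], 0)],
  [([], 0), ([], 0), ([], 0), ([], 0), ([], 0), ([], 0), ([], 0), ([6, 6, 3, 1, 6, 0], 1), ([], 0), ([], 0)],
  [([], 0), ([], 0), ([], 0), ([], 0), ([], 0), ([], 0), ([], 0), ([], 0), ([], 0), ([], 0)],
  [([], 0), ([], 0), ([], 0), ([], 0), ([], 0), ([], 0), ([], 0), ([], 0), ([], 0), ([], 0)],
  [([], 0), ([], 0), ([], 0), ([], 0), ([], 0), ([], 0), ([6, 6, 4, 6, 5, 6], 1), ([], 0), ([], 0), ([], 0)],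
  [([], 0), ([], 0), ([], 0), ([], 0), ([], 0), ([], 0), ([], 0), ([6, 3, 6, 1, 6, 0], 1), ([], 0), ([], 0)],
  [([], 0), ([], 0), ([], 0), ([], 0), ([], 0), ([], 0), ([], 0), ([], 0), ([], 0), ([], 0)],
  [([], 0), ([], 0), ([], 0), ([], 0), ([], 0), ([], 0), ([], 0), ([], 0), ([], 0), ([], 0)],
  [([], 0), ([], 0), ([], 0), ([], 0), ([], 0), ([], 0), ([], 0), ([], 0), ([], 0), ([], 0)],
  [([], 0), ([], 0), ([], 0), ([], 0), ([], 0), ([], 0), ([], 0), ([], 0), ([], 0), ([], 0)],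
  [([], 0), ([], 0), ([], 0), ([0, 4, 6, 5, 6, 0], 1), ([], 0), ([], 0), ([], 0), ([], 0), ([6, 2, 4, 5, 6], 1), ([], 0)],
  [([3, 0, 3, 4], 2), ([], 0), ([0, 2, 6, 2, 4, 5, 6], 1), ([], 0), ([], 0), ([], 0), ([], 0), ([], 0), ([], 0), ([], 0)],
  [([], 0), ([], 0), ([], 0), ([], 0), ([], 0), ([], 0), ([], 0), ([], 0), ([], 0), ([], 0)],
  [([], 0), ([], 0), ([], 0), ([], 0), ([], 0), ([], 0), ([], 0), ([], 0), ([], 0), ([], 0)],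
  [([], 0), ([], 0), ([], 0), ([], 0), ([], 0), ([], 0), ([], 0), ([], 0), ([], 0), ([], 0)],
  [([], 0), ([], 0), ([], 0), ([], 0), ([], 0), ([], 0), ([], 0), ([], 0), ([], 0), ([], 0)],
  [([], 0), ([], 0), ([], 0), ([], 0), ([], 0), ([], 0), ([], 0), ([], 0), ([], 0), ([], 0)],
  [([], 0), ([], 0), ([], 0), ([], 0), ([], 0), ([], 0), ([], 0), ([], 0), ([], 0), ([], 0)],
  [([], 0), ([], 0), ([], 0), ([], 0), ([], 0), ([6, 5, 6, 4, 4], 1), ([], 0), ([], 0), ([], 0), ([], 0)],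
  [([], 0), ([], 0), ([], 0), ([], 0), ([], 0), ([], 0), ([], 0), ([], 0), ([], 0), ([2, 4, 5], 2)],
  [([], 0), ([], 0), ([], 0), ([], 0), ([], 0), ([], 0), ([], 0), ([], 0), ([], 0), ([], 0)],
  [([], 0), ([], 0), ([], 0), ([], 0), ([], 0), ([], 0), ([], 0), ([], 0), ([], 0), ([], 0)],
  [([], 0), ([], 0), ([], 0), ([], 0), ([], 0), ([], 0), ([], 0), ([], 0), ([], 0), ([], 0)],
  [([], 0), ([], 0), ([], 0), ([], 0), ([], 0), ([], 0), ([], 0), ([], 0), ([], 0), ([], 0)],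
  [([], 0), ([], 0), ([], 0), ([], 0), ([], 0), ([], 0), ([], 0), ([], 0), ([], 0), ([], 0)],
  [([], 0), ([], 0), ([], 0), ([], 0), ([], 0), ([], 0), ([], 0), ([], 0), ([], 0), ([], 0)],
  [([], 0), ([], 0), ([], 0), ([], 0), ([], 0), ([5, 4, 0], 2), ([], 0), ([], 0), ([], 0), ([], 0)],
  [([], 0), ([6, 5, 6, 4, 1, 4], 1), ([], 0), ([], 0), ([], 0), ([], 0), ([], 0), ([], 0), ([], 0), ([], 0)],
  [([], 0), ([], 0), ([], 0), ([], 0), ([], 0), ([], 0), ([], 0), ([], 0), ([], 0), ([], 0)],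
  [([], 0), ([], 0), ([], 0), ([], 0), ([], 0), ([], 0), ([], 0), ([], 0), ([], 0), ([], 0)],
  [([], 0), ([], 0), ([], 0), ([], 0), ([], 0), ([], 0), ([], 0), ([], 0), ([], 0), ([], 0)],
  [([], 0), ([], 0), ([], 0), ([], 0), ([], 0), ([], 0), ([], 0), ([], 0), ([], 0), ([], 0)],
  [([], 0), ([], 0), ([], 0), ([], 0), ([], 0), ([], 0), ([], 0), ([], 0), ([], 0), ([], 0)],
  [([], 0), ([], 0), ([], 0), ([], 0), ([], 0), ([], 0), ([], 0), ([], 0), ([], 0), ([], 0)],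
  [([2, 4, 6, 3], 2), ([], 0), ([], 0), ([], 0), ([], 0), ([], 0), ([], 0), ([], 0), ([], 0), ([], 0)],
  [([], 0), ([], 0), ([], 0), ([6, 0, 3, 6, 3, 6], 1), ([], 0), ([], 0), ([], 0), ([], 0), ([], 0), ([], 0)],
  [([], 0), ([], 0), ([], 0), ([], 0), ([], 0), ([], 0), ([], 0), ([], 0), ([], 0), ([], 0)],
  [([], 0), ([], 0), ([], 0), ([], 0), ([], 0), ([], 0), ([], 0), ([], 0), ([], 0), ([], 0)],
  [([], 0), ([], 0), ([], 0), ([], 0), ([], 0), ([], 0), ([], 0), ([], 0), ([], 0), ([], 0)],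
  [([], 0), ([], 0), ([], 0), ([], 0), ([], 0), ([], 0), ([], 0), ([], 0), ([], 0), ([], 0)],
  [([], 0), ([], 0), ([], 0), ([], 0), ([], 0), ([], 0), ([], 0), ([], 0), ([], 0), ([], 0)],
  [([], 0), ([], 0), ([], 0), ([], 0), ([], 0), ([], 0), ([], 0), ([], 0), ([], 0), ([], 0)],
  [([], 0), ([], 0), ([], 0), ([], 0), ([], 0), ([], 0), ([], 0), ([6, 5, 6, 3, 0], 1), ([], 0), ([], 0)],
  [([], 0), ([], 0), ([], 0), ([], 0), ([], 0), ([], 0), ([], 0), ([], 0), ([4, 3, 0], 2), ([], 0)],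
  [([], 0), ([], 0), ([], 0), ([], 0), ([], 0), ([], 0), ([4, 5, 6, 5, 6], 1), ([], 0), ([6, 5, 6], 1), ([], 0)],
  [([], 0), ([], 0), ([], 0), ([], 0), ([4], 2), ([], 0), ([], 0), ([6, 2, 4, 5, 6, 3, 0], 1), ([], 0), ([], 0)],
  [([], 0), ([], 0), ([], 0), ([], 0), ([], 0), ([], 0), ([], 0), ([], 0), ([], 0), ([], 0)],
  [([], 0), ([], 0), ([], 0), ([], 0), ([], 0), ([], 0), ([], 0), ([], 0), ([], 0), ([], 0)],
  [([], 0), ([], 0), ([], 0), ([], 0), ([], 0), ([], 0), ([], 0), ([], 0), ([], 0), ([], 0)],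
  [([], 0), ([], 0), ([], 0), ([], 0), ([], 0), ([], 0), ([], 0), ([], 0), ([], 0), ([], 0)],
  [([4, 5, 6, 3, 6, 1, 6], 1), ([], 0), ([], 0), ([], 0), ([], 0), ([], 0), ([], 0), ([], 0), ([], 0), ([], 0)],
  [([], 0), ([], 0), ([], 0), ([], 0), ([], 0), ([], 0), ([], 0), ([], 0), ([], 0), ([6, 3, 6, 1, 6, 5], 1)],
  [([], 0), ([], 0), ([], 0), ([], 0), ([], 0), ([], 0), ([], 0), ([4, 5, 6, 6, 3, 1, 6], 1), ([], 0), ([], 0)],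
  [([], 0), ([], 0), ([], 0), ([], 0), ([], 0), ([], 0), ([], 0), ([], 0), ([6, 6, 3, 1, 6, 5], 1), ([], 0)],
  [([], 0), ([], 0), ([], 0), ([], 0), ([], 0), ([], 0), ([], 0), ([], 0), ([], 0), ([], 0)],
  [([], 0), ([], 0), ([], 0), ([], 0), ([], 0), ([], 0), ([], 0), ([], 0), ([], 0), ([], 0)],
  [([], 0), ([], 0), ([], 0), ([], 0), ([], 0), ([], 0), ([], 0), ([], 0), ([], 0), ([], 0)],
  [([], 0), ([], 0), ([], 0), ([], 0), ([], 0), ([], 0), ([], 0), ([], 0), ([], 0), ([], 0)],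
  [([], 0), ([], 0), ([], 0), ([], 0), ([], 0), ([], 0), ([6, 6, 1, 6, 3, 0], 1), ([], 0), ([1, 3, 2], 2), ([], 0)],
  [([], 0), ([], 0), ([], 0), ([], 0), ([0, 3, 6, 3, 4, 4, 6], 1), ([], 0), ([], 0), ([6, 5, 6, 0, 3, 0], 1), ([], 0), ([], 0)],
  [([], 0), ([], 0), ([], 0), ([], 0), ([], 0), ([], 0), ([], 0), ([], 0), ([], 0), ([], 0)],
  [([], 0), ([], 0), ([], 0), ([], 0), ([], 0), ([], 0), ([], 0), ([], 0), ([], 0), ([], 0)],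
  [([], 0), ([], 0), ([], 0), ([], 0), ([], 0), ([6, 6, 3, 1, 6], 1), ([], 0), ([], 0), ([], 0), ([], 0)],
  [([], 0), ([], 0), ([], 0), ([], 0), ([], 0), ([], 0), ([], 0), ([], 0), ([], 0), ([6, 6, 3, 1, 6, 2, 4], 1)],
  [([], 0), ([], 0), ([6, 6, 1, 6, 0], 1), ([], 0), ([], 0), ([], 0), ([], 0), ([], 0), ([], 0), ([6, 1, 4, 5, 6, 4, 6], 1)],
  [([], 0), ([6, 5, 6, 4, 6, 5, 6], 1), ([], 0), ([3, 4, 4], 2), ([], 0), ([], 0), ([], 0), ([], 0), ([], 0), ([], 0)],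
  [([], 0), ([], 0), ([], 0), ([], 0), ([], 0), ([], 0), ([], 0), ([], 0), ([], 0), ([], 0)],
  [([], 0), ([], 0), ([], 0), ([], 0), ([], 0), ([], 0), ([], 0), ([], 0), ([], 0), ([], 0)],
  [([], 0), ([], 0), ([], 0), ([], 0), ([], 0), ([], 0), ([], 0), ([], 0), ([], 0), ([], 0)],
  [([], 0), ([], 0), ([], 0), ([], 0), ([], 0), ([], 0), ([], 0), ([], 0), ([], 0), ([], 0)],
  [([5, 4, 3], 2), ([], 0), ([], 0), ([], 0), ([], 0), ([6, 4, 6, 2, 6, 0, 3], 1), ([], 0), ([], 0), ([], 0), ([], 0)],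
  [([], 0), ([], 0), ([0, 4, 6, 5, 6], 1), ([], 0), ([], 0), ([], 0), ([], 0), ([], 0), ([], 0), ([0, 3, 2, 6, 5, 6], 1)],
  [([], 0), ([], 0), ([], 0), ([], 0), ([], 0), ([], 0), ([6, 3, 6, 1, 6], 1), ([], 0), ([], 0), ([], 0)],
  [([], 0), ([], 0), ([], 0), ([], 0), ([], 0), ([], 0), ([], 0), ([], 0), ([6, 6, 1, 6, 4, 0, 3], 1), ([], 0)],
  [([], 0), ([], 0), ([], 0), ([], 0), ([], 0), ([], 0), ([], 0), ([], 0), ([], 0), ([], 0)],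
  [([], 0), ([], 0), ([], 0), ([], 0), ([], 0), ([], 0), ([], 0), ([], 0), ([], 0), ([], 0)],
  [([], 0), ([], 0), ([], 0), ([], 0), ([], 0), ([], 0), ([], 0), ([], 0), ([], 0), ([], 0)],
  [([], 0), ([], 0), ([], 0), ([], 0), ([], 0), ([], 0), ([], 0), ([], 0), ([], 0), ([], 0)],
  [([], 0), ([], 0), ([], 0), ([], 0), ([], 0), ([], 0), ([], 0), ([], 0), ([], 0), ([], 0)],
  [([], 0), ([], 0), ([], 0), ([], 0), ([], 0), ([], 0), ([], 0), ([], 0), ([], 0), ([], 0)],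
  [([], 0), ([], 0), ([], 0), ([], 0), ([], 0), ([], 0), ([], 0), ([], 0), ([], 0), ([], 0)],
  [([], 0), ([], 0), ([], 0), ([], 0), ([], 0), ([], 0), ([], 0), ([], 0), ([], 0), ([], 0)],
  [([], 0), ([], 0), ([], 0), ([], 0), ([], 0), ([], 0), ([], 0), ([], 0), ([], 0), ([], 0)],
  [([], 0), ([], 0), ([], 0), ([], 0), ([], 0), ([], 0), ([], 0), ([], 0), ([], 0), ([], 0)],
  [([], 0), ([], 0), ([], 0), ([], 0), ([], 0), ([], 0), ([], 0), ([], 0), ([], 0), ([], 0)],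
  [([], 0), ([], 0), ([], 0), ([], 0), ([], 0), ([], 0), ([], 0), ([], 0), ([], 0), ([], 0)],
  [([], 0), ([], 0), ([], 0), ([], 0), ([], 0), ([], 0), ([], 0), ([], 0), ([], 0), ([], 0)],
  [([], 0), ([], 0), ([], 0), ([], 0), ([], 0), ([], 0), ([], 0), ([], 0), ([], 0), ([], 0)],
  [([], 0), ([], 0), ([], 0), ([], 0), ([], 0), ([], 0), ([], 0), ([], 0), ([], 0), ([], 0)],
  [([], 0), ([], 0), ([], 0), ([], 0), ([], 0), ([], 0), ([], 0), ([], 0), ([], 0), ([], 0)],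
  [([], 0), ([], 0), ([], 0), ([], 0), ([], 0), ([], 0), ([], 0), ([], 0), ([], 0), ([], 0)],
  [([], 0), ([], 0), ([], 0), ([], 0), ([], 0), ([], 0), ([], 0), ([], 0), ([], 0), ([], 0)],
  [([], 0), ([], 0), ([], 0), ([], 0), ([], 0), ([], 0), ([], 0), ([], 0), ([], 0), ([], 0)],
  [([], 0), ([], 0), ([], 0), ([], 0), ([], 0), ([], 0), ([], 0), ([], 0), ([], 0), ([], 0)],
  [([], 0), ([], 0), ([], 0), ([], 0), ([], 0), ([], 0), ([], 0), ([], 0), ([], 0), ([], 0)],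
  [([], 0), ([], 0), ([], 0), ([], 0), ([], 0), ([], 0), ([], 0), ([], 0), ([], 0), ([], 0)],
  [([], 0), ([], 0), ([], 0), ([], 0), ([], 0), ([], 0), ([], 0), ([], 0), ([], 0), ([], 0)],
  [([], 0), ([], 0), ([], 0), ([], 0), ([], 0), ([], 0), ([], 0), ([], 0), ([], 0), ([], 0)],
  [([], 0), ([], 0), ([], 0), ([], 0), ([], 0), ([], 0), ([], 0), ([], 0), ([], 0), ([], 0)],
  [([], 0), ([], 0), ([], 0), ([], 0), ([], 0), ([], 0), ([], 0), ([], 0), ([], 0), ([], 0)],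
  [([], 0), ([], 0), ([], 0), ([], 0), ([], 0), ([], 0), ([], 0), ([], 0), ([], 0), ([], 0)],
  [([], 0), ([], 0), ([], 0), ([], 0), ([], 0), ([], 0), ([], 0), ([], 0), ([], 0), ([], 0)],
  [([], 0), ([], 0), ([], 0), ([], 0), ([], 0), ([], 0), ([], 0), ([], 0), ([], 0), ([], 0)],
  [([], 0), ([], 0), ([], 0), ([], 0), ([], 0), ([], 0), ([], 0), ([], 0), ([], 0), ([], 0)],
  [([], 0), ([], 0), ([], 0), ([], 0), ([], 0), ([], 0), ([], 0), ([], 0), ([], 0), ([], 0)],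
  [([], 0), ([], 0), ([], 0), ([], 0), ([], 0), ([], 0), ([], 0), ([], 0), ([], 0), ([], 0)],
  [([], 0), ([], 0), ([], 0), ([], 0), ([], 0), ([], 0), ([], 0), ([], 0), ([], 0), ([], 0)],
  [([], 0), ([], 0), ([], 0), ([], 0), ([], 0), ([], 0), ([], 0), ([], 0), ([], 0), ([], 0)],
  [([], 0), ([], 0), ([], 0), ([], 0), ([], 0), ([], 0), ([], 0), ([], 0), ([], 0), ([], 0)],
  [([], 0), ([], 0), ([], 0), ([], 0), ([], 0), ([], 0), ([], 0), ([], 0), ([], 0), ([], 0)],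
  [([], 0), ([], 0), ([], 0), ([], 0), ([], 0), ([], 0), ([], 0), ([], 0), ([], 0), ([], 0)],
  [([], 0), ([], 0), ([], 0), ([], 0), ([], 0), ([], 0), ([], 0), ([], 0), ([], 0), ([], 0)],
  [([], 0), ([], 0), ([], 0), ([], 0), ([], 0), ([], 0), ([], 0), ([], 0), ([], 0), ([], 0)],
  [([], 0), ([], 0), ([], 0), ([], 0), ([], 0), ([], 0), ([], 0), ([], 0), ([], 0), ([], 0)],
  [([], 0), ([], 0), ([], 0), ([], 0), ([], 0), ([], 0), ([], 0), ([], 0), ([], 0), ([], 0)],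
  [([], 0), ([], 0), ([], 0), ([], 0), ([], 0), ([], 0), ([], 0), ([], 0), ([], 0), ([], 0)],
  [([], 0), ([], 0), ([], 0), ([], 0), ([], 0), ([], 0), ([], 0), ([], 0), ([], 0), ([], 0)],
  [([], 0), ([], 0), ([], 0), ([], 0), ([], 0), ([], 0), ([], 0), ([], 0), ([], 0), ([], 0)],
  [([], 0), ([], 0), ([], 0), ([], 0), ([], 0), ([], 0), ([], 0), ([], 0), ([], 0), ([], 0)],
  [([], 0), ([], 0), ([], 0), ([], 0), ([], 0), ([], 0), ([], 0), ([], 0), ([], 0), ([], 0)],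
  [([], 0), ([], 0), ([], 0), ([], 0), ([], 0), ([], 0), ([], 0), ([], 0), ([], 0), ([], 0)],
  [([], 0), ([], 0), ([], 0), ([], 0), ([], 0), ([], 0), ([], 0), ([], 0), ([], 0), ([], 0)],
  [([], 0), ([], 0), ([], 0), ([], 0), ([], 0), ([], 0), ([], 0), ([], 0), ([], 0), ([], 0)],
  [([], 0), ([], 0), ([], 0), ([], 0), ([], 0), ([], 0), ([], 0), ([], 0), ([], 0), ([], 0)],
  [([], 0), ([], 0), ([], 0), ([], 0), ([], 0), ([], 0), ([], 0), ([], 0), ([], 0), ([], 0)],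
  [([], 0), ([], 0), ([], 0), ([], 0), ([], 0), ([], 0), ([], 0), ([], 0), ([], 0), ([], 0)],
  [([], 0), ([], 0), ([], 0), ([], 0), ([], 0), ([], 0), ([], 0), ([], 0), ([], 0), ([], 0)],
  [([], 0), ([], 0), ([], 0), ([], 0), ([], 0), ([], 0), ([], 0), ([], 0), ([], 0), ([], 0)],
  [([], 0), ([], 0), ([], 0), ([], 0), ([], 0), ([], 0), ([], 0), ([], 0), ([], 0), ([], 0)],
  [([], 0), ([], 0), ([], 0), ([], 0), ([], 0), ([], 0), ([], 0), ([], 0), ([], 0), ([], 0)],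
  [([], 0), ([], 0), ([], 0), ([], 0), ([], 0), ([], 0), ([], 0), ([], 0), ([], 0), ([], 0)],
  [([], 0), ([], 0), ([], 0), ([], 0), ([], 0), ([], 0), ([], 0), ([], 0), ([], 0), ([], 0)],
  [([], 0), ([], 0), ([], 0), ([], 0), ([], 0), ([], 0), ([], 0), ([], 0), ([], 0), ([], 0)],
  [([], 0), ([], 0), ([], 0), ([], 0), ([], 0), ([], 0), ([], 0), ([], 0), ([], 0), ([], 0)],
  [([], 0), ([], 0), ([], 0), ([], 0), ([], 0), ([], 0), ([], 0), ([], 0), ([], 0), ([], 0)],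
  [([], 0), ([], 0), ([], 0), ([], 0), ([], 0), ([], 0), ([], 0), ([], 0), ([], 0), ([], 0)],
  [([], 0), ([], 0), ([], 0), ([], 0), ([], 0), ([], 0), ([], 0), ([], 0), ([], 0), ([], 0)],
  [([], 0), ([], 0), ([], 0), ([], 0), ([], 0), ([], 0), ([], 0), ([], 0), ([], 0), ([], 0)],
  [([], 0), ([], 0), ([], 0), ([], 0), ([], 0), ([], 0), ([], 0), ([], 0), ([], 0), ([], 0)],
  [([], 0), ([], 0), ([], 0), ([], 0), ([], 0), ([], 0), ([], 0), ([], 0), ([], 0), ([], 0)]]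

/-- representative with 27 fixed points -/
def r1 : List ℕ := [3, 1, 3, 1]

/-- representative with 91 fixed points -/
def r2 : List ℕ := [0]

/-- the orbit mask is contained in the list -/
def maskOK (orbM : ℕ) (O : List ℕ) : Bool := (List.range 1755).all fun δ => !orbM.testBit δ || O.contains δ

/-- the transversal words have letters `< k` and map `β` to the orbit points -/
def wordsOK (k β : ℕ) (O : List ℕ) (Wd : List (List ℕ)) : Bool :=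
  (List.range O.length).all fun i => lettersLt k (Wd.getD i []) && (appWord 12 4095 csT (Wd.getD i []) β == O.getD i 0)

theorem maskOK1 : maskOK orbMT1 O1 = true := by decide +kernel
theorem maskOK2 : maskOK orbMT2 O2 = true := by decide +kernel
theorem maskOK3 : maskOK orbMT3 O3 = true := by decide +kernel
theorem wordsOK1 : wordsOK 5 731 O1 VW1 = true := by decide +kernel
theorem wordsOK2 : wordsOK 3 1 O2 VW2 = true := by decide +kernel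
theorem wordsOK3 : wordsOK 1 3 O3 VW3 = true := by decide +kernel
theorem O1_length : O1.length = 1024 := by decide +kernel
theorem O2_length : O2.length = 5 := by decide +kernel
theorem O3_length : O3.length = 2 := by decide +kernel

/-- the word of the element `(i, k)` of the point stabiliser -/
def stabWord (i k : ℕ) : List ℕ := VW1.getD i [] ++ VW2.getD (k / 2) [] ++ VW3.getD (k % 2) []

/-- the entry `(i, k)`: if the element is an involution, its conjugating word works -/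
def entryOK (i k : ℕ) : Bool :=
  lettersLt 7 (stabWord i k) &&
  (!(eqOn 12 4095 B csT (stabWord i k ++ stabWord i k) []) || eqOn 12 4095 B csT (stabWord i k) [] ||
   (lettersLt 7 ((CT.getD i []).getD k ([], 0)).1 &&
    ((((CT.getD i []).getD k ([], 0)).2 == 1 &&
        eqOn 12 4095 B csT (((CT.getD i []).getD k ([], 0)).1 ++ stabWord i k) (r1 ++ ((CT.getD i []).getD k ([], 0)).1)) ||
     (((CT.getD i []).getD k ([], 0)).2 == 2 &&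
        eqOn 12 4095 B csT (((CT.getD i []).getD k ([], 0)).1 ++ stabWord i k) (r2 ++ ((CT.getD i []).getD k ([], 0)).1)))))

theorem allOK : (List.range 1024).all (fun i => (List.range 10).all (fun k => entryOK i k)) = true := by decide +kernel

theorem r1_sq_ok : eqOn 12 4095 B csT (r1 ++ r1) [] = true := by decide +kernel
theorem r2_sq_ok : eqOn 12 4095 B csT (r2 ++ r2) [] = true := by decide +kernel
theorem mov1 : (List.range 1755).countP (fun x => appWord 12 4095 csT r1 x != x) = 1728 := by decide +kernel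
theorem mov2 : (List.range 1755).countP (fun x => appWord 12 4095 csT r2 x != x) = 1664 := by decide +kernel

end Cfsg.Agent.Helper56.Tits
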