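import Cfsg.Agent.Helper56.TiInvCls
import Cfsg.Agent.Helper56.TiSimple
import Cfsg.Agent.Helper56.CommIdx
import Cfsg.Agent.S1074

/-!
# The Tits group `²F₄(2)′` has exactly two classes of involutions

Transport of `classes_T0` along `TitsGroup = commutator ²F₄(2) = TS ≃* TG ≃* T0`.
-/

set_option autoImplicit false

namespace Cfsg.Agent.Helper56

/-- a simple subgroup of non-prime order `n` in a group of order `2 * n` is the commutator subgroup -/
theorem commutator_eq_of_card {G : Type*} [Group G] (T : Subgroup G) (hT : IsSimpleGroup T) (n : ℕ)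
    (hcard : Nat.card T = n) (hn : ¬ n.Prime) (hn0 : n ≠ 0) (hG : Nat.card G = 2 * n) :
    commutator G = T := by
  have hidx : T.index = 2 := by
    have h := T.card_mul_index
    rw [hcard, hG, mul_comm 2 n] at h
    exact Nat.eq_of_mul_eq_mul_left (Nat.pos_of_ne_zero hn0) h
  exact commutator_eq_of_simple_index_two T hT (not_commutative_of_simple_card hT hcard hn) hidx

/-- transport of the number of classes of involutions along an equality of subgroups -/
theorem ncard_classes_of_eq {G : Type*} [Group G] (S T : Subgroup G) (h : S = T) :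
    (ConjClasses.mk '' {g : ↥S | orderOf g = 2}).ncard = (ConjClasses.mk '' {g : ↥T | orderOf g = 2}).ncard := by
  subst h
  rfl

end Cfsg.Agent.Helper56

namespace Cfsg.Agent.Helper56.Tits

open Cfsg Cfsg.Lie Cfsg.Agent.Helper56

theorem commutator_eq_TS : commutator ↥(twistedF4 (ZMod 2) 1) = TS :=
  commutator_eq_of_card TS simple_TS _ card_TS (by norm_num) (by norm_num) Cfsg.Agent.S1074.card_twisted

theorem eqTG : (ConjClasses.mk '' {g : ↥TG | orderOf g = 2}).ncard =
    (ConjClasses.mk '' {h : ↥T0 | orderOf h = 2}).ncard :=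
  ncard_invol_classes_congr equivTG

theorem classes_TG : (ConjClasses.mk '' {g : ↥TG | orderOf g = 2}).ncard = 2 := by
  rw [eqTG]; exact classes_T0

theorem eqTS : (ConjClasses.mk '' {g : ↥TS | orderOf g = 2}).ncard =
    (ConjClasses.mk '' {h : ↥TG | orderOf h = 2}).ncard :=
  ncard_invol_classes_congr equivTS

theorem classes_TS : (ConjClasses.mk '' {g : ↥TS | orderOf g = 2}).ncard = 2 := by
  rw [eqTS]; exact classes_TG

theorem eqComm : (ConjClasses.mk '' {g : ↥(commutator ↥(twistedF4 (ZMod 2) 1)) | orderOf g = 2}).ncard =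
    (ConjClasses.mk '' {h : ↥TS | orderOf h = 2}).ncard :=
  ncard_classes_of_eq _ TS commutator_eq_TS

/-- the Tits group has exactly two conjugacy classes of involutions -/
theorem two_classes : (ConjClasses.mk '' {g : Cfsg.Lie.TitsGroup | orderOf g = 2}).ncard = 2 := by
  show (ConjClasses.mk '' {g : ↥(commutator ↥(twistedF4 (ZMod 2) 1)) | orderOf g = 2}).ncard = 2
  rw [eqComm]; exact classes_TS

end Cfsg.Agent.Helper56.Tits
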