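import Cfsg.Agent.Helper56.TiLinData

set_option autoImplicit false
set_option maxRecDepth 1000000

namespace Cfsg.Agent.Helper56.Tits

open Cfsg.Lie Cfsg.Agent.Helper56.PermW Cfsg.Agent.Helper56 Cfsg.Agent.Helper56.BitMat

theorem act2 : ((List.range 1755).all fun k => Nat.beq (applyCols colsT2 (dig 52 (2 ^ 52 - 1) omegaP k)) (dig 52 (2 ^ 52 - 1) omegaP (dig 12 4095 cB k))) = true := by decide +kernel

end Cfsg.Agent.Helper56.Tits
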