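import Cfsg.Agent.Helper56.TiLinData

set_option autoImplicit false
set_option maxRecDepth 1000000

namespace Cfsg.Agent.Helper56.Tits

open Cfsg.Lie Cfsg.Agent.Helper56.PermW Cfsg.Agent.Helper56 Cfsg.Agent.Helper56.BitMat

theorem omega_incr : strictIncr omega = true := by decide +kernel

theorem omega_lt : (omega.all fun x => Nat.ble (x + 1) (2 ^ 52)) = true := by decide +kernel

end Cfsg.Agent.Helper56.Tits
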