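import Cfsg.Agent.Helper56.TiLinData

set_option autoImplicit false
set_option maxRecDepth 1000000

namespace Cfsg.Agent.Helper56.Tits

open Cfsg.Lie Cfsg.Agent.Helper56.PermW Cfsg.Agent.Helper56 Cfsg.Agent.Helper56.BitMat

theorem span_ok : ((List.range 52).all fun j => (spanL.getD j []).all (fun k => Nat.ble (k + 1) 1755) && Nat.beq (xorFold omega (spanL.getD j [])) (2 ^ j)) = true := by decide +kernel

end Cfsg.Agent.Helper56.Tits
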