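import Cfsg.Agent.Helper56.TiLinData

set_option autoImplicit false
set_option maxRecDepth 1000000

namespace Cfsg.Agent.Helper56.Tits

open Cfsg.Lie Cfsg.Agent.Helper56.PermW Cfsg.Agent.Helper56 Cfsg.Agent.Helper56.BitMat

theorem t1_eq : prodCols 52 (W1.map colsG) = colsT1 := by decide +kernel

theorem t2_eq : prodCols 52 (W2.map colsG) = colsT2 := by decide +kernel

end Cfsg.Agent.Helper56.Tits
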