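import Cfsg.Agent.Helper56.TiChain
import Cfsg.Agent.Helper56.SimpleCrit2

/-!
# The Tits group on 1755 points: order and simplicity
-/

set_option autoImplicit false
set_option maxRecDepth 1000000

namespace Cfsg.Agent.Helper56.Tits

open Cfsg.Agent.Helper56 Cfsg.Agent.Helper56.PermW

/-- the base point -/
abbrev pt0 : Fin 1755 := ⟨0, by norm_num⟩

theorem card_filter_fin (n : ℕ) (p : ℕ → Bool) :
    (Finset.univ.filter (fun δ : Fin n => p δ.val = true)).card = (List.range n).countP p := by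
  rw [← Finset.card_map Fin.valEmbedding, List.countP_eq_length_filter,
    ← List.toFinset_card_of_nodup (List.nodup_range.filter _)]
  congr 1
  ext x
  simp only [Finset.mem_map, Finset.mem_filter, Finset.mem_univ, true_and, Fin.valEmbedding_apply,
    List.mem_toFinset, List.mem_filter, List.mem_range]
  constructor
  · rintro ⟨δ, hδ, rfl⟩; exact ⟨δ.isLt, hδ⟩
  · rintro ⟨hx, hb⟩; exact ⟨⟨x, hx⟩, hb, rfl⟩

theorem closure_pair_top {G : Type*} [Group G] (H : Subgroup G) (a b : G) (hH : H = Subgroup.closure {a, b})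
    (ha : a ∈ H) (hb : b ∈ H) : Subgroup.closure ({⟨a, ha⟩, ⟨b, hb⟩} : Set H) = ⊤ := by
  subst hH
  have h : Subgroup.closure ((Subtype.val : Subgroup.closure {a, b} → G) ⁻¹' {a, b}) = ⊤ :=
    Subgroup.closure_closure_coe_preimage
  have hset : ((Subtype.val : Subgroup.closure {a, b} → G) ⁻¹' {a, b}) =
      ({⟨a, ha⟩, ⟨b, hb⟩} : Set (Subgroup.closure {a, b})) := by
    ext ⟨g, hg⟩
    simp only [Set.mem_insert_iff, Set.mem_singleton_iff, Set.mem_preimage, Subtype.mk.injEq]
  rw [← hset]; exact h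

theorem wprod_rep {gen : ℕ → Equiv.Perm (Fin 1755)} (l : List ℕ) (k : ℕ) :
    wprod gen (List.replicate k l).flatten = wprod gen l ^ k := by
  induction k with
  | zero => simp [wprod_nil]
  | succ k ih => rw [List.replicate_succ, List.flatten_cons, wprod_append, ih, pow_succ']

theorem ltT {l : List ℕ} (h : lettersLt 7 l = true) : ∀ j ∈ l, j < csT.length := by
  rw [csT_length]; exact lettersLt_spec h

/-- the Tits group as a permutation group on 1755 points -/
def T0 : Subgroup (Equiv.Perm (Fin 1755)) := Subgroup.closure {genT 5, genT 6}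

theorem T0_eq : T0 = genGroup genT 7 := by
  rw [genGroup_eq_closure_Ico genT hHKT0]
  unfold T0
  congr 1
  ext g
  simp only [Set.mem_insert_iff, Set.mem_singleton_iff, Set.mem_image, Set.mem_Ico]
  constructor
  · rintro (rfl | rfl)
    · exact ⟨5, by norm_num, rfl⟩
    · exact ⟨6, by norm_num, rfl⟩
  · rintro ⟨j, ⟨h1, h2⟩, rfl⟩
    have : j = 5 ∨ j = 6 := by omega
    rcases this with rfl | rfl
    · left; rfl
    · right; rfl

theorem card_T0 : Nat.card T0 = 17971200 := by rw [T0_eq]; exact cardT0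

theorem genT_mem_T0 (j : ℕ) (hj : j < 7) : genT j ∈ T0 := by
  rw [T0_eq]; exact Subgroup.subset_closure ⟨j, hj, rfl⟩

theorem le_T0 : genGroup genT 5 ≤ T0 := by
  rw [T0_eq]; exact genGroup_mono genT (by norm_num)

theorem fixT5 : ∀ h ∈ genGroup genT 5, h pt0 = pt0 := by
  intro h hh
  have h1 := lvlT0.1
  rw [← h1] at hh
  exact hh.2

theorem all_orbT0 (x : ℕ) (hx : x < 1755) : orbMT0.testBit x = true := by
  have h := cntT0
  have hl : (List.range 1755).countP (fun x => orbMT0.testBit x) = (List.range 1755).length := by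
    rw [h, List.length_range]
  rw [List.countP_eq_length] at hl
  exact hl x (List.mem_range.mpr hx)

theorem transT (δ : Fin 1755) : ∃ g ∈ T0, g pt0 = δ := by
  have h1 := lvlT0.2.2 δ
  rw [T0_eq]
  exact h1.mp (all_orbT0 δ.val δ.isLt)

theorem t_sq : genT 5 ^ 2 = 1 := by
  have h := eqOn_sound validT rigid genT_aut (w1 := [5, 5]) (w2 := []) (ltT (by decide))
    (ltT (by decide)) idT_a2
  rw [wprod_cons, wprod_cons, wprod_nil, mul_one] at h
  rw [pow_two]; exact h

theorem t_cube : genT 6 ^ 3 = 1 := by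
  have h := eqOn_sound validT rigid genT_aut (w1 := [6, 6, 6]) (w2 := []) (ltT (by decide))
    (ltT (by decide)) idT_b3
  rw [wprod_cons, wprod_cons, wprod_cons, wprod_nil, mul_one] at h
  rw [pow_succ, pow_two, mul_assoc]; exact h

theorem t_pow13 : (genT 5 * genT 6) ^ 13 = 1 := by
  have h := eqOn_sound validT rigid genT_aut
    (w1 := [5, 6, 5, 6, 5, 6, 5, 6, 5, 6, 5, 6, 5, 6, 5, 6, 5, 6, 5, 6, 5, 6, 5, 6, 5, 6])
    (w2 := []) (ltT (by decide)) (ltT (by decide)) idT_abp
  have e : ([5, 6, 5, 6, 5, 6, 5, 6, 5, 6, 5, 6, 5, 6, 5, 6, 5, 6, 5, 6, 5, 6, 5, 6, 5, 6] : List ℕ) =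
      (List.replicate 13 [5, 6]).flatten := by decide
  rw [e, wprod_rep, wprod_nil, wprod_cons, wprod_cons, wprod_nil, mul_one] at h
  exact h

/-- the suborbits -/
def DlT (i : Fin 4) : Finset (Fin 1755) :=
  Finset.univ.filter fun δ : Fin 1755 => (dig 4 15 clsPT δ.val == i.val + 1) = true

theorem mem_DlT (i : Fin 4) (δ : Fin 1755) : δ ∈ DlT i ↔ dig 4 15 clsPT δ.val = i.val + 1 := by
  unfold DlT
  rw [Finset.mem_filter, beq_iff_eq]
  simp

theorem card_DlT (i : Fin 4) : (DlT i).card = sizesT.getD i.val 0 := by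
  unfold DlT
  rw [card_filter_fin 1755 (fun x => dig 4 15 clsPT x == i.val + 1)]
  have h := clscntT
  rw [List.all_eq_true] at h
  exact beq_iff_eq.mp (h i.val (List.mem_range.mpr i.isLt))

theorem repsT_length : repsT.length = 4 := rfl

theorem cls_specT (x : Fin 1755) (hx : x ≠ pt0) :
    ∃ i : Fin 4, x ∈ DlT i ∧ ∃ hr : repsT.getD i.val 0 < 1755, ∃ g ∈ genGroup genT 5,
      g ⟨repsT.getD i.val 0, hr⟩ = x := by
  have hx' : x.val ≠ 0 := fun h => hx (Fin.ext h)
  obtain ⟨i, hi, hd, hr, g, hg, hgx⟩ := clsCheck_sound validT cls_okT x hx'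
  rw [repsT_length] at hi
  exact ⟨⟨i, hi⟩, (mem_DlT _ _).mpr hd, hr, g, hg, hgx⟩

theorem harithT : ∀ I : Finset (Fin 4), (1 + ∑ i ∈ I, sizesT.getD i.val 0) ∣ 1755 →
    I = ∅ ∨ I = Finset.univ := by decide

theorem simple_T0 : IsSimpleGroup T0 := by
  have hcard : Nat.card T0 = 17971200 := card_T0
  have hnt : Nontrivial T0 := by
    rw [← Finite.one_lt_card_iff_nontrivial, hcard]; norm_num
  refine { exists_pair_ne := hnt.exists_pair_ne, eq_bot_or_eq_top_of_normal := ?_ }
  intro N hN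
  by_cases hNbot : N = ⊥
  · left; exact hNbot
  right
  have ha : genT 5 ∈ T0 := genT_mem_T0 5 (by norm_num)
  have hb : genT 6 ∈ T0 := genT_mem_T0 6 (by norm_num)
  have hgen : Subgroup.closure ({⟨genT 5, ha⟩, ⟨genT 6, hb⟩} : Set T0) = ⊤ :=
    closure_pair_top T0 (genT 5) (genT 6) rfl ha hb
  have h0 : dig 4 15 clsPT (pt0 : Fin 1755).val = 0 := cls0T
  have htrN : MulAction.orbit N pt0 = Set.univ := by
    refine normal_transitive_of_suborbits (G := T0) (X := Fin 1755) pt0 ?_ DlT ?_ ?_ ?_ ?_ ?_ N hNbot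
    · intro δ
      obtain ⟨g, hg, hgδ⟩ := transT δ
      exact ⟨⟨g, hg⟩, hgδ⟩
    · intro δ
      by_cases hδ : δ = pt0
      · left; exact hδ
      · right
        obtain ⟨i, hi, _⟩ := cls_specT δ hδ
        exact ⟨i, hi⟩
    · intro i hmem
      rw [mem_DlT, h0] at hmem
      omega
    · intro i j hij
      rw [Finset.disjoint_left]
      intro δ h1 h2
      rw [mem_DlT] at h1 h2
      apply hij
      apply Fin.ext
      omega
    · intro i δ hδ δ' hδ'
      have hne : ∀ ε : Fin 1755, ε ∈ DlT i → ε ≠ pt0 := by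
        intro ε hε he
        rw [he, mem_DlT, h0] at hε
        omega
      obtain ⟨i1, hi1, hr1, g1, hg1, hgx1⟩ := cls_specT δ (hne δ hδ)
      obtain ⟨i2, hi2, hr2, g2, hg2, hgx2⟩ := cls_specT δ' (hne δ' hδ')
      have e1 : i1 = i := by
        rw [mem_DlT] at hi1 hδ
        apply Fin.ext; omega
      have e2 : i2 = i := by
        rw [mem_DlT] at hi2 hδ'
        apply Fin.ext; omega
      subst e1
      subst e2
      refine ⟨⟨g2 * g1⁻¹, le_T0 (Subgroup.mul_mem _ hg2 (Subgroup.inv_mem _ hg1))⟩, ?_, ?_⟩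
      · show (g2 * g1⁻¹) pt0 = pt0
        exact fixT5 _ (Subgroup.mul_mem _ hg2 (Subgroup.inv_mem _ hg1))
      · show (g2 * g1⁻¹) δ = δ'
        rw [← hgx1, ← hgx2]
        simp
    · intro I hI
      apply harithT I
      rw [Fintype.card_fin] at hI
      have : ∑ i ∈ I, (DlT i).card = ∑ i ∈ I, sizesT.getD i.val 0 :=
        Finset.sum_congr rfl (fun i _ => card_DlT i)
      rw [← this]; exact hI
  have habN : (⟨genT 5, ha⟩ * ⟨genT 6, hb⟩ : T0) ∈ N := by
    refine mem_normal_of_coprime (G := T0) (X := Fin 1755) pt0 N htrN _ 13 ?_ ?_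
    · apply Subtype.ext
      exact t_pow13
    · rw [hcard, Fintype.card_fin]; norm_num
  exact normal_eq_top_of_triangle (⟨genT 5, ha⟩ : T0) ⟨genT 6, hb⟩ hgen (Subtype.ext t_sq)
    (Subtype.ext t_cube) N habN

end Cfsg.Agent.Helper56.Tits
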