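import Cfsg.Agent.Helper56.TiRootsDef

set_option autoImplicit false
set_option maxRecDepth 1000000

namespace Cfsg.Agent.Helper56.Tits

open Cfsg.Lie Cfsg.Agent.Helper56 Cfsg.Agent.Helper56.BitMat

theorem xR28 : chevF4.xMat (ZMod 2) ⟨28, lt28⟩ 1 = MC colsR28 := by decide +kernel

theorem xR30 : chevF4.xMat (ZMod 2) ⟨30, lt30⟩ 1 = MC colsR30 := by decide +kernel

theorem xR19 : chevF4.xMat (ZMod 2) ⟨19, lt19⟩ 1 = MC colsR19 := by decide +kernel

theorem xR17 : chevF4.xMat (ZMod 2) ⟨17, lt17⟩ 1 = MC colsR17 := by decide +kernel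

end Cfsg.Agent.Helper56.Tits
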