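import Cfsg.Agent.Helper56.TiRootsDef

set_option autoImplicit false
set_option maxRecDepth 1000000

namespace Cfsg.Agent.Helper56.Tits

open Cfsg.Lie Cfsg.Agent.Helper56 Cfsg.Agent.Helper56.BitMat

theorem xR33 : chevF4.xMat (ZMod 2) ⟨33, lt33⟩ 1 = MC colsR33 := by decide +kernel

theorem xR24 : chevF4.xMat (ZMod 2) ⟨24, lt24⟩ 1 = MC colsR24 := by decide +kernel

theorem xR14 : chevF4.xMat (ZMod 2) ⟨14, lt14⟩ 1 = MC colsR14 := by decide +kernel

theorem xR23 : chevF4.xMat (ZMod 2) ⟨23, lt23⟩ 1 = MC colsR23 := by decide +kernel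

end Cfsg.Agent.Helper56.Tits
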