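import Cfsg.Agent.Helper56.TiRootsDef

set_option autoImplicit false
set_option maxRecDepth 1000000

namespace Cfsg.Agent.Helper56.Tits

open Cfsg.Lie Cfsg.Agent.Helper56 Cfsg.Agent.Helper56.BitMat

theorem xZ27 : chevF4.xMat (ZMod 2) ⟨27, lt27⟩ 0 = 1 := by decide +kernel

theorem xZ25 : chevF4.xMat (ZMod 2) ⟨25, lt25⟩ 0 = 1 := by decide +kernel

theorem xZ20 : chevF4.xMat (ZMod 2) ⟨20, lt20⟩ 0 = 1 := by decide +kernel

theorem xZ22 : chevF4.xMat (ZMod 2) ⟨22, lt22⟩ 0 = 1 := by decide +kernel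

end Cfsg.Agent.Helper56.Tits
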