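import Cfsg.Agent.Helper56.TiLinData
import Cfsg.Agent.Helper56.TiLinT
import Cfsg.Agent.Helper56.TiLinO
import Cfsg.Agent.Helper56.TiLinA1
import Cfsg.Agent.Helper56.TiLinA2
import Cfsg.Agent.Helper56.TiLinS
import Cfsg.Agent.Helper56.TiRoots0
import Cfsg.Agent.Helper56.TiRoots1
import Cfsg.Agent.Helper56.TiRoots2
import Cfsg.Agent.Helper56.TiMain

/-!
# The Tits group inside `²F₄(2)` (as defined in the Prelude): a simple subgroup of order 17971200
-/

set_option autoImplicit false
set_option maxRecDepth 1000000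

namespace Cfsg.Agent.Helper56.Tits

open Cfsg Cfsg.Lie Cfsg.Agent.Helper56 Cfsg.Agent.Helper56.BitMat Cfsg.Agent.Helper56.PermW

/-- the ambient general linear group -/
abbrev GLF : Type := GL chevF4.Idx (ZMod 2)

theorem rank_add : chevF4.rank + chevF4.nroots = 52 := by decide

theorem len_of {l : List ℕ} (h : l.length = 52) : l.length = chevF4.rank + chevF4.nroots :=
  h.trans rank_add.symm

theorem lens_spec : ∀ l ∈ [colsR28, colsR30, colsR19, colsR17, colsR33, colsR24, colsR14, colsR23,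
    colsG0, colsG1, colsG2, colsG3, colsT1, colsT2], l.length = 52 := by
  intro l hl
  have h := lens_ok
  rw [List.all_eq_true] at h
  exact beq_iff_eq.mp (h l hl)

theorem mc_mul (A B : List ℕ) (hA : A.length = 52) : MC A * MC B = MC (mulCols A B) :=
  matOf_mul A B (len_of hA)

theorem mc_id : MC (idCols 52) = 1 := by
  have h := matOf_idCols (a := chevF4.rank) (b := chevF4.nroots)
  rw [rank_add] at h
  exact h

theorem x_eq (r : ℕ) (h : r < chevF4.nroots) (t : ZMod 2) :
    chevF4.x (ZMod 2) r t = chevF4.xMat (ZMod 2) ⟨r, h⟩ t := by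
  unfold ChevalleyDatum.x
  rw [dif_pos h]

theorem pow_facts : ((0 : ZMod 2) ^ 1 = 0) ∧ ((0 : ZMod 2) ^ (1 + 1) + 1 = 1) ∧
    ((1 : ZMod 2) ^ (2 * 1) = 1) ∧ ((1 : ZMod 2) ^ 1 = 1) := by decide

theorem word0 : chevF4.wordMat (ZMod 2) (b2ClassWord 1 f4a f4b f4ab f4aab (0 : ZMod 2) 1) = MC colsG0 := by
  obtain ⟨e1, e2, e3, _⟩ := pow_facts
  unfold ChevalleyDatum.wordMat b2ClassWord
  simp only [List.map_cons, List.map_nil, List.prod_cons, List.prod_nil, mul_one, e1, e2, e3]
  rw [show f4a = 27 from rfl, show f4b = 25 from rfl, show f4ab = 28 from rfl, show f4aab = 30 from rfl,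
    x_eq 27 lt27, x_eq 25 lt25, x_eq 28 lt28, x_eq 30 lt30, xZ27, xZ25, xR28, xR30, one_mul, one_mul,
    mc_mul _ _ (lens_spec _ (by simp)), g0_eq]

theorem word1 : chevF4.wordMat (ZMod 2) (b2ClassWord 1 f4ma f4mb f4mab f4maab (0 : ZMod 2) 1) = MC colsG1 := by
  obtain ⟨e1, e2, e3, _⟩ := pow_facts
  unfold ChevalleyDatum.wordMat b2ClassWord
  simp only [List.map_cons, List.map_nil, List.prod_cons, List.prod_nil, mul_one, e1, e2, e3]
  rw [show f4ma = 20 from rfl, show f4mb = 22 from rfl, show f4mab = 19 from rfl, show f4maab = 17 from rfl,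
    x_eq 20 lt20, x_eq 22 lt22, x_eq 19 lt19, x_eq 17 lt17, xZ20, xZ22, xR19, xR17, one_mul, one_mul,
    mc_mul _ _ (lens_spec _ (by simp)), g1_eq]

theorem word2 : chevF4.wordMat (ZMod 2) (f4PairWord 1 f4p1 f4p4 (1 : ZMod 2)) = MC colsG2 := by
  obtain ⟨_, _, _, e4⟩ := pow_facts
  unfold ChevalleyDatum.wordMat f4PairWord
  simp only [List.map_cons, List.map_nil, List.prod_cons, List.prod_nil, mul_one, e4]
  rw [show f4p1 = 33 from rfl, show f4p4 = 24 from rfl, x_eq 33 lt33, x_eq 24 lt24, xR33, xR24,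
    mc_mul _ _ (lens_spec _ (by simp)), g2_eq]

theorem word3 : chevF4.wordMat (ZMod 2) (f4PairWord 1 f4m1 f4m4 (1 : ZMod 2)) = MC colsG3 := by
  obtain ⟨_, _, _, e4⟩ := pow_facts
  unfold ChevalleyDatum.wordMat f4PairWord
  simp only [List.map_cons, List.map_nil, List.prod_cons, List.prod_nil, mul_one, e4]
  rw [show f4m1 = 14 from rfl, show f4m4 = 23 from rfl, x_eq 14 lt14, x_eq 23 lt23, xR14, xR23,
    mc_mul _ _ (lens_spec _ (by simp)), g3_eq]

theorem sq0 : MC colsG0 * MC colsG0 = 1 := by rw [mc_mul _ _ (lens_spec _ (by simp)), g0_sq, mc_id]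
theorem sq1 : MC colsG1 * MC colsG1 = 1 := by rw [mc_mul _ _ (lens_spec _ (by simp)), g1_sq, mc_id]
theorem sq2 : MC colsG2 * MC colsG2 = 1 := by rw [mc_mul _ _ (lens_spec _ (by simp)), g2_sq, mc_id]
theorem sq3 : MC colsG3 * MC colsG3 = 1 := by rw [mc_mul _ _ (lens_spec _ (by simp)), g3_sq, mc_id]

/-- the four generating involutions -/
def g0 : GLF := ⟨MC colsG0, MC colsG0, sq0, sq0⟩
def g1 : GLF := ⟨MC colsG1, MC colsG1, sq1, sq1⟩
def g2 : GLF := ⟨MC colsG2, MC colsG2, sq2, sq2⟩
def g3 : GLF := ⟨MC colsG3, MC colsG3, sq3, sq3⟩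

/-- the generators, indexed -/
def gG (j : ℕ) : GLF := [g0, g1, g2, g3].getD j 1

theorem gG_val (j : ℕ) (hj : j < 4) : ((gG j : GLF) : Matrix chevF4.Idx chevF4.Idx (ZMod 2)) = MC (colsG j) := by
  interval_cases j <;> rfl

theorem g0_mem : g0 ∈ twistedF4 (ZMod 2) 1 :=
  Subgroup.subset_closure ⟨_, Or.inr ⟨0, 1, Or.inl rfl⟩, word0.symm⟩

theorem g1_mem : g1 ∈ twistedF4 (ZMod 2) 1 :=
  Subgroup.subset_closure ⟨_, Or.inr ⟨0, 1, Or.inr rfl⟩, word1.symm⟩

theorem g2_mem : g2 ∈ twistedF4 (ZMod 2) 1 :=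
  Subgroup.subset_closure ⟨_, Or.inl ⟨1, Or.inl rfl⟩, word2.symm⟩

theorem g3_mem : g3 ∈ twistedF4 (ZMod 2) 1 :=
  Subgroup.subset_closure ⟨_, Or.inl ⟨1, Or.inr rfl⟩, word3.symm⟩

theorem gG_mem (j : ℕ) : gG j ∈ twistedF4 (ZMod 2) 1 := by
  by_cases hj : j < 4
  · interval_cases j
    · exact g0_mem
    · exact g1_mem
    · exact g2_mem
    · exact g3_mem
  · have : gG j = 1 := by
      unfold gG
      rw [List.getD_eq_default _ _ (by simp; omega)]
    rw [this]; exact Subgroup.one_mem _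

/-- the two generators of the Tits group -/
def t1 : GLF := (W1.map gG).prod
def t2 : GLF := (W2.map gG).prod

theorem prod_mem (l : List ℕ) : (l.map gG).prod ∈ twistedF4 (ZMod 2) 1 := by
  apply Subgroup.list_prod_mem
  intro x hx
  obtain ⟨j, _, rfl⟩ := List.mem_map.mp hx
  exact gG_mem j

theorem t1_mem : t1 ∈ twistedF4 (ZMod 2) 1 := prod_mem W1
theorem t2_mem : t2 ∈ twistedF4 (ZMod 2) 1 := prod_mem W2

theorem colsG_len (j : ℕ) (hj : j < 4) : (colsG j).length = chevF4.rank + chevF4.nroots := by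
  interval_cases j
  · exact len_of (lens_spec colsG0 (by simp))
  · exact len_of (lens_spec colsG1 (by simp))
  · exact len_of (lens_spec colsG2 (by simp))
  · exact len_of (lens_spec colsG3 (by simp))

theorem prod_val (l : List ℕ) (hl : ∀ j ∈ l, j < 4) :
    (((l.map gG).prod : GLF) : Matrix chevF4.Idx chevF4.Idx (ZMod 2)) = MC (prodCols 52 (l.map colsG)) := by
  have h1 : (((l.map gG).prod : GLF) : Matrix chevF4.Idx chevF4.Idx (ZMod 2)) =
      ((l.map gG).map (Units.coeHom _)).prod := map_list_prod (Units.coeHom _) _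
  rw [h1, List.map_map]
  have h2 : l.map ((Units.coeHom (Matrix chevF4.Idx chevF4.Idx (ZMod 2))) ∘ gG) =
      (l.map colsG).map (fun A => matOf (a := chevF4.rank) (b := chevF4.nroots) A) := by
    rw [List.map_map]
    apply List.map_congr_left
    intro j hj
    exact gG_val j (hl j hj)
  rw [h2, prod_matOf, rank_add]
  intro A hA
  obtain ⟨j, hj, rfl⟩ := List.mem_map.mp hA
  exact colsG_len j (hl j hj)

theorem t1_val : ((t1 : GLF) : Matrix chevF4.Idx chevF4.Idx (ZMod 2)) = MC colsT1 := by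
  unfold t1
  rw [prod_val W1 (by decide), t1_eq]

theorem t2_val : ((t2 : GLF) : Matrix chevF4.Idx chevF4.Idx (ZMod 2)) = MC colsT2 := by
  unfold t2
  rw [prod_val W2 (by decide), t2_eq]

/-! ### the action on the 1755 vectors -/

theorem omega_mem_lt : ∀ x ∈ omega, x < 2 ^ (chevF4.rank + chevF4.nroots) := by
  intro x hx
  have h := omega_lt
  rw [List.all_eq_true] at h
  have := Nat.le_of_ble_eq_true (h x hx)
  rw [rank_add]
  omega

theorem pt_inj : Function.Injective
    (pt (a := chevF4.rank) (b := chevF4.nroots) (N := 1755) omega) :=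
  pt_injective omega omega_length (strictIncr_pairwise omega omega_incr) omega_mem_lt

theorem omega_getD (k : ℕ) (hk : k < 1755) : omega.getD k 0 = dig 52 (2 ^ 52 - 1) omegaP k := by
  have hl : k < ((List.range 1755).map (dig 52 (2 ^ 52 - 1) omegaP)).length := by
    rw [List.length_map, List.length_range]; exact hk
  rw [omega_eq, List.getD_eq_getElem _ _ hl, List.getElem_map, List.getElem_range]

theorem genT5_apply (k : Fin 1755) : ((genT 5) k).val = dig 12 4095 cA k.val :=
  genOf_apply validT 5 (by rw [csT_length]; norm_num) k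

theorem genT6_apply (k : Fin 1755) : ((genT 6) k).val = dig 12 4095 cB k.val :=
  genOf_apply validT 6 (by rw [csT_length]; norm_num) k

theorem t1_pt (k : Fin 1755) : ((t1 : GLF) : Matrix chevF4.Idx chevF4.Idx (ZMod 2)).mulVec
    (pt (N := 1755) omega k) = pt (N := 1755) omega (genT 5 k) := by
  rw [t1_val]
  unfold pt
  rw [matOf_mulVec colsT1 (len_of (lens_spec _ (by simp))), genT5_apply]
  have h := act1
  rw [List.all_eq_true] at h
  have h2 := Nat.eq_of_beq_eq_true (h k.val (List.mem_range.mpr k.isLt))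
  have h3 : dig 12 4095 cA k.val < 1755 := by rw [← genT5_apply]; exact (genT 5 k).isLt
  rw [omega_getD _ k.isLt, omega_getD _ h3, h2]

theorem t2_pt (k : Fin 1755) : ((t2 : GLF) : Matrix chevF4.Idx chevF4.Idx (ZMod 2)).mulVec
    (pt (N := 1755) omega k) = pt (N := 1755) omega (genT 6 k) := by
  rw [t2_val]
  unfold pt
  rw [matOf_mulVec colsT2 (len_of (lens_spec _ (by simp))), genT6_apply]
  have h := act2
  rw [List.all_eq_true] at h
  have h2 := Nat.eq_of_beq_eq_true (h k.val (List.mem_range.mpr k.isLt))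
  have h3 : dig 12 4095 cB k.val < 1755 := by rw [← genT6_apply]; exact (genT 6 k).isLt
  rw [omega_getD _ k.isLt, omega_getD _ h3, h2]

theorem t1_act : t1 ∈ Act (N := 1755) omega := ⟨genT 5, t1_pt⟩
theorem t2_act : t2 ∈ Act (N := 1755) omega := ⟨genT 6, t2_pt⟩

theorem span_single (j : chevF4.Idx) : (Pi.single j 1 : chevF4.Idx → ZMod 2) ∈
    Submodule.span (ZMod 2) (Set.range (pt (a := chevF4.rank) (b := chevF4.nroots) (N := 1755) omega)) := by
  have h := span_ok
  rw [List.all_eq_true] at h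
  have hj : pos j < 52 := by have := pos_lt j; rw [rank_add] at this; exact this
  have h2 := h (pos j) (List.mem_range.mpr hj)
  rw [Bool.and_eq_true, List.all_eq_true] at h2
  obtain ⟨h3, h4⟩ := h2
  have h5 := Nat.eq_of_beq_eq_true h4
  rw [← vecOf_two_pow, ← h5]
  apply vecOf_xorFold_mem
  intro k hk
  have := Nat.le_of_ble_eq_true (h3 k hk)
  omega

/-- the action homomorphism is injective -/
theorem act_injective : Function.Injective (actHom pt_inj) := actHom_injective pt_inj span_single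

/-- the Tits group inside the subgroup acting on the points -/
def TA : Subgroup (Act (a := chevF4.rank) (b := chevF4.nroots) (N := 1755) omega) :=
  Subgroup.closure {⟨t1, t1_act⟩, ⟨t2, t2_act⟩}

theorem actHom_t1 : actHom pt_inj ⟨t1, t1_act⟩ = genT 5 :=
  actPerm_unique pt_inj ⟨t1, t1_act⟩ (genT 5) t1_pt

theorem actHom_t2 : actHom pt_inj ⟨t2, t2_act⟩ = genT 6 :=
  actPerm_unique pt_inj ⟨t2, t2_act⟩ (genT 6) t2_pt

theorem TA_map : TA.map (actHom pt_inj) = T0 := by
  unfold TA T0
  rw [MonoidHom.map_closure, Set.image_pair, actHom_t1, actHom_t2]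

/-- the Tits group as a subgroup of `GL` -/
def TG : Subgroup GLF := Subgroup.closure {t1, t2}

theorem TA_map_subtype : TA.map (Act (a := chevF4.rank) (b := chevF4.nroots) (N := 1755) omega).subtype = TG := by
  unfold TA TG
  rw [MonoidHom.map_closure, Set.image_pair]
  rfl

/-- `TG` is isomorphic to the permutation group `T0` -/
noncomputable def equivTG : TG ≃* T0 :=
  ((MulEquiv.subgroupCongr TA_map_subtype).symm.trans
    (TA.equivMapOfInjective _ (Subgroup.subtype_injective _)).symm).trans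
    ((TA.equivMapOfInjective _ act_injective).trans (MulEquiv.subgroupCongr TA_map))

theorem TG_le : TG ≤ twistedF4 (ZMod 2) 1 := by
  unfold TG
  rw [Subgroup.closure_le]
  rintro x (rfl | rfl)
  · exact t1_mem
  · exact t2_mem

theorem card_TG : Nat.card TG = 17971200 := by
  rw [Nat.card_congr equivTG.toEquiv]; exact card_T0

end Cfsg.Agent.Helper56.Tits
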