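import Cfsg.Agent.Helper56.TiInvCls
import Cfsg.Agent.Helper56.T2T.Sub

/-!
# Local data of the Tits group in the 1755-point model (generated by tools56/tits2197/emit.py)

Explicit words for `x1, x2, m i, n3` (5-local) and `g, y, w1, w2` (3- and 13-local); every relation is a word identity
checked on the rigid base.
-/

set_option autoImplicit false
set_option maxRecDepth 1000000

namespace Cfsg.Agent.Helper56.Tits.Loc

open Cfsg.Agent.Helper56 Cfsg.Agent.Helper56.PermW Cfsg.Agent.Helper56.T2T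

/-- a word identity checked on the base -/
theorem wrel {L R : List ℕ} (hL : lettersLt 7 L = true) (hR : lettersLt 7 R = true)
    (h : eqOn 12 4095 B csT L R = true) : wprod genT L = wprod genT R :=
  eqOn_sound validT rigid genT_aut (ltT hL) (ltT hR) h

/-- `k`-fold repetition of a word -/
def rp (k : ℕ) (w : List ℕ) : List ℕ := (List.replicate k w).flatten

theorem wprod_rp (k : ℕ) (w : List ℕ) : wprod genT (rp k w) = wprod genT w ^ k := wprod_rep w k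

theorem wmem {w : List ℕ} (h : lettersLt 7 w = true) : wprod genT w ∈ T0 :=
  wprod_mem_T0 (lettersLt_spec h)

def x1w : List ℕ := [1, 0]
def x2w : List ℕ := [6, 6, 5, 6, 5, 6, 5, 6, 5, 6, 6, 5, 6, 5, 6, 5, 6, 6, 5, 6, 6, 5, 6, 6, 5, 6, 5, 6, 5, 6, 4, 3, 0, 3, 1, 3, 0, 1, 0]
def mw0 : List ℕ := [5, 6, 5, 6, 5, 6, 5, 6, 5, 6, 5, 6, 6, 5, 6, 6, 5, 6, 6, 5, 6, 6, 5, 6, 4, 3, 0, 4, 1]
def mw1 : List ℕ := [6, 6, 5, 6, 5, 6, 6, 5, 6, 6, 5, 6, 5, 6, 6, 5, 6, 6, 5, 6, 5, 6, 6, 5, 6, 5, 6, 5, 6, 6, 5, 6, 2, 4, 2, 4]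
def mw2 : List ℕ := [5, 6, 6, 5, 6, 5, 6, 5, 6, 5, 6, 6, 5, 6, 5, 6, 5, 6, 5, 6, 5, 6, 6, 5, 6, 5, 6, 5, 6, 5, 6, 2, 3, 1, 0, 3, 4, 2]
def mw3 : List ℕ := [6, 5, 6, 5, 6, 6, 5, 6, 6, 5, 6, 5, 6, 6, 5, 6, 5, 6, 5, 6, 6, 5, 6, 5, 6, 5, 6, 5, 6, 5, 6, 0, 2, 0, 3, 0, 1, 0]
def mw4 : List ℕ := [5, 6, 6, 5, 6, 6, 5, 6, 5, 6, 5, 6, 6, 5, 6, 3, 4, 4, 4, 0, 4, 3, 2, 0]
def n3w : List ℕ := [5, 6, 6, 5, 6, 5, 6, 6, 5, 6, 6, 5, 6, 6, 5, 6, 6, 5, 6, 5, 6, 5, 6, 0, 4, 0, 4, 4, 0, 1]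
def gw : List ℕ := [6, 6, 5, 6, 5, 6, 6, 5, 6, 5, 6, 5, 6, 5, 6, 6, 5, 6, 6, 5, 6, 5, 6, 6, 5, 6, 3, 2, 3, 2, 4, 0, 3, 1, 0]
def yw : List ℕ := [6]
def w1w : List ℕ := [6, 5, 6, 5, 6, 6, 5, 6, 6, 5, 6, 5, 6, 6, 5, 6, 5, 6, 5, 6, 5, 6, 6, 5, 6, 3, 1, 3, 4, 4, 3, 1]
def w2w : List ℕ := [5, 6, 6, 5, 6, 5, 6, 5, 6, 6, 5, 6, 6, 5, 6, 6, 5, 6, 5, 6, 5, 6, 5, 6, 0, 2, 4, 0, 3, 1]

theorem x1w_lt : lettersLt 7 x1w = true := by decide
theorem x2w_lt : lettersLt 7 x2w = true := by decide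
theorem mw0_lt : lettersLt 7 mw0 = true := by decide
theorem mw1_lt : lettersLt 7 mw1 = true := by decide
theorem mw2_lt : lettersLt 7 mw2 = true := by decide
theorem mw3_lt : lettersLt 7 mw3 = true := by decide
theorem mw4_lt : lettersLt 7 mw4 = true := by decide
theorem n3w_lt : lettersLt 7 n3w = true := by decide
theorem gw_lt : lettersLt 7 gw = true := by decide
theorem yw_lt : lettersLt 7 yw = true := by decide
theorem w1w_lt : lettersLt 7 w1w = true := by decide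
theorem w2w_lt : lettersLt 7 w2w = true := by decide

theorem r_x1p_ok : eqOn 12 4095 B csT (rp 5 x1w) ([]) = true := by decide +kernel
theorem r_x1p_lL : lettersLt 7 (rp 5 x1w) = true := by decide +kernel
theorem r_x1p_lR : lettersLt 7 ([]) = true := by decide +kernel
theorem r_x1p : wprod genT (rp 5 x1w) = wprod genT ([]) := wrel r_x1p_lL r_x1p_lR r_x1p_ok

theorem r_x2p_ok : eqOn 12 4095 B csT (rp 5 x2w) ([]) = true := by decide +kernel
theorem r_x2p_lL : lettersLt 7 (rp 5 x2w) = true := by decide +kernel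
theorem r_x2p_lR : lettersLt 7 ([]) = true := by decide +kernel
theorem r_x2p : wprod genT (rp 5 x2w) = wprod genT ([]) := wrel r_x2p_lL r_x2p_lR r_x2p_ok

theorem r_comm_ok : eqOn 12 4095 B csT (x1w ++ x2w) (x2w ++ x1w) = true := by decide +kernel
theorem r_comm_lL : lettersLt 7 (x1w ++ x2w) = true := by decide +kernel
theorem r_comm_lR : lettersLt 7 (x2w ++ x1w) = true := by decide +kernel
theorem r_comm : wprod genT (x1w ++ x2w) = wprod genT (x2w ++ x1w) := wrel r_comm_lL r_comm_lR r_comm_ok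

theorem r_m0a_ok : eqOn 12 4095 B csT (mw0 ++ x1w) (rp 2 (rp 0 x1w ++ x2w) ++ mw0) = true := by decide +kernel
theorem r_m0a_lL : lettersLt 7 (mw0 ++ x1w) = true := by decide +kernel
theorem r_m0a_lR : lettersLt 7 (rp 2 (rp 0 x1w ++ x2w) ++ mw0) = true := by decide +kernel
theorem r_m0a : wprod genT (mw0 ++ x1w) = wprod genT (rp 2 (rp 0 x1w ++ x2w) ++ mw0) := wrel r_m0a_lL r_m0a_lR r_m0a_ok

theorem r_m0b_ok : eqOn 12 4095 B csT (mw0 ++ x2w) (rp 2 x1w ++ rp 0 x2w ++ mw0) = true := by decide +kernel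
theorem r_m0b_lL : lettersLt 7 (mw0 ++ x2w) = true := by decide +kernel
theorem r_m0b_lR : lettersLt 7 (rp 2 x1w ++ rp 0 x2w ++ mw0) = true := by decide +kernel
theorem r_m0b : wprod genT (mw0 ++ x2w) = wprod genT (rp 2 x1w ++ rp 0 x2w ++ mw0) := wrel r_m0b_lL r_m0b_lR r_m0b_ok

theorem r_m1a_ok : eqOn 12 4095 B csT (mw1 ++ x1w) (rp 4 (rp 1 x1w ++ x2w) ++ mw1) = true := by decide +kernel
theorem r_m1a_lL : lettersLt 7 (mw1 ++ x1w) = true := by decide +kernel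
theorem r_m1a_lR : lettersLt 7 (rp 4 (rp 1 x1w ++ x2w) ++ mw1) = true := by decide +kernel
theorem r_m1a : wprod genT (mw1 ++ x1w) = wprod genT (rp 4 (rp 1 x1w ++ x2w) ++ mw1) := wrel r_m1a_lL r_m1a_lR r_m1a_ok

theorem r_m1b_ok : eqOn 12 4095 B csT (mw1 ++ x2w) (rp 3 x1w ++ rp 2 x2w ++ mw1) = true := by decide +kernel
theorem r_m1b_lL : lettersLt 7 (mw1 ++ x2w) = true := by decide +kernel
theorem r_m1b_lR : lettersLt 7 (rp 3 x1w ++ rp 2 x2w ++ mw1) = true := by decide +kernel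
theorem r_m1b : wprod genT (mw1 ++ x2w) = wprod genT (rp 3 x1w ++ rp 2 x2w ++ mw1) := wrel r_m1b_lL r_m1b_lR r_m1b_ok

theorem r_m2a_ok : eqOn 12 4095 B csT (mw2 ++ x1w) (rp 3 (rp 2 x1w ++ x2w) ++ mw2) = true := by decide +kernel
theorem r_m2a_lL : lettersLt 7 (mw2 ++ x1w) = true := by decide +kernel
theorem r_m2a_lR : lettersLt 7 (rp 3 (rp 2 x1w ++ x2w) ++ mw2) = true := by decide +kernel
theorem r_m2a : wprod genT (mw2 ++ x1w) = wprod genT (rp 3 (rp 2 x1w ++ x2w) ++ mw2) := wrel r_m2a_lL r_m2a_lR r_m2a_ok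

theorem r_m2b_ok : eqOn 12 4095 B csT (mw2 ++ x2w) (rp 1 x1w ++ rp 2 x2w ++ mw2) = true := by decide +kernel
theorem r_m2b_lL : lettersLt 7 (mw2 ++ x2w) = true := by decide +kernel
theorem r_m2b_lR : lettersLt 7 (rp 1 x1w ++ rp 2 x2w ++ mw2) = true := by decide +kernel
theorem r_m2b : wprod genT (mw2 ++ x2w) = wprod genT (rp 1 x1w ++ rp 2 x2w ++ mw2) := wrel r_m2b_lL r_m2b_lR r_m2b_ok

theorem r_m3a_ok : eqOn 12 4095 B csT (mw3 ++ x1w) (rp 4 (rp 3 x1w ++ x2w) ++ mw3) = true := by decide +kernel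
theorem r_m3a_lL : lettersLt 7 (mw3 ++ x1w) = true := by decide +kernel
theorem r_m3a_lR : lettersLt 7 (rp 4 (rp 3 x1w ++ x2w) ++ mw3) = true := by decide +kernel
theorem r_m3a : wprod genT (mw3 ++ x1w) = wprod genT (rp 4 (rp 3 x1w ++ x2w) ++ mw3) := wrel r_m3a_lL r_m3a_lR r_m3a_ok

theorem r_m3b_ok : eqOn 12 4095 B csT (mw3 ++ x2w) (rp 2 x1w ++ rp 1 x2w ++ mw3) = true := by decide +kernel
theorem r_m3b_lL : lettersLt 7 (mw3 ++ x2w) = true := by decide +kernel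
theorem r_m3b_lR : lettersLt 7 (rp 2 x1w ++ rp 1 x2w ++ mw3) = true := by decide +kernel
theorem r_m3b : wprod genT (mw3 ++ x2w) = wprod genT (rp 2 x1w ++ rp 1 x2w ++ mw3) := wrel r_m3b_lL r_m3b_lR r_m3b_ok

theorem r_m4a_ok : eqOn 12 4095 B csT (mw4 ++ x1w) (rp 2 (rp 4 x1w ++ x2w) ++ mw4) = true := by decide +kernel
theorem r_m4a_lL : lettersLt 7 (mw4 ++ x1w) = true := by decide +kernel
theorem r_m4a_lR : lettersLt 7 (rp 2 (rp 4 x1w ++ x2w) ++ mw4) = true := by decide +kernel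
theorem r_m4a : wprod genT (mw4 ++ x1w) = wprod genT (rp 2 (rp 4 x1w ++ x2w) ++ mw4) := wrel r_m4a_lL r_m4a_lR r_m4a_ok

theorem r_m4b_ok : eqOn 12 4095 B csT (mw4 ++ x2w) (rp 1 x1w ++ rp 1 x2w ++ mw4) = true := by decide +kernel
theorem r_m4b_lL : lettersLt 7 (mw4 ++ x2w) = true := by decide +kernel
theorem r_m4b_lR : lettersLt 7 (rp 1 x1w ++ rp 1 x2w ++ mw4) = true := by decide +kernel
theorem r_m4b : wprod genT (mw4 ++ x2w) = wprod genT (rp 1 x1w ++ rp 1 x2w ++ mw4) := wrel r_m4b_lL r_m4b_lR r_m4b_ok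

theorem r_n3p_ok : eqOn 12 4095 B csT (rp 3 n3w) ([]) = true := by decide +kernel
theorem r_n3p_lL : lettersLt 7 (rp 3 n3w) = true := by decide +kernel
theorem r_n3p_lR : lettersLt 7 ([]) = true := by decide +kernel
theorem r_n3p : wprod genT (rp 3 n3w) = wprod genT ([]) := wrel r_n3p_lL r_n3p_lR r_n3p_ok

theorem r_n3a_ok : eqOn 12 4095 B csT (n3w ++ x1w) (rp 1 x1w ++ rp 1 x2w ++ n3w) = true := by decide +kernel
theorem r_n3a_lL : lettersLt 7 (n3w ++ x1w) = true := by decide +kernel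
theorem r_n3a_lR : lettersLt 7 (rp 1 x1w ++ rp 1 x2w ++ n3w) = true := by decide +kernel
theorem r_n3a : wprod genT (n3w ++ x1w) = wprod genT (rp 1 x1w ++ rp 1 x2w ++ n3w) := wrel r_n3a_lL r_n3a_lR r_n3a_ok

theorem r_n3b_ok : eqOn 12 4095 B csT (n3w ++ x2w) (rp 2 x1w ++ rp 3 x2w ++ n3w) = true := by decide +kernel
theorem r_n3b_lL : lettersLt 7 (n3w ++ x2w) = true := by decide +kernel
theorem r_n3b_lR : lettersLt 7 (rp 2 x1w ++ rp 3 x2w ++ n3w) = true := by decide +kernel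
theorem r_n3b : wprod genT (n3w ++ x2w) = wprod genT (rp 2 x1w ++ rp 3 x2w ++ n3w) := wrel r_n3b_lL r_n3b_lR r_n3b_ok

theorem r_gp_ok : eqOn 12 4095 B csT (rp 13 gw) ([]) = true := by decide +kernel
theorem r_gp_lL : lettersLt 7 (rp 13 gw) = true := by decide +kernel
theorem r_gp_lR : lettersLt 7 ([]) = true := by decide +kernel
theorem r_gp : wprod genT (rp 13 gw) = wprod genT ([]) := wrel r_gp_lL r_gp_lR r_gp_ok

theorem r_yp_ok : eqOn 12 4095 B csT (rp 3 yw) ([]) = true := by decide +kernel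
theorem r_yp_lL : lettersLt 7 (rp 3 yw) = true := by decide +kernel
theorem r_yp_lR : lettersLt 7 ([]) = true := by decide +kernel
theorem r_yp : wprod genT (rp 3 yw) = wprod genT ([]) := wrel r_yp_lL r_yp_lR r_yp_ok

theorem r_yg_ok : eqOn 12 4095 B csT (yw ++ gw) (rp 9 gw ++ yw) = true := by decide +kernel
theorem r_yg_lL : lettersLt 7 (yw ++ gw) = true := by decide +kernel
theorem r_yg_lR : lettersLt 7 (rp 9 gw ++ yw) = true := by decide +kernel
theorem r_yg : wprod genT (yw ++ gw) = wprod genT (rp 9 gw ++ yw) := wrel r_yg_lL r_yg_lR r_yg_ok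

theorem r_w1p_ok : eqOn 12 4095 B csT (rp 3 w1w) ([]) = true := by decide +kernel
theorem r_w1p_lL : lettersLt 7 (rp 3 w1w) = true := by decide +kernel
theorem r_w1p_lR : lettersLt 7 ([]) = true := by decide +kernel
theorem r_w1p : wprod genT (rp 3 w1w) = wprod genT ([]) := wrel r_w1p_lL r_w1p_lR r_w1p_ok

theorem r_w2p_ok : eqOn 12 4095 B csT (rp 3 w2w) ([]) = true := by decide +kernel
theorem r_w2p_lL : lettersLt 7 (rp 3 w2w) = true := by decide +kernel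
theorem r_w2p_lR : lettersLt 7 ([]) = true := by decide +kernel
theorem r_w2p : wprod genT (rp 3 w2w) = wprod genT ([]) := wrel r_w2p_lL r_w2p_lR r_w2p_ok

theorem r_w1y_ok : eqOn 12 4095 B csT (w1w ++ yw) (yw ++ w1w) = true := by decide +kernel
theorem r_w1y_lL : lettersLt 7 (w1w ++ yw) = true := by decide +kernel
theorem r_w1y_lR : lettersLt 7 (yw ++ w1w) = true := by decide +kernel
theorem r_w1y : wprod genT (w1w ++ yw) = wprod genT (yw ++ w1w) := wrel r_w1y_lL r_w1y_lR r_w1y_ok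

theorem r_w2y_ok : eqOn 12 4095 B csT (w2w ++ yw) (yw ++ w2w) = true := by decide +kernel
theorem r_w2y_lL : lettersLt 7 (w2w ++ yw) = true := by decide +kernel
theorem r_w2y_lR : lettersLt 7 (yw ++ w2w) = true := by decide +kernel
theorem r_w2y : wprod genT (w2w ++ yw) = wprod genT (yw ++ w2w) := wrel r_w2y_lL r_w2y_lR r_w2y_ok

theorem r_ww_ok : eqOn 12 4095 B csT (w2w ++ w1w) (w1w ++ yw ++ w2w) = true := by decide +kernel
theorem r_ww_lL : lettersLt 7 (w2w ++ w1w) = true := by decide +kernel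
theorem r_ww_lR : lettersLt 7 (w1w ++ yw ++ w2w) = true := by decide +kernel
theorem r_ww : wprod genT (w2w ++ w1w) = wprod genT (w1w ++ yw ++ w2w) := wrel r_ww_lL r_ww_lR r_ww_ok

theorem ev_x1_0 : appWord 12 4095 csT x1w 0 = 0 := by decide +kernel
theorem ev_x1_1 : appWord 12 4095 csT x1w 1 = 3 := by decide +kernel
theorem ev_x2_0 : appWord 12 4095 csT x2w 0 = 859 := by decide +kernel
theorem ev_n3_0 : appWord 12 4095 csT n3w 0 = 516 := by decide +kernel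
theorem ev_g_0 : appWord 12 4095 csT gw 0 = 6 := by decide +kernel
theorem ev_y_0 : appWord 12 4095 csT yw 0 = 1671 := by decide +kernel

/-- the elements -/
def X1 : Equiv.Perm (Fin 1755) := wprod genT x1w
def X2 : Equiv.Perm (Fin 1755) := wprod genT x2w
def M0 : Equiv.Perm (Fin 1755) := wprod genT mw0
def M1 : Equiv.Perm (Fin 1755) := wprod genT mw1
def M2 : Equiv.Perm (Fin 1755) := wprod genT mw2
def M3 : Equiv.Perm (Fin 1755) := wprod genT mw3
def M4 : Equiv.Perm (Fin 1755) := wprod genT mw4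
def N3 : Equiv.Perm (Fin 1755) := wprod genT n3w
def Gg : Equiv.Perm (Fin 1755) := wprod genT gw
def Yy : Equiv.Perm (Fin 1755) := wprod genT yw
def W1 : Equiv.Perm (Fin 1755) := wprod genT w1w
def W2 : Equiv.Perm (Fin 1755) := wprod genT w2w

theorem conj_of_mul {G : Type*} [Group G] {a b c : G} (h : a * b = c * a) : a * b * a⁻¹ = c := by
  rw [h, mul_inv_cancel_right]

theorem X1_pow : X1 ^ 5 = 1 := by
  have h := r_x1p; rw [wprod_rp, wprod_nil] at h; exact h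
theorem X2_pow : X2 ^ 5 = 1 := by
  have h := r_x2p; rw [wprod_rp, wprod_nil] at h; exact h
theorem X_comm : X1 * X2 = X2 * X1 := by
  have h := r_comm; rw [wprod_append, wprod_append] at h; exact h

theorem ev {w : List ℕ} (hw : lettersLt 7 w = true) (x : ℕ) (hx : x < 1755) :
    ((wprod genT w) ⟨x, hx⟩).val = appWord 12 4095 csT w x :=
  wprod_apply validT w (ltT hw) ⟨x, hx⟩

theorem ne_one_of_ev {w : List ℕ} (hw : lettersLt 7 w = true) (x : ℕ) (hx : x < 1755)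
    (h : appWord 12 4095 csT w x ≠ x) : wprod genT w ≠ 1 := by
  intro e
  have := ev hw x hx
  rw [e, Equiv.Perm.one_apply] at this
  exact h this.symm

theorem X1_ne : X1 ≠ 1 := ne_one_of_ev x1w_lt 1 (by norm_num) (by rw [ev_x1_1]; norm_num)
theorem N3_ne : N3 ≠ 1 := ne_one_of_ev n3w_lt 0 (by norm_num) (by rw [ev_n3_0]; norm_num)
theorem Gg_ne : Gg ≠ 1 := ne_one_of_ev gw_lt 0 (by norm_num) (by rw [ev_g_0]; norm_num)
theorem Yy_ne : Yy ≠ 1 := ne_one_of_ev yw_lt 0 (by norm_num) (by rw [ev_y_0]; norm_num)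

theorem X_indep : X2 ∉ Subgroup.zpowers X1 := by
  intro h
  rw [Subgroup.mem_zpowers_iff] at h
  obtain ⟨k, hk⟩ := h
  have h1 : X1 pt0 = pt0 := by
    apply Fin.ext
    show ((wprod genT x1w) ⟨0, _⟩).val = 0
    rw [ev x1w_lt 0 (by norm_num), ev_x1_0]
  have h2 : (X1 ^ k) pt0 = pt0 := Equiv.Perm.zpow_apply_eq_self_of_apply_eq_self h1 k
  rw [hk] at h2
  have h3 := congrArg Fin.val h2
  have h4 : (X2 pt0).val = 859 := by
    show ((wprod genT x2w) ⟨0, _⟩).val = 859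
    rw [ev x2w_lt 0 (by norm_num), ev_x2_0]
  rw [h4] at h3
  norm_num at h3

theorem M0a : M0 * X1 * M0⁻¹ = (X1 ^ 0 * X2) ^ 2 := by
  have h := r_m0a; rw [wprod_append, wprod_append, wprod_rp, wprod_append, wprod_rp] at h; exact conj_of_mul h
theorem M0b : M0 * X2 * M0⁻¹ = X1 ^ 2 * X2 ^ 0 := by
  have h := r_m0b; rw [wprod_append, wprod_append, wprod_append, wprod_rp, wprod_rp] at h
  exact conj_of_mul h
theorem M1a : M1 * X1 * M1⁻¹ = (X1 ^ 1 * X2) ^ 4 := by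
  have h := r_m1a; rw [wprod_append, wprod_append, wprod_rp, wprod_append, wprod_rp] at h; exact conj_of_mul h
theorem M1b : M1 * X2 * M1⁻¹ = X1 ^ 3 * X2 ^ 2 := by
  have h := r_m1b; rw [wprod_append, wprod_append, wprod_append, wprod_rp, wprod_rp] at h
  exact conj_of_mul h
theorem M2a : M2 * X1 * M2⁻¹ = (X1 ^ 2 * X2) ^ 3 := by
  have h := r_m2a; rw [wprod_append, wprod_append, wprod_rp, wprod_append, wprod_rp] at h; exact conj_of_mul h
theorem M2b : M2 * X2 * M2⁻¹ = X1 ^ 1 * X2 ^ 2 := by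
  have h := r_m2b; rw [wprod_append, wprod_append, wprod_append, wprod_rp, wprod_rp] at h
  exact conj_of_mul h
theorem M3a : M3 * X1 * M3⁻¹ = (X1 ^ 3 * X2) ^ 4 := by
  have h := r_m3a; rw [wprod_append, wprod_append, wprod_rp, wprod_append, wprod_rp] at h; exact conj_of_mul h
theorem M3b : M3 * X2 * M3⁻¹ = X1 ^ 2 * X2 ^ 1 := by
  have h := r_m3b; rw [wprod_append, wprod_append, wprod_append, wprod_rp, wprod_rp] at h
  exact conj_of_mul h
theorem M4a : M4 * X1 * M4⁻¹ = (X1 ^ 4 * X2) ^ 2 := by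
  have h := r_m4a; rw [wprod_append, wprod_append, wprod_rp, wprod_append, wprod_rp] at h; exact conj_of_mul h
theorem M4b : M4 * X2 * M4⁻¹ = X1 ^ 1 * X2 ^ 1 := by
  have h := r_m4b; rw [wprod_append, wprod_append, wprod_append, wprod_rp, wprod_rp] at h
  exact conj_of_mul h

theorem N3_pow : N3 ^ 3 = 1 := by
  have h := r_n3p; rw [wprod_rp, wprod_nil] at h; exact h
theorem N3a : N3 * X1 * N3⁻¹ = X1 ^ 1 * X2 ^ 1 := by
  have h := r_n3a; rw [wprod_append, wprod_append, wprod_append, wprod_rp, wprod_rp] at h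
  exact conj_of_mul h
theorem N3b : N3 * X2 * N3⁻¹ = X1 ^ 2 * X2 ^ 3 := by
  have h := r_n3b; rw [wprod_append, wprod_append, wprod_append, wprod_rp, wprod_rp] at h
  exact conj_of_mul h

theorem Gg_pow : Gg ^ 13 = 1 := by
  have h := r_gp; rw [wprod_rp, wprod_nil] at h; exact h
theorem Yy_pow : Yy ^ 3 = 1 := by
  have h := r_yp; rw [wprod_rp, wprod_nil] at h; exact h
theorem Yy_Gg : Yy * Gg * Yy⁻¹ = Gg ^ 9 := by
  have h := r_yg; rw [wprod_append, wprod_append, wprod_rp] at h; exact conj_of_mul h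
theorem W1_pow : W1 ^ 3 = 1 := by
  have h := r_w1p; rw [wprod_rp, wprod_nil] at h; exact h
theorem W2_pow : W2 ^ 3 = 1 := by
  have h := r_w2p; rw [wprod_rp, wprod_nil] at h; exact h
theorem W1_Yy : W1 * Yy = Yy * W1 := by
  have h := r_w1y; rw [wprod_append, wprod_append] at h; exact h
theorem W2_Yy : W2 * Yy = Yy * W2 := by
  have h := r_w2y; rw [wprod_append, wprod_append] at h; exact h
theorem W2_W1 : W2 * W1 * W2⁻¹ = W1 * Yy := by
  have h := r_ww; rw [wprod_append, wprod_append, wprod_append] at h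
  exact conj_of_mul h

/-- the 5-local data in `Perm (Fin 1755)` -/
def loc5P : Loc5 (Equiv.Perm (Fin 1755)) where
  x1 := X1
  x2 := X2
  m := ![M0, M1, M2, M3, M4]
  e := ![2, 4, 3, 4, 2]
  n3 := N3
  x1_pow := X1_pow
  x2_pow := X2_pow
  x1_ne := X1_ne
  comm := X_comm
  indep := X_indep
  e_pos := by decide
  m_x1 := by
    intro i
    fin_cases i
    · exact M0a
    · exact M1a
    · exact M2a
    · exact M3a
    · exact M4a
  m_x2 := by
    intro i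
    fin_cases i
    · exact ⟨2, 0, M0b⟩
    · exact ⟨3, 2, M1b⟩
    · exact ⟨1, 2, M2b⟩
    · exact ⟨2, 1, M3b⟩
    · exact ⟨1, 1, M4b⟩
  n3_pow := N3_pow
  n3_ne := N3_ne
  n3_x1 := ⟨1, 1, N3a⟩
  n3_x2 := ⟨2, 3, N3b⟩

/-- the 3-local data in `Perm (Fin 1755)` -/
def loc3P : Loc3 (Equiv.Perm (Fin 1755)) where
  g := Gg
  y := Yy
  w1 := W1
  w2 := W2
  g_pow := Gg_pow
  g_ne := Gg_ne
  y_pow := Yy_pow
  y_ne := Yy_ne
  y_g := Yy_Gg
  w1_pow := W1_pow
  w2_pow := W2_pow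
  w1_y := W1_Yy
  w2_y := W2_Yy
  w2_w1 := W2_W1

/-- the 5-local data in `T0` -/
def loc5T0 : Loc5 T0 :=
  loc5P.toSubgroup T0 (wmem x1w_lt) (wmem x2w_lt)
    (by
      intro i
      fin_cases i
      · exact wmem mw0_lt
      · exact wmem mw1_lt
      · exact wmem mw2_lt
      · exact wmem mw3_lt
      · exact wmem mw4_lt)
    (wmem n3w_lt)

/-- the 3-local data in `T0` -/
def loc3T0 : Loc3 T0 :=
  loc3P.toSubgroup T0 (wmem gw_lt) (wmem yw_lt) (wmem w1w_lt) (wmem w2w_lt)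

end Cfsg.Agent.Helper56.Tits.Loc
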