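import Cfsg.Agent.Helper56.TiLocal
import Cfsg.Agent.Helper56.TiInvFinal

/-!
# Local data of the Tits group, transported to `Cfsg.Lie.TitsGroup`

along `TitsGroup = commutator ²F₄(2) = TS ≃* TG ≃* T0`.
-/

set_option autoImplicit false

namespace Cfsg.Agent.Helper56.Tits

open Cfsg Cfsg.Lie Cfsg.Agent.Helper56 Cfsg.Agent.Helper56.T2T Cfsg.Agent.Helper56.Tits.Loc

noncomputable def loc5TG : Loc5 ↥TG := Loc5.map loc5T0 equivTG.symm

noncomputable def loc5TS : Loc5 ↥TS := Loc5.map loc5TG equivTS.symm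

noncomputable def eqvComm : ↥TS ≃* ↥(commutator ↥(twistedF4 (ZMod 2) 1)) :=
  MulEquiv.subgroupCongr commutator_eq_TS.symm

noncomputable def loc5Comm : Loc5 ↥(commutator ↥(twistedF4 (ZMod 2) 1)) := Loc5.map loc5TS eqvComm

noncomputable def loc5Tits : Loc5 Cfsg.Lie.TitsGroup := loc5Comm

noncomputable def loc3TG : Loc3 ↥TG := Loc3.map loc3T0 equivTG.symm

noncomputable def loc3TS : Loc3 ↥TS := Loc3.map loc3TG equivTS.symm

noncomputable def loc3Comm : Loc3 ↥(commutator ↥(twistedF4 (ZMod 2) 1)) := Loc3.map loc3TS eqvComm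

noncomputable def loc3Tits : Loc3 Cfsg.Lie.TitsGroup := loc3Comm

theorem card_Tits : Nat.card Cfsg.Lie.TitsGroup = 17971200 := by
  have h := Cfsg.Agent.S1074.result.2.2.2
  rw [h]; norm_num

end Cfsg.Agent.Helper56.Tits
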