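import Cfsg.Agent.Helper56.TiRound1P0

set_option autoImplicit false
set_option maxRecDepth 1000000

namespace Cfsg.Agent.Helper56.Tits

open Cfsg.Agent.Helper56 Cfsg.Agent.Helper56.PermW

theorem round1 : ∀ v, v < 1755 → roundPt nb gf Ff (col P1) (col P2) v = true :=
  fun v hv => roundPt_of_F 12 4095 nb_eq gf Ff (col P1) (col P2) v (ptwise1 round1_p0 v (Nat.zero_le v) hv)

end Cfsg.Agent.Helper56.Tits
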