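import Cfsg.Agent.Helper56.TiGraphOK
import Cfsg.Agent.Helper56.TiCol
import Cfsg.Agent.Helper56.TiRound0
import Cfsg.Agent.Helper56.TiRound1
import Cfsg.Agent.Helper56.TiRound2
import Cfsg.Agent.Helper56.TiRound3
import Cfsg.Agent.Helper56.TiRound4
import Cfsg.Agent.Helper56.TiRound5
import Cfsg.Agent.Helper56.TiRound6

set_option autoImplicit false
set_option maxRecDepth 1000000

namespace Cfsg.Agent.Helper56.Tits

open Cfsg.Agent.Helper56 Cfsg.Agent.Helper56.PermW

theorem graphOK : GraphOK 1755 nb := graph_ok

theorem init_ok : ∀ v, v < 1755 → initPt B (col P0) v = true :=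
  fun v hv => ptwise1 init_p v (Nat.zero_le v) hv

theorem rigid : Rigid 1755 nb B := by
  apply rigid_of_invariant sorted_ok
  intro σ hσ hB
  have h0 := init_invariant (n := 1755) (B := B) (col := col P0) init_ok σ hB
  have h1 := round_invariant graphOK round0 σ hσ h0
  have h2 := round_invariant graphOK round1 σ hσ h1
  have h3 := round_invariant graphOK round2 σ hσ h2
  have h4 := round_invariant graphOK round3 σ hσ h3
  have h5 := round_invariant graphOK round4 σ hσ h4
  have h6 := round_invariant graphOK round5 σ hσ h5
  exact round_invariant graphOK round6 σ hσ h6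

end Cfsg.Agent.Helper56.Tits
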