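import Cfsg.Agent.Helper56.TiTLevelData3

set_option autoImplicit false
set_option maxRecDepth 1000000

namespace Cfsg.Agent.Helper56.Tits

open Cfsg.Agent.Helper56 Cfsg.Agent.Helper56.PermW

theorem lT3_s0_r0 : walk orbMT3 (schreierOK 12 4095 B csT cisT 0 orbMT3 svT3 1 [] 0) (List.range' 0 1755) [0, 0] = true := by decide +kernel

end Cfsg.Agent.Helper56.Tits
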