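import Cfsg.Agent.Helper56.TiTData

set_option autoImplicit false
set_option maxRecDepth 1000000

namespace Cfsg.Agent.Helper56.Tits

open Cfsg.Agent.Helper56 Cfsg.Agent.Helper56.PermW

def orbMT0 : ℕ := 0x7ffffffffffffffffffffffffffffffffffffffffffffffffffffffffffffffffffffffffffffffffffffffffffffffffffffffffffffffffffffffffffffffffffffffffffffffffffffffffffffffffffffffffffffffffffffffffffffffffffffffffffffffffffffffffffffffffffffffffffffffffffffffffffffffffffffffffffffffffffffffffffffffffffffffffffffffffffffffffffffffffffffffffffffffffffffffffffffffffffffffffffffffffffffffffffffffffffffffffffffffffffffffffffffffffffffffffffffffffffffff

def svT0 : ℕ := 0x746177326241731143646435641576361324773477677375152215577154155464655764775457565167436462546774353112112131137741455715665466457112151324141116411524745474757135456545455576477377451725452564456234757477343674657663126553456331555117526171531531147154141752531214564452547512525432365332157135777441151545766111741413147423675232426417757434255475476473473624452565447443451517244414647762117574621464455435156515153156715546734435342714134115444714474546754746774544752526454745571464575765542746335346647536665635555466456655747752556256754551166531677261431111177743371117314517411737335711117313211377337537552443673551547555655354565665464511464543452572473725172475417572631743114325433655573516741545261643355322554255356516657577557655275765662734662717771355614145543455773312761356463333552452445375751453622537554535735313462532533555455216154147557465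541255577357554254615516356377756657332376677235613557533335733271457361777335415475554273477553322376633251554624653765533373434656745713135465344556624474457477727752746354713562276777477625715177335357277731363411376772731614734735752437575372777255757453344775765753436357351174147273457577333356553765576375314553473425155776366411677726573541654757714417353763557776375757734776356151136277467475775454157567547722146776712176351755174663643344754577771717756265213777143657734717536227735276777575411215776775547626565772553156645234716617745734733757256777327676327336441651361274775755346443247565171715436454552664274121544745751574725445721217745774522776771777137775723224177544723471511415632473717476333461274427677474456274657715761777171437475372232765177754574232471736776773523475771476127715537113411356517556157241452413537557271717547656655661477736373557343677314777630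

end Cfsg.Agent.Helper56.Tits
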