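import Cfsg.Agent.Helper56.TiTData

set_option autoImplicit false
set_option maxRecDepth 1000000

namespace Cfsg.Agent.Helper56.Tits

open Cfsg.Agent.Helper56 Cfsg.Agent.Helper56.PermW

def orbMT1 : ℕ := 0x7fffffffffffffffffffffffffffffffffffffffffffffffffffffffffffffffffffffffffffffffffffffffffffffffffffffffffffffffffffffffffffffffffffffffffffffffffffffffffffffffffffffffffffffffffffffffffffffffffffffffffffffffffffffffffffffffffffffffffffffffffffffffffffffff800000000000000000000000000000000000000000000000000000000000000000000000000000000000000000000000000000000000000000000000000000000000000000000000000000000000000000000000000000000000000

def svT1 : ℕ := 0x454255435141445514312314315454444535514113455315442143411351433315314455352344115355133343213321413454453114435151135141155345554135143554434353553145454425543524115452541413525512431531355513134425335523425345133554214551434315455453544145554155451341552535513451231311151451451314413413523552135251515453143214513442534514213411544135255553335543554515435215435544452235552122352155314155131545244351514325135335454341454441151544513422355525233431225112335551134111543254513315425515212553235515334245344543454143414153455143154425134511335154325415125554131415351251344555545554525414135435225412335242551142115531413551121215442135345544554215515151415331421441344435352344212315451545544523444535555143113551413441335535452145254334215541155514454555315233525122435353115153215514434231443344545531154154351135513424335544524334415341314515432515354535442555411435141414444552533125224425545153514145532353354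414433445454415245513151222534114314433545544113545155521415555415145442555234355421454141451413531543352535000000000000000000000000000000000000000000000000000000000000000000000000000000000000000000000000000000000000000000000000000000000000000000000000000000000000000000000000000000000000000000000000000000000000000000000000000000000000000000000000000000000000000000000000000000000000000000000000000000000000000000000000000000000000000000000000000000000000000000000000000000000000000000000000000000000000000000000000000000000000000000000000000000000000000000000000000000000000000000000000000000000000000000000000000000000000000000000000000000000000000000000000000000000000000000000000000000000000000000000000000000000000000000000000000000000000000000000000000000000000000000000000000000000000000000000000000000000000000000000000000000000000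

end Cfsg.Agent.Helper56.Tits
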