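import Cfsg.Agent.Helper56.TiTWordDef4

set_option autoImplicit false
set_option maxRecDepth 1000000

namespace Cfsg.Agent.Helper56.Tits

open Cfsg.Agent.Helper56 Cfsg.Agent.Helper56.PermW

theorem wordT4_p0 : rangeAll 0 1200 (wordPt 12 4095 csT 4 wordT4) = true := by decide +kernel

theorem wordT4_p1 : rangeAll 1200 1755 (wordPt 12 4095 csT 4 wordT4) = true := by decide +kernel

end Cfsg.Agent.Helper56.Tits
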