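import Cfsg.Agent.Helper56.TiTData

set_option autoImplicit false
set_option maxRecDepth 1000000

namespace Cfsg.Agent.Helper56.Tits

open Cfsg.Agent.Helper56 Cfsg.Agent.Helper56.PermW

def wordT0 : List ℕ := [1, 2, 1]

end Cfsg.Agent.Helper56.Tits
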