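import Mathlib

/-!
# A presentation of `C₃ ≀ S₃` (order 162) and the bound `|P| ≤ 162`
-/

set_option autoImplicit false

namespace Cfsg.Agent.Helper56.Wr162

/-- relators: `a³, x³, t², (tx)², [a, xax⁻¹], [t, a]` -/
abbrev rels : Set (FreeGroup (Fin 3)) :=
  {FreeGroup.of (0 : Fin 3) ^ 3, FreeGroup.of (1 : Fin 3) ^ 3, FreeGroup.of (2 : Fin 3) ^ 2,
   (FreeGroup.of (2 : Fin 3) * FreeGroup.of 1) ^ 2,
   FreeGroup.of (0 : Fin 3) * (FreeGroup.of 1 * FreeGroup.of 0 * (FreeGroup.of 1)⁻¹) *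
     (FreeGroup.of 0)⁻¹ * (FreeGroup.of 1 * FreeGroup.of 0 * (FreeGroup.of 1)⁻¹)⁻¹,
   FreeGroup.of (2 : Fin 3) * FreeGroup.of 0 * (FreeGroup.of 2)⁻¹ * (FreeGroup.of 0)⁻¹}

abbrev P : Type := PresentedGroup rels

theorem rels_hold {G : Type*} [Group G] (a x t : G) (ha : a ^ 3 = 1) (hx : x ^ 3 = 1)
    (ht : t ^ 2 = 1) (htx : (t * x) ^ 2 = 1)
    (hc : a * (x * a * x⁻¹) * a⁻¹ * (x * a * x⁻¹)⁻¹ = 1) (hta : t * a * t⁻¹ * a⁻¹ = 1) :
    ∀ r ∈ rels, FreeGroup.lift ![a, x, t] r = 1 := by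
  intro r hr
  simp only [rels, Set.mem_insert_iff, Set.mem_singleton_iff] at hr
  rcases hr with rfl | rfl | rfl | rfl | rfl | rfl
  · simpa using ha
  · simpa using hx
  · simpa using ht
  · simpa using htx
  · simpa using hc
  · simpa using hta

/-- the universal property -/
noncomputable def homOf {G : Type*} [Group G] (a x t : G) (ha : a ^ 3 = 1) (hx : x ^ 3 = 1)
    (ht : t ^ 2 = 1) (htx : (t * x) ^ 2 = 1)
    (hc : a * (x * a * x⁻¹) * a⁻¹ * (x * a * x⁻¹)⁻¹ = 1) (hta : t * a * t⁻¹ * a⁻¹ = 1) :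
    P →* G :=
  PresentedGroup.toGroup (rels_hold a x t ha hx ht htx hc hta)

theorem homOf_a {G : Type*} [Group G] (a x t : G) (ha : a ^ 3 = 1) (hx : x ^ 3 = 1)
    (ht : t ^ 2 = 1) (htx : (t * x) ^ 2 = 1)
    (hc : a * (x * a * x⁻¹) * a⁻¹ * (x * a * x⁻¹)⁻¹ = 1) (hta : t * a * t⁻¹ * a⁻¹ = 1) :
    homOf a x t ha hx ht htx hc hta (PresentedGroup.of 0) = a :=
  PresentedGroup.toGroup.of _

theorem homOf_x {G : Type*} [Group G] (a x t : G) (ha : a ^ 3 = 1) (hx : x ^ 3 = 1)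
    (ht : t ^ 2 = 1) (htx : (t * x) ^ 2 = 1)
    (hc : a * (x * a * x⁻¹) * a⁻¹ * (x * a * x⁻¹)⁻¹ = 1) (hta : t * a * t⁻¹ * a⁻¹ = 1) :
    homOf a x t ha hx ht htx hc hta (PresentedGroup.of 1) = x :=
  PresentedGroup.toGroup.of _

theorem homOf_t {G : Type*} [Group G] (a x t : G) (ha : a ^ 3 = 1) (hx : x ^ 3 = 1)
    (ht : t ^ 2 = 1) (htx : (t * x) ^ 2 = 1)
    (hc : a * (x * a * x⁻¹) * a⁻¹ * (x * a * x⁻¹)⁻¹ = 1) (hta : t * a * t⁻¹ * a⁻¹ = 1) :
    homOf a x t ha hx ht htx hc hta (PresentedGroup.of 2) = t :=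
  PresentedGroup.toGroup.of _

noncomputable def pa : P := PresentedGroup.of 0
noncomputable def px : P := PresentedGroup.of 1
noncomputable def pt : P := PresentedGroup.of 2

theorem pa3 : pa ^ 3 = 1 := by
  have h : PresentedGroup.mk rels (FreeGroup.of (0 : Fin 3) ^ 3) = 1 :=
    PresentedGroup.one_of_mem (by simp [rels])
  rwa [map_pow] at h

theorem px3 : px ^ 3 = 1 := by
  have h : PresentedGroup.mk rels (FreeGroup.of (1 : Fin 3) ^ 3) = 1 :=
    PresentedGroup.one_of_mem (by simp [rels])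
  rwa [map_pow] at h

theorem pt2 : pt ^ 2 = 1 := by
  have h : PresentedGroup.mk rels (FreeGroup.of (2 : Fin 3) ^ 2) = 1 :=
    PresentedGroup.one_of_mem (by simp [rels])
  rwa [map_pow] at h

theorem ptx2 : (pt * px) ^ 2 = 1 := by
  have h : PresentedGroup.mk rels ((FreeGroup.of (2 : Fin 3) * FreeGroup.of 1) ^ 2) = 1 :=
    PresentedGroup.one_of_mem (by simp [rels])
  rwa [map_pow, map_mul] at h

theorem pcomm : pa * (px * pa * px⁻¹) * pa⁻¹ * (px * pa * px⁻¹)⁻¹ = 1 := by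
  have h : PresentedGroup.mk rels (FreeGroup.of (0 : Fin 3) *
      (FreeGroup.of 1 * FreeGroup.of 0 * (FreeGroup.of 1)⁻¹) *
      (FreeGroup.of 0)⁻¹ * (FreeGroup.of 1 * FreeGroup.of 0 * (FreeGroup.of 1)⁻¹)⁻¹) = 1 :=
    PresentedGroup.one_of_mem (by simp [rels])
  simp only [map_mul, map_inv] at h
  exact h

theorem pta : pt * pa * pt⁻¹ * pa⁻¹ = 1 := by
  have h : PresentedGroup.mk rels (FreeGroup.of (2 : Fin 3) * FreeGroup.of 0 *
      (FreeGroup.of 2)⁻¹ * (FreeGroup.of 0)⁻¹) = 1 :=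
    PresentedGroup.one_of_mem (by simp [rels])
  simp only [map_mul, map_inv] at h
  exact h

/-! ### derived relations -/

theorem px3' : px * px * px = 1 := by
  have h := px3
  rwa [pow_succ, pow_two] at h

theorem pt2' : pt * pt = 1 := by
  have h := pt2
  rwa [pow_two] at h

theorem pt_inv : pt⁻¹ = pt := by
  have h := pt2
  rw [pow_two] at h
  exact inv_eq_of_mul_eq_one_left h

theorem px_inv : px⁻¹ = px ^ 2 := by
  have h := px3
  rw [pow_succ] at h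
  exact inv_eq_of_mul_eq_one_left h

theorem pa_inv : pa⁻¹ = pa ^ 2 := by
  have h := pa3
  rw [pow_succ] at h
  exact inv_eq_of_mul_eq_one_left h

/-- `t x t⁻¹ = x⁻¹` -/
theorem ptx : pt * px * pt⁻¹ = px⁻¹ := by
  have h := ptx2
  rw [pow_two] at h
  -- t x t x = 1
  have h2 : pt * px * pt = px⁻¹ := by
    have : pt * px * pt * px = 1 := by rw [← h]; group
    exact eq_inv_of_mul_eq_one_left this
  rw [pt_inv]; exact h2

noncomputable def p0 : P := pa
noncomputable def p1 : P := px * pa * px⁻¹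
noncomputable def p2 : P := px * p1 * px⁻¹

theorem px_p0 : px * p0 * px⁻¹ = p1 := rfl
theorem px_p1 : px * p1 * px⁻¹ = p2 := rfl
theorem px_p2 : px * p2 * px⁻¹ = p0 := by
  unfold p2 p1 p0
  have h : px * (px * (px * pa * px⁻¹) * px⁻¹) * px⁻¹ =
      (px * px * px) * pa * (px * px * px)⁻¹ := by group
  rw [h, px3']; group

theorem c01 : p0 * p1 = p1 * p0 := by
  have h := pcomm
  unfold p0 p1
  have : pa * (px * pa * px⁻¹) = (pa * (px * pa * px⁻¹) * pa⁻¹ * (px * pa * px⁻¹)⁻¹) *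
      ((px * pa * px⁻¹) * pa) := by group
  rw [this, h, one_mul]

theorem c12 : p1 * p2 = p2 * p1 := by
  have h := c01
  have : px * (p0 * p1) * px⁻¹ = px * (p1 * p0) * px⁻¹ := by rw [h]
  have e1 : px * (p0 * p1) * px⁻¹ = (px * p0 * px⁻¹) * (px * p1 * px⁻¹) := by group
  have e2 : px * (p1 * p0) * px⁻¹ = (px * p1 * px⁻¹) * (px * p0 * px⁻¹) := by group
  rw [e1, e2, px_p0, px_p1] at this
  exact this

theorem c20 : p2 * p0 = p0 * p2 := by
  have h := c12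
  have : px * (p1 * p2) * px⁻¹ = px * (p2 * p1) * px⁻¹ := by rw [h]
  have e1 : px * (p1 * p2) * px⁻¹ = (px * p1 * px⁻¹) * (px * p2 * px⁻¹) := by group
  have e2 : px * (p2 * p1) * px⁻¹ = (px * p2 * px⁻¹) * (px * p1 * px⁻¹) := by group
  rw [e1, e2, px_p1, px_p2] at this
  exact this

theorem pt_p0 : pt * p0 * pt⁻¹ = p0 := by
  have h := pta
  unfold p0
  have : pt * pa * pt⁻¹ = (pt * pa * pt⁻¹ * pa⁻¹) * pa := by group
  rw [this, h, one_mul]

theorem pt_p1 : pt * p1 * pt⁻¹ = p2 := by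
  unfold p1
  have e : pt * (px * pa * px⁻¹) * pt⁻¹ =
      (pt * px * pt⁻¹) * (pt * pa * pt⁻¹) * (pt * px * pt⁻¹)⁻¹ := by group
  rw [e, ptx]
  have := pt_p0
  unfold p0 at this
  rw [this]
  unfold p2 p1
  rw [inv_inv]
  have h : px * (px * pa * px⁻¹) * px⁻¹ = (px * px * px) * (px⁻¹ * pa * px) * (px * px * px)⁻¹ := by
    group
  rw [h, px3']; group

theorem pt_p2 : pt * p2 * pt⁻¹ = p1 := by
  have h := pt_p1
  have : pt * (pt * p1 * pt⁻¹) * pt⁻¹ = pt * p2 * pt⁻¹ := by rw [h]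
  rw [← this]
  have e : pt * (pt * p1 * pt⁻¹) * pt⁻¹ = (pt * pt) * p1 * (pt * pt)⁻¹ := by group
  rw [e, pt2']; group

theorem p0_3 : p0 ^ 3 = 1 := pa3
theorem p1_3 : p1 ^ 3 = 1 := by
  unfold p1
  rw [conj_pow, pa3]; group
theorem p2_3 : p2 ^ 3 = 1 := by
  unfold p2
  rw [conj_pow, p1_3]; group

/-- the normal form -/
noncomputable def nf (i j k l m : ℕ) : P := p0 ^ i * p1 ^ j * p2 ^ k * px ^ l * pt ^ m

theorem nf_zero : nf 0 0 0 0 0 = 1 := by simp [nf]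

theorem pa_nf (i j k l m : ℕ) : pa * nf i j k l m = nf (i + 1) j k l m := by
  unfold nf
  have : p0 ^ (i + 1) = pa * p0 ^ i := by rw [pow_succ']; rfl
  rw [this]; group

theorem conj_pow' (g h : P) (n : ℕ) : g * h ^ n * g⁻¹ = (g * h * g⁻¹) ^ n := (conj_pow).symm

theorem px_nf (i j k l m : ℕ) : px * nf i j k l m = nf k i j (l + 1) m := by
  unfold nf
  have e : px * (p0 ^ i * p1 ^ j * p2 ^ k * px ^ l * pt ^ m) =
      (px * p0 ^ i * px⁻¹) * (px * p1 ^ j * px⁻¹) * (px * p2 ^ k * px⁻¹) * (px * px ^ l) * pt ^ m := by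
    group
  rw [e, conj_pow', conj_pow', conj_pow', px_p0, px_p1, px_p2, ← pow_succ']
  have h1 : Commute (p0 ^ k) (p1 ^ i) := (show Commute p0 p1 from c01).pow_pow k i
  have h2 : Commute (p0 ^ k) (p2 ^ j) := (show Commute p0 p2 from c20.symm).pow_pow k j
  have : p1 ^ i * p2 ^ j * p0 ^ k = p0 ^ k * p1 ^ i * p2 ^ j := by
    rw [mul_assoc (p0 ^ k), ← (h1.mul_right h2).eq]
  rw [this]

theorem pt_px_pow (l : ℕ) : pt * px ^ l * pt⁻¹ = px ^ (2 * l) := by
  rw [conj_pow', ptx, px_inv, ← pow_mul]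

theorem pt_nf (i j k l m : ℕ) : pt * nf i j k l m = nf i k j (2 * l) (m + 1) := by
  unfold nf
  have e : pt * (p0 ^ i * p1 ^ j * p2 ^ k * px ^ l * pt ^ m) =
      (pt * p0 ^ i * pt⁻¹) * (pt * p1 ^ j * pt⁻¹) * (pt * p2 ^ k * pt⁻¹) * (pt * px ^ l * pt⁻¹) *
        (pt * pt ^ m) := by
    group
  rw [e, conj_pow', conj_pow', conj_pow', pt_p0, pt_p1, pt_p2, pt_px_pow, ← pow_succ']
  have h : Commute (p2 ^ j) (p1 ^ k) := (show Commute p2 p1 from c12.symm).pow_pow j k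
  rw [mul_assoc (p0 ^ i), h.eq, ← mul_assoc]

/-- every element is a normal form -/
theorem exists_nf (g : P) : ∃ i j k l m : ℕ, g = nf i j k l m := by
  have hg : g ∈ Subgroup.closure (Set.range (PresentedGroup.of : Fin 3 → P)) := by
    rw [PresentedGroup.closure_range_of]; exact Subgroup.mem_top g
  -- left multiplication by a generator preserves normal forms
  have key : ∀ s : Fin 3, ∀ y : P, (∃ i j k l m : ℕ, y = nf i j k l m) →
      ∃ i j k l m : ℕ, PresentedGroup.of s * y = nf i j k l m := by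
    intro s y ⟨i, j, k, l, m, hy⟩
    subst hy
    fin_cases s
    · exact ⟨i + 1, j, k, l, m, pa_nf i j k l m⟩
    · exact ⟨k, i, j, l + 1, m, px_nf i j k l m⟩
    · exact ⟨i, k, j, 2 * l, m + 1, pt_nf i j k l m⟩
  induction hg using Subgroup.closure_induction_left with
  | one => exact ⟨0, 0, 0, 0, 0, nf_zero.symm⟩
  | mul_left x hx y _ ih =>
    obtain ⟨s, rfl⟩ := hx
    exact key s y ih
  | inv_mul_cancel x hx y _ ih =>
    obtain ⟨s, rfl⟩ := hx
    fin_cases s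
    · have : (PresentedGroup.of (0 : Fin 3) : P)⁻¹ = pa * pa := by
        show pa⁻¹ = pa * pa
        rw [pa_inv, pow_two]
      show ∃ i j k l m : ℕ, (PresentedGroup.of (0 : Fin 3) : P)⁻¹ * y = nf i j k l m
      rw [this, mul_assoc]
      exact key 0 _ (key 0 y ih)
    · have : (PresentedGroup.of (1 : Fin 3) : P)⁻¹ = px * px := by
        show px⁻¹ = px * px
        rw [px_inv, pow_two]
      show ∃ i j k l m : ℕ, (PresentedGroup.of (1 : Fin 3) : P)⁻¹ * y = nf i j k l m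
      rw [this, mul_assoc]
      exact key 1 _ (key 1 y ih)
    · have : (PresentedGroup.of (2 : Fin 3) : P)⁻¹ = pt := pt_inv
      show ∃ i j k l m : ℕ, (PresentedGroup.of (2 : Fin 3) : P)⁻¹ * y = nf i j k l m
      rw [this]
      exact key 2 y ih

theorem pow_mod_of_pow_eq_one {G : Type*} [Group G] (g : G) (n : ℕ) (h : g ^ n = 1) (i : ℕ) :
    g ^ i = g ^ (i % n) := by
  conv_lhs => rw [← Nat.div_add_mod i n, pow_add, pow_mul, h, one_pow, one_mul]

theorem nf_mod (i j k l m : ℕ) : nf i j k l m = nf (i % 3) (j % 3) (k % 3) (l % 3) (m % 2) := by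
  unfold nf
  rw [pow_mod_of_pow_eq_one p0 3 p0_3 i, pow_mod_of_pow_eq_one p1 3 p1_3 j,
    pow_mod_of_pow_eq_one p2 3 p2_3 k, pow_mod_of_pow_eq_one px 3 px3 l,
    pow_mod_of_pow_eq_one pt 2 pt2 m]

noncomputable def nfFin (q : Fin 3 × Fin 3 × Fin 3 × Fin 3 × Fin 2) : P :=
  nf q.1.val q.2.1.val q.2.2.1.val q.2.2.2.1.val q.2.2.2.2.val

theorem nfFin_surjective : Function.Surjective nfFin := by
  intro g
  obtain ⟨i, j, k, l, m, rfl⟩ := exists_nf g
  refine ⟨(⟨i % 3, Nat.mod_lt _ (by norm_num)⟩, ⟨j % 3, Nat.mod_lt _ (by norm_num)⟩,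
    ⟨k % 3, Nat.mod_lt _ (by norm_num)⟩, ⟨l % 3, Nat.mod_lt _ (by norm_num)⟩,
    ⟨m % 2, Nat.mod_lt _ (by norm_num)⟩), ?_⟩
  rw [nf_mod i j k l m]
  rfl

theorem finite_P : Finite P := Finite.of_surjective nfFin nfFin_surjective

theorem card_P_le : Nat.card P ≤ 162 := by
  have := finite_P
  have h := Nat.card_le_card_of_surjective nfFin nfFin_surjective
  simpa using h

end Cfsg.Agent.Helper56.Wr162
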