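import Mathlib
import Cfsg.Agent.Helper56.Wr162Pres

/-!
# The centralizer of `(012)(345)(678)` in `Sym(9)` is the presented group of `Wr162Pres`
-/

set_option autoImplicit false

namespace Cfsg.Agent.Helper56.Wr162

/-- the product of three disjoint 3-cycles -/
def cc : Equiv.Perm (Fin 9) :=
  Equiv.swap (0 : Fin 9) 1 * Equiv.swap 1 2 * Equiv.swap 3 4 * Equiv.swap 4 5 * Equiv.swap 6 7 *
    Equiv.swap 7 8

set_option maxRecDepth 100000 in
theorem cc_cycleType : cc.cycleType = {3, 3, 3} := by decide +kernel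

theorem card_centralizer_cc :
    Nat.card (Subgroup.centralizer ({cc} : Set (Equiv.Perm (Fin 9)))) = 162 := by
  rw [Equiv.Perm.nat_card_centralizer, cc_cycleType]
  decide

def qa : Equiv.Perm (Fin 9) := Equiv.swap (0 : Fin 9) 1 * Equiv.swap 1 2
def qx : Equiv.Perm (Fin 9) :=
  Equiv.swap (0 : Fin 9) 3 * Equiv.swap 3 6 * Equiv.swap 1 4 * Equiv.swap 4 7 * Equiv.swap 2 5 *
    Equiv.swap 5 8
def qt : Equiv.Perm (Fin 9) := Equiv.swap (3 : Fin 9) 6 * Equiv.swap 4 7 * Equiv.swap 5 8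

abbrev Cc : Subgroup (Equiv.Perm (Fin 9)) := Subgroup.centralizer ({cc} : Set (Equiv.Perm (Fin 9)))

theorem mem_Cc (g : Equiv.Perm (Fin 9)) : g ∈ Cc ↔ cc * g = g * cc := by
  rw [Subgroup.mem_centralizer_iff]
  constructor
  · intro h; exact h cc rfl
  · intro h x hx
    rw [Set.mem_singleton_iff] at hx
    subst hx; exact h

set_option maxRecDepth 100000 in
theorem qa_mem : qa ∈ Cc := by rw [mem_Cc]; decide +kernel
set_option maxRecDepth 100000 in
theorem qx_mem : qx ∈ Cc := by rw [mem_Cc]; decide +kernel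
set_option maxRecDepth 100000 in
theorem qt_mem : qt ∈ Cc := by rw [mem_Cc]; decide +kernel

set_option maxRecDepth 100000 in
theorem qa3 : qa ^ 3 = 1 := by decide +kernel
set_option maxRecDepth 100000 in
theorem qx3 : qx ^ 3 = 1 := by decide +kernel
set_option maxRecDepth 100000 in
theorem qt2 : qt ^ 2 = 1 := by decide +kernel
set_option maxRecDepth 100000 in
theorem qtx2 : (qt * qx) ^ 2 = 1 := by decide +kernel
set_option maxRecDepth 100000 in
theorem qcomm : qa * (qx * qa * qx⁻¹) * qa⁻¹ * (qx * qa * qx⁻¹)⁻¹ = 1 := by decide +kernel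
set_option maxRecDepth 100000 in
theorem qta : qt * qa * qt⁻¹ * qa⁻¹ = 1 := by decide +kernel

/-- the homomorphism from the presented group to the centralizer -/
noncomputable def ψ : P →* Cc :=
  homOf (⟨qa, qa_mem⟩ : Cc) ⟨qx, qx_mem⟩ ⟨qt, qt_mem⟩
    (Subtype.ext qa3) (Subtype.ext qx3) (Subtype.ext qt2) (Subtype.ext qtx2)
    (Subtype.ext qcomm) (Subtype.ext qta)

theorem ψ_pa : ((ψ pa : Cc) : Equiv.Perm (Fin 9)) = qa := by
  unfold ψ pa; rw [homOf_a]
theorem ψ_px : ((ψ px : Cc) : Equiv.Perm (Fin 9)) = qx := by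
  unfold ψ px; rw [homOf_x]
theorem ψ_pt : ((ψ pt : Cc) : Equiv.Perm (Fin 9)) = qt := by
  unfold ψ pt; rw [homOf_t]

/-- normal forms in `Sym(9)` -/
def qnf (q : Fin 3 × Fin 3 × Fin 3 × Fin 3 × Fin 2) : Equiv.Perm (Fin 9) :=
  qa ^ q.1.val * (qx * qa * qx⁻¹) ^ q.2.1.val * (qx * (qx * qa * qx⁻¹) * qx⁻¹) ^ q.2.2.1.val *
    qx ^ q.2.2.2.1.val * qt ^ q.2.2.2.2.val

set_option maxRecDepth 100000 in
theorem qnf_injective : Function.Injective qnf := by decide +kernel

theorem ψ_nfFin (q : Fin 3 × Fin 3 × Fin 3 × Fin 3 × Fin 2) :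
    ((ψ (nfFin q) : Cc) : Equiv.Perm (Fin 9)) = qnf q := by
  unfold nfFin nf qnf p0 p2 p1
  simp only [map_mul, map_pow, map_inv, Subgroup.coe_mul, Subgroup.coe_pow, Subgroup.coe_inv,
    ψ_pa, ψ_px, ψ_pt]

theorem ψ_injective : Function.Injective ψ := by
  intro g h hgh
  obtain ⟨q1, rfl⟩ := nfFin_surjective g
  obtain ⟨q2, rfl⟩ := nfFin_surjective h
  have : qnf q1 = qnf q2 := by rw [← ψ_nfFin, ← ψ_nfFin, hgh]
  rw [qnf_injective this]

theorem nfFin_injective : Function.Injective nfFin := by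
  intro q1 q2 h
  apply qnf_injective
  rw [← ψ_nfFin, ← ψ_nfFin, h]

theorem card_P : Nat.card P = 162 := by
  rw [← Nat.card_congr (Equiv.ofBijective nfFin ⟨nfFin_injective, nfFin_surjective⟩)]
  simp

theorem ψ_bijective : Function.Bijective ψ := by
  have := finite_P
  have hfin : Finite Cc := inferInstance
  rw [Nat.bijective_iff_injective_and_card]
  exact ⟨ψ_injective, by rw [card_P, card_centralizer_cc]⟩

/-- the presented group is the centralizer -/
noncomputable def isoCc : P ≃* Cc := MulEquiv.ofBijective ψ ψ_bijective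

/-- recognition: a group of order 162 generated by elements satisfying the relations -/
theorem nonempty_iso_of_gens {G : Type*} [Group G] (hG : Nat.card G = 162) (a x t : G)
    (ha : a ^ 3 = 1) (hx : x ^ 3 = 1) (ht : t ^ 2 = 1) (htx : (t * x) ^ 2 = 1)
    (hc : a * (x * a * x⁻¹) * a⁻¹ * (x * a * x⁻¹)⁻¹ = 1) (hta : t * a * t⁻¹ * a⁻¹ = 1)
    (hgen : Subgroup.closure {a, x, t} = (⊤ : Subgroup G)) :
    Nonempty (G ≃* Cc) := by
  have hfinG : Finite G := Nat.finite_of_card_ne_zero (by rw [hG]; norm_num)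
  have := finite_P
  let φ : P →* G := homOf a x t ha hx ht htx hc hta
  have hsurj : Function.Surjective φ := by
    rw [← MonoidHom.range_eq_top, eq_top_iff, ← hgen, Subgroup.closure_le]
    intro g hg
    simp only [Set.mem_insert_iff, Set.mem_singleton_iff] at hg
    rcases hg with rfl | rfl | rfl
    · exact ⟨PresentedGroup.of 0, homOf_a _ _ _ _ _ _ _ _ _⟩
    · exact ⟨PresentedGroup.of 1, homOf_x _ _ _ _ _ _ _ _ _⟩
    · exact ⟨PresentedGroup.of 2, homOf_t _ _ _ _ _ _ _ _ _⟩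
  have hbij : Function.Bijective φ := by
    rw [Nat.bijective_iff_surjective_and_card]
    exact ⟨hsurj, by rw [card_P, hG]⟩
  exact ⟨(MulEquiv.ofBijective φ hbij).symm.trans isoCc⟩

end Cfsg.Agent.Helper56.Wr162
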