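import Mathlib
import Cfsg.Agent.Helper17.SylowKit
import Cfsg.Agent.Helper56.Wr162Perm

/-!
# Structure of a group of order `162` satisfying the hypotheses of S3376
-/

set_option autoImplicit false

namespace Cfsg.Agent.Helper56.Wr162

open Subgroup

/-- adjoining an element outside a subgroup of prime index gives everything -/
theorem sup_zpowers_eq_of_card {G : Type*} [Group G] [Finite G] (H K : Subgroup G) (hHK : H ≤ K)
    (p : ℕ) (hp : p.Prime) (hK : Nat.card K = p * Nat.card H) (g : G) (hgK : g ∈ K)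
    (hgH : g ∉ H) : H ⊔ zpowers g = K := by
  have hle : H ⊔ zpowers g ≤ K := sup_le hHK ((zpowers_le).2 hgK)
  apply Subgroup.eq_of_le_of_card_ge hle
  have h1 : Nat.card H ∣ Nat.card ↥(H ⊔ zpowers g) := Subgroup.card_dvd_of_le le_sup_left
  have h2 : Nat.card ↥(H ⊔ zpowers g) ∣ Nat.card K := Subgroup.card_dvd_of_le hle
  obtain ⟨d, hd⟩ := h1
  rw [hd, hK, mul_comm p] at h2
  have hHpos : 0 < Nat.card H := Nat.card_pos
  have hdp : d ∣ p := Nat.dvd_of_mul_dvd_mul_left hHpos h2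
  rcases (Nat.dvd_prime hp).1 hdp with rfl | rfl
  · exfalso
    apply hgH
    have : H ⊔ zpowers g = H := by
      symm
      apply Subgroup.eq_of_le_of_card_ge le_sup_left
      rw [hd, mul_one]
    rw [← this]
    exact (le_sup_right : zpowers g ≤ _) (mem_zpowers g)
  · rw [hK, hd, mul_comm]

/-- if `t² = 1` then `s t s⁻¹ t⁻¹` is inverted by `t` -/
theorem inv_lemma {G : Type*} [Group G] (s t : G) (ht : t * t = 1) :
    t * (s * t * s⁻¹ * t⁻¹) * t⁻¹ = (s * t * s⁻¹ * t⁻¹)⁻¹ := by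
  have hti : t⁻¹ = t := inv_eq_of_mul_eq_one_left ht
  have e1 : t * (s * t * s⁻¹ * t⁻¹) * t⁻¹ = t * s * t * s⁻¹ * (t⁻¹ * t⁻¹) := by group
  have e2 : (s * t * s⁻¹ * t⁻¹)⁻¹ = t * s * t⁻¹ * s⁻¹ := by group
  rw [e1, e2, hti, ht, mul_one]

/-- identities in a commutative group, via `abel` -/
theorem comm_id1 {M : Type*} [CommGroup M] (v w v' w' : M) :
    (v * w)⁻¹ * (v' * w') = v⁻¹ * v' * (w⁻¹ * w') := by
  apply Additive.ofMul.injective
  simp only [ofMul_mul, ofMul_inv]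
  abel

theorem comm_id2 {M : Type*} [CommGroup M] (v0 v1 v2 : M) :
    (v0⁻¹ * v1)⁻¹ * (v1⁻¹ * v2) = v0 * v1 * v2 * (v1 ^ 3)⁻¹ := by
  apply Additive.ofMul.injective
  simp only [ofMul_mul, ofMul_inv, ofMul_pow]
  abel

theorem comm_id3 {M : Type*} [CommGroup M] (w0 w1 w2 w3 : M) :
    ((w0⁻¹ * w1)⁻¹ * (w1⁻¹ * w2))⁻¹ * ((w1⁻¹ * w2)⁻¹ * (w2⁻¹ * w3)) =
      w0⁻¹ * w3 * w1 ^ 3 * (w2 ^ 3)⁻¹ := by
  apply Additive.ofMul.injective
  simp only [ofMul_mul, ofMul_inv, ofMul_pow]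
  abel

/-- the set-up of S3376, with the first consequences -/
structure Setup (G : Type*) [Group G] [Finite G] where
  S : Subgroup G
  J : Subgroup G
  Z : Subgroup G
  τ : G
  hG : Nat.card G = 162
  hS : Nat.card S = 81
  hSn : S.Normal
  hJn : J.Normal
  hJcomm : ∀ u ∈ J, ∀ w ∈ J, u * w = w * u
  hJexp : ∀ u ∈ J, u ^ 3 = 1
  hJcard : Nat.card J = 27
  hJS : J ≤ S
  hZ : ∀ z : G, z ∈ Z ↔ z ∈ S ∧ ∀ s ∈ S, s * z = z * s
  hZcard : Nat.card Z = 3
  hτ2 : τ * τ = 1
  hτ1 : τ ≠ 1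
  hZτ : ∀ z ∈ Z, τ * z = z * τ
  hSτ : ¬ ∀ s ∈ S, τ * s = s * τ

theorem setup_of_hyp {G : Type*} [Group G] [Finite G] (hG : Nat.card G = 162)
    (S : Sylow 3 G) (T : Sylow 2 G) (J : Subgroup G) [hJn : J.Normal] (hJcomm : IsMulCommutative J)
    (hJexp : ∀ a ∈ J, a ^ 3 = 1) (hJcard : Nat.card J = 27)
    (Z : Subgroup G)
    (hZ : Z = (S : Subgroup G) ⊓ Subgroup.centralizer ((S : Subgroup G) : Set G))
    (hZcard : Nat.card Z = 3)
    (hZT : Z ≤ Subgroup.centralizer ((T : Subgroup G) : Set G))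
    (hST : (S : Subgroup G) ⊓ Subgroup.centralizer ((T : Subgroup G) : Set G) ≠ S) :
    Nonempty (Setup G) := by
  have h3 : Fact (Nat.Prime 3) := ⟨by norm_num⟩
  have h2 : Fact (Nat.Prime 2) := ⟨by norm_num⟩
  have hS81 : Nat.card (S : Subgroup G) = 81 := by
    have := Helper17.card_sylow_subgroup_of_card_eq (p := 3) (k := 4) (m := 2)
      (by rw [hG]; norm_num) (by norm_num) S
    simpa using this
  have hT2 : Nat.card (T : Subgroup G) = 2 := by
    have := Helper17.card_sylow_subgroup_of_card_eq (p := 2) (k := 1) (m := 81)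
      (by rw [hG]; norm_num) (by norm_num) T
    simpa using this
  -- `S` is normal
  have hSidx : (S : Subgroup G).index = 2 := by
    have := (S : Subgroup G).card_mul_index
    rw [hS81, hG] at this
    omega
  have hSn : (S : Subgroup G).Normal := Subgroup.normal_of_index_eq_two hSidx
  -- `J ≤ S`
  have hJS : J ≤ (S : Subgroup G) := by
    have hJp : IsPGroup 3 J := IsPGroup.of_card (n := 3) (by rw [hJcard]; norm_num)
    obtain ⟨Q, hQ⟩ := hJp.exists_le_sylow
    obtain ⟨g, hg⟩ := MulAction.exists_smul_eq G S Q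
    have hSn' : (S : Subgroup G).Normal := hSn
    have : Q = S := by
      rw [← hg]; exact Sylow.smul_eq_of_normal
    rw [← this]; exact hQ
  -- the involution
  have hTne : (T : Subgroup G) ≠ ⊥ := by
    intro h
    rw [h, Subgroup.card_bot] at hT2
    omega
  obtain ⟨τ, hτT, hτ1⟩ : ∃ τ ∈ (T : Subgroup G), τ ≠ 1 := by
    rcases Subgroup.bot_or_exists_ne_one (T : Subgroup G) with h | h
    · exact absurd h hTne
    · exact h
  have hτ2 : τ * τ = 1 := by
    have h := pow_card_eq_one' (G := (T : Subgroup G)) (x := ⟨τ, hτT⟩)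
    rw [hT2] at h
    have h' := congrArg Subtype.val h
    simpa [pow_two] using h'
  -- `T = {1, τ}`
  have hTmem : ∀ h ∈ (T : Subgroup G), h = 1 ∨ h = τ := by
    intro h hh
    have hprime : Fact (Nat.card (T : Subgroup G)).Prime := ⟨by rw [hT2]; norm_num⟩
    have hne : (⟨τ, hτT⟩ : (T : Subgroup G)) ≠ 1 := fun h => hτ1 (congrArg Subtype.val h)
    have hmem : (⟨h, hh⟩ : (T : Subgroup G)) ∈ zpowers (⟨τ, hτT⟩ : (T : Subgroup G)) :=
      mem_zpowers_of_prime_card (p := Nat.card (T : Subgroup G)) rfl hne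
    obtain ⟨k, hk⟩ := hmem
    have hk' : τ ^ k = h := by
      have := congrArg Subtype.val hk
      simpa using this
    rcases Int.even_or_odd k with ⟨m, rfl⟩ | ⟨m, rfl⟩
    · left
      rw [← hk', ← two_mul, zpow_mul, zpow_two, hτ2, one_zpow]
    · right
      rw [← hk', zpow_add, zpow_mul, zpow_two, hτ2, one_zpow, one_mul, zpow_one]
  refine ⟨{ S := S, J := J, Z := Z, τ := τ, hG := hG, hS := hS81, hSn := hSn, hJn := hJn,
            hJcomm := ?_, hJexp := hJexp, hJcard := hJcard, hJS := hJS, hZ := ?_,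
            hZcard := hZcard, hτ2 := hτ2, hτ1 := hτ1, hZτ := ?_, hSτ := ?_ }⟩
  · intro u hu w hw
    have := hJcomm.is_comm.comm (⟨u, hu⟩ : J) ⟨w, hw⟩
    exact congrArg Subtype.val this
  · intro z
    rw [hZ, Subgroup.mem_inf, Subgroup.mem_centralizer_iff]
    rfl
  · intro z hz
    have := hZT hz
    rw [Subgroup.mem_centralizer_iff] at this
    exact this τ hτT
  · intro hall
    apply hST
    apply le_antisymm inf_le_left
    intro s hs
    refine Subgroup.mem_inf.2 ⟨hs, ?_⟩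
    rw [Subgroup.mem_centralizer_iff]
    intro h hh
    rcases hTmem h hh with rfl | rfl
    · rw [one_mul, mul_one]
    · exact hall s hs

namespace Setup

variable {G : Type*} [Group G] [Finite G] (D : Setup G)

theorem conjJ (g : G) {u : G} (hu : u ∈ D.J) : g * u * g⁻¹ ∈ D.J := D.hJn.conj_mem u hu g

theorem conjS (g : G) {u : G} (hu : u ∈ D.S) : g * u * g⁻¹ ∈ D.S := D.hSn.conj_mem u hu g

theorem τ_inv : D.τ⁻¹ = D.τ := inv_eq_of_mul_eq_one_left D.hτ2

/-- cubes of elements of `S` lie in `J` -/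
theorem cube_mem {s : G} (hs : s ∈ D.S) : s ^ 3 ∈ D.J := by
  have hJn := D.hJn
  have h81 : s ^ 81 = 1 := by
    have h := pow_card_eq_one' (G := D.S) (x := ⟨s, hs⟩)
    rw [D.hS] at h
    exact congrArg Subtype.val h
  have hq : Nat.card (G ⧸ D.J) = 6 := by
    have := Subgroup.card_eq_card_quotient_mul_card_subgroup D.J
    rw [D.hG, D.hJcard] at this
    omega
  have h6 : (QuotientGroup.mk' D.J s) ^ 6 = 1 := by
    have := pow_card_eq_one' (G := G ⧸ D.J) (x := QuotientGroup.mk' D.J s)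
    rwa [hq] at this
  have h81' : (QuotientGroup.mk' D.J s) ^ 81 = 1 := by rw [← map_pow, h81, map_one]
  have h3 : (QuotientGroup.mk' D.J s) ^ 3 = 1 := by
    have := (pow_gcd_eq_one (a := QuotientGroup.mk' D.J s) (m := 81) (n := 6)).2 ⟨h81', h6⟩
    simpa using this
  rw [← map_pow] at h3
  exact (QuotientGroup.eq_one_iff _).1 h3

theorem exists_x0 : ∃ x0 ∈ D.S, x0 ∉ D.J := by
  by_contra h
  push Not at h
  have : Nat.card D.S ≤ Nat.card D.J := Subgroup.card_le_of_le h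
  rw [D.hS, D.hJcard] at this
  omega

theorem sup_eq {x : G} (hx : x ∈ D.S) (hxJ : x ∉ D.J) : D.J ⊔ zpowers x = D.S :=
  sup_zpowers_eq_of_card D.J D.S D.hJS 3 (by norm_num) (by rw [D.hS, D.hJcard]) x hx hxJ

/-- an element of `J` commuting with some `x ∈ S \ J` is central in `S` -/
theorem mem_Z_of_comm {v x : G} (hv : v ∈ D.J) (hx : x ∈ D.S) (hxJ : x ∉ D.J)
    (h : x * v = v * x) : v ∈ D.Z := by
  rw [D.hZ]
  refine ⟨D.hJS hv, ?_⟩
  have hle : D.S ≤ centralizer {v} := by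
    rw [← D.sup_eq hx hxJ]
    apply sup_le
    · intro u hu
      rw [mem_centralizer_iff]
      intro w hw
      rw [Set.mem_singleton_iff] at hw
      subst hw
      exact D.hJcomm w hv u hu
    · rw [zpowers_le, mem_centralizer_iff]
      intro w hw
      rw [Set.mem_singleton_iff] at hw
      subst hw
      exact h.symm
  intro s hs
  have := hle hs
  rw [mem_centralizer_iff] at this
  exact (this v rfl).symm

theorem Z_le_J : D.Z ≤ D.J := by
  intro z hz
  by_contra hzJ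
  have hzS : z ∈ D.S := ((D.hZ z).1 hz).1
  -- then every element of `J` is central in `S`
  have hJZ : D.J ≤ D.Z := by
    intro v hv
    apply D.mem_Z_of_comm hv hzS hzJ
    exact ((D.hZ z).1 hz).2 v (D.hJS hv) |>.symm
  have := Subgroup.card_le_of_le hJZ
  rw [D.hJcard, D.hZcard] at this
  omega

theorem Z_comm {z : G} (hz : z ∈ D.Z) {s : G} (hs : s ∈ D.S) : s * z = z * s :=
  ((D.hZ z).1 hz).2 s hs

/-- the commutative group structure on `J` -/
@[reducible] def commJ : CommGroup D.J :=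
  { (inferInstance : Group D.J) with
    mul_comm := fun a b => Subtype.ext (D.hJcomm a a.2 b b.2) }

attribute [local instance] commJ

/-- conjugation on `J` -/
noncomputable def cj : G →* MulAut D.J := @MulAut.conjNormal G _ D.J D.hJn

theorem cj_apply (g : G) (v : D.J) : ((D.cj g v : D.J) : G) = g * v * g⁻¹ := rfl

theorem pow3 (v : D.J) : v ^ 3 = 1 := Subtype.ext (D.hJexp v v.2)

theorem cj_of_mem {j : G} (hj : j ∈ D.J) (v : D.J) : D.cj j v = v := by
  apply Subtype.ext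
  rw [cj_apply, D.hJcomm j hj v v.2, mul_inv_cancel_right]

theorem cj_cube {s : G} (hs : s ∈ D.S) (v : D.J) : D.cj s (D.cj s (D.cj s v)) = v := by
  have h : D.cj (s ^ 3) v = v := D.cj_of_mem (D.cube_mem hs) v
  rw [pow_succ, pow_two, map_mul, map_mul] at h
  exact h

theorem fixed_iff {x : G} (hx : x ∈ D.S) (hxJ : x ∉ D.J) (v : D.J) :
    D.cj x v = v ↔ (v : G) ∈ D.Z := by
  constructor
  · intro h
    apply D.mem_Z_of_comm v.2 hx hxJ
    have := congrArg Subtype.val h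
    rw [cj_apply] at this
    calc x * v = (x * v * x⁻¹) * x := by group
      _ = v * x := by rw [this]
  · intro h
    apply Subtype.ext
    rw [cj_apply, D.Z_comm h hx, mul_inv_cancel_right]

theorem cj_τ_of_Z (v : D.J) (hv : (v : G) ∈ D.Z) : D.cj D.τ v = v := by
  apply Subtype.ext
  rw [cj_apply, D.hZτ v hv, mul_inv_cancel_right]

theorem cj_τ_sq (v : D.J) : D.cj D.τ (D.cj D.τ v) = v := by
  have h : D.cj (D.τ * D.τ) v = v := by rw [D.hτ2, map_one]; rfl
  rwa [map_mul] at h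

theorem eq_one_of_sq_eq_one (w : D.J) (h : w * w = 1) : w = 1 := by
  have h3 := D.pow3 w
  rw [pow_succ, pow_two, h, one_mul] at h3
  exact h3

/-- if `τ` centralizes some `c ∈ S \ J` then it centralizes `J` -/
theorem τ_fix_of_comm {c : G} (hc : c ∈ D.S) (hcJ : c ∉ D.J) (hcτ : D.τ * c = c * D.τ)
    (v : D.J) : D.cj D.τ v = v := by
  set α := D.cj c with hα
  set β := D.cj D.τ with hβ
  have hαβ : ∀ u : D.J, β (α u) = α (β u) := by
    intro u
    have h1 : D.cj (D.τ * c) u = D.cj (c * D.τ) u := by rw [hcτ]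
    rwa [map_mul, map_mul] at h1
  -- the map `φ`
  let φ : D.J → D.J := fun w => w⁻¹ * α w
  have hJm : ∀ w : D.J, β w = w⁻¹ → β (φ w) = (φ w)⁻¹ := by
    intro w hw
    show β (w⁻¹ * α w) = (w⁻¹ * α w)⁻¹
    rw [map_mul, map_inv, hαβ, hw, map_inv, mul_inv_rev, inv_inv]
    exact mul_comm _ _
  have hker : ∀ w : D.J, β w = w⁻¹ → φ w = 1 → w = 1 := by
    intro w hw h1
    have h2 : α w = w := by
      have : w⁻¹ * α w = 1 := h1
      rw [inv_mul_eq_one] at this
      exact this.symm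
    have h3 : (w : G) ∈ D.Z := (D.fixed_iff hc hcJ w).1 h2
    have h4 : β w = w := D.cj_τ_of_Z w h3
    rw [h4] at hw
    apply D.eq_one_of_sq_eq_one
    calc w * w = w * w⁻¹ := by rw [← hw]
      _ = 1 := mul_inv_cancel w
  have hcube : ∀ w : D.J, φ (φ (φ w)) = 1 := by
    intro w
    show (((w⁻¹ * α w)⁻¹ * α (w⁻¹ * α w))⁻¹ * α ((w⁻¹ * α w)⁻¹ * α (w⁻¹ * α w))) = 1
    simp only [map_mul, map_inv]
    rw [comm_id3, D.cj_cube hc, D.pow3, D.pow3]
    simp
  -- now for `v`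
  set w := v * (β v)⁻¹ with hw
  have hwm : β w = w⁻¹ := by
    rw [hw, map_mul, map_inv, D.cj_τ_sq, mul_inv_rev, inv_inv]
  have h1 := hJm w hwm
  have h2 := hJm (φ w) h1
  have e2 : φ (φ w) = 1 := hker _ h2 (hcube w)
  have e1 : φ w = 1 := hker _ h1 e2
  have e0 : w = 1 := hker _ hwm e1
  rw [hw, mul_inv_eq_one] at e0
  exact e0.symm

/-- there is an element of `S \ J` inverted by `τ` -/
theorem exists_x : ∃ x ∈ D.S, x ∉ D.J ∧ D.τ * x * D.τ⁻¹ = x⁻¹ := by
  obtain ⟨x0, hx0, hx0J⟩ := D.exists_x0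
  set m := x0 * D.τ * x0⁻¹ * D.τ⁻¹ with hm
  have hmS : m ∈ D.S := by
    have h1 : D.τ * x0⁻¹ * D.τ⁻¹ ∈ D.S := D.conjS D.τ (D.S.inv_mem hx0)
    have : m = x0 * (D.τ * x0⁻¹ * D.τ⁻¹) := by rw [hm]; group
    rw [this]
    exact D.S.mul_mem hx0 h1
  have hminv : D.τ * m * D.τ⁻¹ = m⁻¹ := inv_lemma x0 D.τ D.hτ2
  by_cases hmJ : m ∈ D.J
  · exfalso
    set c := m * x0 with hc
    have hcS : c ∈ D.S := D.S.mul_mem hmS hx0
    have hcJ : c ∉ D.J := by
      intro h
      apply hx0J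
      have : x0 = m⁻¹ * c := by rw [hc]; group
      rw [this]
      exact D.J.mul_mem (D.J.inv_mem hmJ) h
    have hm3 : m⁻¹ * m⁻¹ = m := by
      have h3 := D.hJexp m hmJ
      have : m * m * m = 1 := by rw [← h3, pow_succ, pow_two]
      calc m⁻¹ * m⁻¹ = m⁻¹ * m⁻¹ * (m * m * m) := by rw [this, mul_one]
        _ = m := by group
    have hx0' : D.τ * x0 * D.τ⁻¹ = m⁻¹ * x0 := by rw [hm]; group
    have hcτ' : D.τ * c * D.τ⁻¹ = c := by
      have : D.τ * c * D.τ⁻¹ = (D.τ * m * D.τ⁻¹) * (D.τ * x0 * D.τ⁻¹) := by rw [hc]; group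
      rw [this, hminv, hx0', ← mul_assoc, hm3]
    have hcτ : D.τ * c = c * D.τ := by
      calc D.τ * c = (D.τ * c * D.τ⁻¹) * D.τ := by group
        _ = c * D.τ := by rw [hcτ']
    -- `τ` centralizes `J` and `c`, hence `S`
    apply D.hSτ
    have hle : D.S ≤ centralizer {D.τ} := by
      rw [← D.sup_eq hcS hcJ]
      apply sup_le
      · intro u hu
        rw [mem_centralizer_iff]
        intro t ht
        rw [Set.mem_singleton_iff] at ht
        subst ht
        have := congrArg Subtype.val (D.τ_fix_of_comm hcS hcJ hcτ ⟨u, hu⟩)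
        rw [cj_apply] at this
        calc D.τ * u = (D.τ * u * D.τ⁻¹) * D.τ := by group
          _ = u * D.τ := by rw [this]
      · rw [zpowers_le, mem_centralizer_iff]
        intro t ht
        rw [Set.mem_singleton_iff] at ht
        subst ht
        exact hcτ
    intro s hs
    have := hle hs
    rw [mem_centralizer_iff] at this
    exact this D.τ rfl
  · exact ⟨m, hmS, hmJ, hminv⟩

theorem x_cube {x : G} (hx : x ∈ D.S) (hxJ : x ∉ D.J) (hinv : D.τ * x * D.τ⁻¹ = x⁻¹) :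
    x ^ 3 = 1 := by
  have h1 : x ^ 3 ∈ D.J := D.cube_mem hx
  have h2 : x ^ 3 ∈ D.Z := by
    apply D.mem_Z_of_comm h1 hx hxJ
    rw [← pow_succ', ← pow_succ]
  have h3 : D.τ * x ^ 3 * D.τ⁻¹ = x ^ 3 := by
    rw [D.hZτ _ h2, mul_inv_cancel_right]
  have h4 : D.τ * x ^ 3 * D.τ⁻¹ = (x ^ 3)⁻¹ := by
    rw [← conj_pow, hinv, inv_pow]
  have h6 : x ^ 6 = 1 := by
    have : x ^ 3 * x ^ 3 = 1 := by
      nth_rewrite 1 [← h3]
      rw [h4, inv_mul_cancel]
    rw [← this, ← pow_add]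
  have h81 : x ^ 81 = 1 := by
    have h := pow_card_eq_one' (G := D.S) (x := ⟨x, hx⟩)
    rw [D.hS] at h
    exact congrArg Subtype.val h
  have := (pow_gcd_eq_one (a := x) (m := 81) (n := 6)).2 ⟨h81, h6⟩
  simpa using this

/-- `φ = α - 1` as a homomorphism of `J` -/
noncomputable def φh (x : G) : D.J →* D.J where
  toFun v := v⁻¹ * D.cj x v
  map_one' := by simp
  map_mul' v w := by
    rw [map_mul]
    exact comm_id1 v w _ _

theorem φh_apply (x : G) (v : D.J) : D.φh x v = v⁻¹ * D.cj x v := rfl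

/-- the norm `1 + α + α²` as a homomorphism of `J` -/
noncomputable def Nh (x : G) : D.J →* D.J where
  toFun v := v * D.cj x v * D.cj x (D.cj x v)
  map_one' := by simp
  map_mul' v w := by
    simp only [map_mul]
    apply Additive.ofMul.injective
    simp only [ofMul_mul]
    abel

theorem Nh_apply (x : G) (v : D.J) : D.Nh x v = v * D.cj x v * D.cj x (D.cj x v) := rfl

theorem Nh_eq (x : G) (v : D.J) : D.Nh x v = D.φh x (D.φh x v) := by
  rw [Nh_apply, φh_apply, φh_apply, map_mul, map_inv, comm_id2, D.pow3, inv_one, mul_one]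

theorem φh_eq_one_iff {x : G} (hx : x ∈ D.S) (hxJ : x ∉ D.J) (v : D.J) :
    D.φh x v = 1 ↔ (v : G) ∈ D.Z := by
  rw [φh_apply, inv_mul_eq_one, ← D.fixed_iff hx hxJ v]
  exact eq_comm

theorem cj_Nh {x : G} (hx : x ∈ D.S) (v : D.J) : D.cj x (D.Nh x v) = D.Nh x v := by
  rw [Nh_apply, map_mul, map_mul, D.cj_cube hx]
  apply Additive.ofMul.injective
  simp only [ofMul_mul]
  abel

theorem Nh_mem_Z {x : G} (hx : x ∈ D.S) (hxJ : x ∉ D.J) (v : D.J) : ((D.Nh x v : D.J) : G) ∈ D.Z :=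
  (D.fixed_iff hx hxJ _).1 (D.cj_Nh hx v)

theorem exists_Nh_ne_one {x : G} (hx : x ∈ D.S) (hxJ : x ∉ D.J) : ∃ v : D.J, D.Nh x v ≠ 1 := by
  by_contra h
  push Not at h
  have hfin : Finite D.J := inferInstance
  -- range ≤ ker
  have hle : (D.φh x).range ≤ (D.φh x).ker := by
    rintro _ ⟨v, rfl⟩
    rw [MonoidHom.mem_ker, ← Nh_eq]
    exact h v
  -- |ker| ≤ 3
  have hker : Nat.card (D.φh x).ker ≤ 3 := by
    rw [← D.hZcard]
    let f : (D.φh x).ker → D.Z := fun v =>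
      ⟨((v : D.J) : G), (D.φh_eq_one_iff hx hxJ v).1 v.2⟩
    apply Nat.card_le_card_of_injective f
    intro v w hvw
    have : ((f v : D.Z) : G) = f w := congrArg Subtype.val hvw
    exact Subtype.ext (Subtype.ext this)
  have hmul : Nat.card (D.φh x).ker * Nat.card (D.φh x).range = 27 := by
    rw [← Subgroup.index_ker, Subgroup.card_mul_index, D.hJcard]
  have hrange : Nat.card (D.φh x).range ≤ Nat.card (D.φh x).ker := Subgroup.card_le_of_le hle
  nlinarith

theorem cj_τ_x {x : G} (hinv : D.τ * x * D.τ⁻¹ = x⁻¹) (v : D.J) :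
    D.cj D.τ (D.cj x v) = (D.cj x)⁻¹ (D.cj D.τ v) := by
  have h1 : D.cj (D.τ * x) v = D.cj (x⁻¹ * D.τ) v := by
    have : D.τ * x = x⁻¹ * D.τ := by
      calc D.τ * x = (D.τ * x * D.τ⁻¹) * D.τ := by group
        _ = x⁻¹ * D.τ := by rw [hinv]
    rw [this]
  rwa [map_mul, map_mul, map_inv] at h1

theorem cj_inv_eq {x : G} (hx : x ∈ D.S) (v : D.J) : (D.cj x)⁻¹ v = D.cj x (D.cj x v) := by
  rw [MulAut.inv_apply, MulEquiv.symm_apply_eq, D.cj_cube hx]

theorem Nh_τ {x : G} (hx : x ∈ D.S) (hxJ : x ∉ D.J) (hinv : D.τ * x * D.τ⁻¹ = x⁻¹) (v : D.J) :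
    D.Nh x (D.cj D.τ v) = D.Nh x v := by
  -- `α β v = β α² v`, `α² β v = β α v`
  have h1 : D.cj x (D.cj x (D.cj D.τ v)) = D.cj D.τ (D.cj x v) := by
    rw [D.cj_τ_x hinv, D.cj_inv_eq hx]
  have h2 : D.cj x (D.cj D.τ v) = D.cj D.τ (D.cj x (D.cj x v)) := by
    rw [D.cj_τ_x hinv, D.cj_inv_eq hx, D.cj_τ_x hinv, D.cj_inv_eq hx, D.cj_cube hx]
  have h3 : D.Nh x (D.cj D.τ v) = D.cj D.τ (D.Nh x v) := by
    rw [Nh_apply, Nh_apply, h1, h2, map_mul, map_mul]
    apply Additive.ofMul.injective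
    simp only [ofMul_mul]
    abel
  rw [h3]
  exact D.cj_τ_of_Z _ (D.Nh_mem_Z hx hxJ v)

/-- the key element `a` -/
theorem exists_a {x : G} (hx : x ∈ D.S) (hxJ : x ∉ D.J) (hinv : D.τ * x * D.τ⁻¹ = x⁻¹) :
    ∃ a : D.J, D.cj D.τ a = a ∧ D.Nh x a ≠ 1 := by
  obtain ⟨v, hv⟩ := D.exists_Nh_ne_one hx hxJ
  refine ⟨v * D.cj D.τ v, ?_, ?_⟩
  · rw [map_mul, D.cj_τ_sq, mul_comm]
  · rw [map_mul, D.Nh_τ hx hxJ hinv]
    intro h
    exact hv (D.eq_one_of_sq_eq_one _ h)

theorem chain_lemma (A B C : Subgroup G) (hAB : A ≤ B) (hAB' : A ≠ B) (hBC : B ≤ C)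
    (hBC' : B ≠ C) (hCJ : C ≤ D.J) (hA : Nat.card A = 3) : C = D.J := by
  apply Subgroup.eq_of_le_of_card_ge hCJ
  obtain ⟨d1, h1⟩ := Subgroup.card_dvd_of_le hAB
  obtain ⟨d2, h2⟩ := Subgroup.card_dvd_of_le hBC
  obtain ⟨d3, h3⟩ := Subgroup.card_dvd_of_le hCJ
  have hd1 : d1 ≠ 1 := by
    rintro rfl
    apply hAB'
    exact Subgroup.eq_of_le_of_card_ge hAB (by rw [h1, mul_one])
  have hd2 : d2 ≠ 1 := by
    rintro rfl
    apply hBC'
    exact Subgroup.eq_of_le_of_card_ge hBC (by rw [h2, mul_one])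
  rw [D.hJcard, h2, h1, hA] at h3
  rw [D.hJcard, h2, h1, hA]
  have h9 : d1 * d2 * d3 = 9 := by
    have : 3 * (d1 * d2 * d3) = 27 := by rw [h3]; ring
    omega
  have hb1 : d1 ≤ 9 := Nat.le_of_dvd (by norm_num) ⟨d2 * d3, by rw [← h9]; ring⟩
  have hb2 : d2 ≤ 9 := Nat.le_of_dvd (by norm_num) ⟨d1 * d3, by rw [← h9]; ring⟩
  have hd10 : d1 ≠ 0 := by rintro rfl; simp at h9
  have hd20 : d2 ≠ 0 := by rintro rfl; simp at h9
  interval_cases d1 <;> interval_cases d2 <;> omega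

/-- generators satisfying the presentation -/
theorem exists_gens (D : Setup G) : ∃ a x t : G, a ^ 3 = 1 ∧ x ^ 3 = 1 ∧ t ^ 2 = 1 ∧ (t * x) ^ 2 = 1 ∧
      a * (x * a * x⁻¹) * a⁻¹ * (x * a * x⁻¹)⁻¹ = 1 ∧ t * a * t⁻¹ * a⁻¹ = 1 ∧
      Subgroup.closure {a, x, t} = (⊤ : Subgroup G) := by
  obtain ⟨x, hx, hxJ, hinv⟩ := D.exists_x
  have hx3 := D.x_cube hx hxJ hinv
  obtain ⟨a, haτ, haN⟩ := D.exists_a hx hxJ hinv
  refine ⟨(a : G), x, D.τ, D.hJexp a a.2, hx3, by rw [pow_two]; exact D.hτ2, ?_, ?_, ?_, ?_⟩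
  · rw [pow_two]
    have : D.τ * x * (D.τ * x) = (D.τ * x * D.τ⁻¹) * (D.τ * D.τ) * x := by group
    rw [this, hinv, D.hτ2]; group
  · have h1 : x * a * x⁻¹ ∈ D.J := D.conjJ x a.2
    have := D.hJcomm a a.2 _ h1
    rw [this]; group
  · have := congrArg Subtype.val haτ
    rw [cj_apply] at this
    rw [this]; group
  · set K := closure {(a : G), x, D.τ} with hK
    have haK : (a : G) ∈ K := subset_closure (by simp)
    have hxK : x ∈ K := subset_closure (by simp)
    have hτK : D.τ ∈ K := subset_closure (by simp)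
    have ha1K : ((D.cj x a : D.J) : G) ∈ K := by
      rw [cj_apply]; exact K.mul_mem (K.mul_mem hxK haK) (K.inv_mem hxK)
    have ha2K : ((D.cj x (D.cj x a) : D.J) : G) ∈ K := by
      rw [cj_apply]; exact K.mul_mem (K.mul_mem hxK ha1K) (K.inv_mem hxK)
    have hbK : ((D.φh x a : D.J) : G) ∈ K := by
      rw [φh_apply, Subgroup.coe_mul, Subgroup.coe_inv]
      exact K.mul_mem (K.inv_mem haK) ha1K
    have hzK : ((D.Nh x a : D.J) : G) ∈ K := by
      rw [Nh_apply, Subgroup.coe_mul, Subgroup.coe_mul]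
      exact K.mul_mem (K.mul_mem haK ha1K) ha2K
    -- `Z ≤ K`
    have hZK : D.Z ≤ K := by
      have hzZ := D.Nh_mem_Z hx hxJ a
      have hz1 : ((D.Nh x a : D.J) : G) ≠ 1 := fun h => haN (Subtype.ext h)
      have hle : zpowers ((D.Nh x a : D.J) : G) ≤ D.Z := (zpowers_le).2 hzZ
      have hcard : Nat.card (zpowers ((D.Nh x a : D.J) : G)) = 3 := by
        have hd : Nat.card (zpowers ((D.Nh x a : D.J) : G)) ∣ 3 :=
          D.hZcard ▸ Subgroup.card_dvd_of_le hle
        rcases (Nat.dvd_prime (by norm_num)).1 hd with h | h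
        · exfalso
          apply hz1
          have hbot := Subgroup.card_eq_one.1 h
          have := mem_zpowers ((D.Nh x a : D.J) : G)
          rw [hbot, mem_bot] at this
          exact this
        · exact h
      have : zpowers ((D.Nh x a : D.J) : G) = D.Z :=
        Subgroup.eq_of_le_of_card_ge hle (by rw [hcard, D.hZcard])
      rw [← this, zpowers_le]
      exact hzK
    set b : G := ((D.φh x a : D.J) : G) with hb
    have hbJ : b ∈ D.J := (D.φh x a).2
    have hbZ : b ∉ D.Z := by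
      intro h
      have := (D.φh_eq_one_iff hx hxJ (D.φh x a)).2 h
      rw [← Nh_eq] at this
      exact haN this
    let Kn : Subgroup G := (D.Nh x).ker.map D.J.subtype
    have hZKn : D.Z ≤ Kn := by
      intro z hz
      refine ⟨⟨z, D.Z_le_J hz⟩, ?_, rfl⟩
      rw [SetLike.mem_coe, MonoidHom.mem_ker, Nh_apply]
      have hfix : D.cj x ⟨z, D.Z_le_J hz⟩ = ⟨z, D.Z_le_J hz⟩ := (D.fixed_iff hx hxJ _).2 hz
      rw [hfix, hfix, ← pow_two, ← pow_succ]
      exact D.pow3 _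
    have hbKn : b ∈ Kn := by
      refine ⟨D.φh x a, ?_, rfl⟩
      rw [SetLike.mem_coe, MonoidHom.mem_ker, φh_apply, map_mul, map_inv]
      have : D.Nh x (D.cj x a) = D.cj x (D.Nh x a) := by
        rw [Nh_apply, Nh_apply, map_mul, map_mul]
      rw [this, D.cj_Nh hx, inv_mul_cancel]
    have haKn : (a : G) ∉ Kn := by
      rintro ⟨a', ha', haa'⟩
      have : a' = a := Subtype.ext haa'
      rw [this, SetLike.mem_coe, MonoidHom.mem_ker] at ha'
      exact haN ha'
    set B1 := D.Z ⊔ zpowers b with hB1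
    set B2 := B1 ⊔ zpowers (a : G) with hB2
    have hB1Kn : B1 ≤ Kn := sup_le hZKn ((zpowers_le).2 hbKn)
    have hJK : D.J ≤ K := by
      have hB2J : B2 = D.J := by
        apply D.chain_lemma D.Z B1 B2 le_sup_left ?_ le_sup_left ?_ ?_ D.hZcard
        · intro h
          apply hbZ
          rw [h]
          exact (le_sup_right : zpowers b ≤ B1) (mem_zpowers b)
        · intro h
          apply haKn
          apply hB1Kn
          rw [h]
          exact (le_sup_right : zpowers (a : G) ≤ B2) (mem_zpowers _)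
        · exact sup_le (sup_le D.Z_le_J ((zpowers_le).2 hbJ)) ((zpowers_le).2 a.2)
      rw [← hB2J]
      exact sup_le (sup_le hZK ((zpowers_le).2 hbK)) ((zpowers_le).2 haK)
    have hSK : D.S ≤ K := by
      rw [← D.sup_eq hx hxJ]
      exact sup_le hJK ((zpowers_le).2 hxK)
    have hτS : D.τ ∉ D.S := by
      intro h
      have h81 : D.τ ^ 81 = 1 := by
        have h' := pow_card_eq_one' (G := D.S) (x := ⟨D.τ, h⟩)
        rw [D.hS] at h'
        exact congrArg Subtype.val h'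
      have h2 : D.τ ^ 2 = 1 := by rw [pow_two]; exact D.hτ2
      have := (pow_gcd_eq_one (a := D.τ) (m := 81) (n := 2)).2 ⟨h81, h2⟩
      simp at this
      exact D.hτ1 this
    have htop : D.S ⊔ zpowers D.τ = ⊤ :=
      sup_zpowers_eq_of_card D.S ⊤ le_top 2 (by norm_num)
        (by rw [Subgroup.card_top, D.hG, D.hS]) D.τ (mem_top _) hτS
    rw [eq_top_iff, ← htop]
    exact sup_le hSK ((zpowers_le).2 hτK)

end Setup

end Cfsg.Agent.Helper56.Wr162
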